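import Groth.Agent.Pi1.H393.Approx
import Mathlib.AlgebraicGeometry.Morphisms.Flat
import Mathlib.RingTheory.FiniteType
import Mathlib.RingTheory.Localization.FractionRing

/-!
# The finitely generated normal subrings of a normal domain and their fraction fields (helper150)
-/

set_option autoImplicit false
set_option backward.isDefEq.respectTransparency false
set_option backward.isDefEq.respectTransparency.types false
set_option linter.unusedSectionVars false

open CategoryTheory CategoryTheory.Limits AlgebraicGeometry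

namespace K150.NormFam

universe u

variable (A : Type u) [CommRing A] [IsDomain A] [IsIntegrallyClosed A]

/-- The finitely generated normal subrings. -/
abbrev NSub : Type u :=
  {B : Subring A // (∃ T : Finset A, Subring.closure (T : Set A) = B) ∧ IsIntegrallyClosed B}

theorem exists_nsub (G : Finset A) : ∃ B : NSub A, (G : Set A) ⊆ B.1 := by
  obtain ⟨O₁, h1, h2, -, h3⟩ := Groth.Agent.Pi1.H393.Approx.exists_normal_subring G
  exact ⟨⟨O₁, h2, h3⟩, h1⟩

instance : Nonempty (NSub A) := ⟨(exists_nsub A ∅).choose⟩

theorem exists_nsub_ge (j : NSub A) (G : Finset A) : ∃ B : NSub A, j ≤ B ∧ (G : Set A) ⊆ B.1 := by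
  classical
  obtain ⟨T, hT⟩ := j.2.1
  obtain ⟨B, hB⟩ := exists_nsub A (T ∪ G)
  rw [Finset.coe_union, Set.union_subset_iff] at hB
  refine ⟨B, ?_, hB.2⟩
  change j.1 ≤ B.1
  rw [← hT, Subring.closure_le]
  exact hB.1

instance : IsDirectedOrder (NSub A) where
  directed a b := by
    obtain ⟨T, hT⟩ := b.2.1
    obtain ⟨B, h1, h2⟩ := exists_nsub_ge A a T
    refine ⟨B, h1, ?_⟩
    change b.1 ≤ B.1
    rw [← hT, Subring.closure_le]
    exact h2

/-- The family of rings. -/
def ringFam : NSub A →o Subring A where
  toFun j := j.1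
  monotone' _ _ h := h

theorem ringFam_cover (x : A) : ∃ j, x ∈ ringFam A j := by
  obtain ⟨B, hB⟩ := exists_nsub A {x}
  exact ⟨B, hB (by simp)⟩

instance (j : NSub A) : IsIntegrallyClosed (ringFam A j) := j.2.2

theorem finiteType (j : NSub A) : (Int.castRingHom (ringFam A j)).FiniteType := by
  obtain ⟨T, hT⟩ := j.2.1
  have h1 : Algebra.FiniteType ℤ (ringFam A j) := by
    have h2 : (subalgebraOfSubring (ringFam A j)).FG := by
      refine ⟨T, ?_⟩
      have h3 : (subalgebraOfSubring (ringFam A j)) = Algebra.adjoin ℤ (T : Set A) := by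
        rw [Algebra.adjoin_int]
        congr 1
        exact hT.symm
      exact h3.symm
    exact (Subalgebra.fg_iff_finiteType _).1 h2
  have h4 : Int.castRingHom (ringFam A j) = algebraMap ℤ (ringFam A j) := RingHom.ext_int _ _
  rw [h4, RingHom.finiteType_algebraMap]
  exact h1

instance (j : NSub A) : IsNoetherianRing (ringFam A j) := by
  have h1 := finiteType A j
  have h4 : Int.castRingHom (ringFam A j) = algebraMap ℤ (ringFam A j) := RingHom.ext_int _ _
  rw [h4, RingHom.finiteType_algebraMap] at h1
  exact Algebra.FiniteType.isNoetherianRing ℤ _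

variable (K : Type u) [Field K] [Algebra A K] [IsFractionRing A K]

/-- The family of the fraction fields. -/
def fieldFam : NSub A →o Subring K where
  toFun j := (Subfield.closure ((algebraMap A K) '' (j.1 : Set A))).toSubring
  monotone' _ _ h := Subfield.closure_mono (Set.image_mono h)

theorem mem_fieldFam (j : NSub A) (x : K) : x ∈ fieldFam A K j ↔
    ∃ a ∈ ringFam A j, ∃ b ∈ ringFam A j, b ≠ 0 ∧ x = algebraMap A K a / algebraMap A K b := by
  have h0 : Subring.closure ((algebraMap A K) '' (j.1 : Set A)) = j.1.map (algebraMap A K) := by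
    rw [← Subring.coe_map, Subring.closure_eq]
  constructor
  · intro hx
    have hx' : x ∈ Subfield.closure ((algebraMap A K) '' (j.1 : Set A)) := hx
    rw [Subfield.mem_closure_iff, h0] at hx'
    obtain ⟨_, ⟨a, ha, rfl⟩, _, ⟨b, hb, rfl⟩, rfl⟩ := hx'
    by_cases hb0 : b = 0
    · subst hb0
      exact ⟨0, Subring.zero_mem _, 1, Subring.one_mem _, one_ne_zero, by simp⟩
    · exact ⟨a, ha, b, hb, hb0, rfl⟩
  · rintro ⟨a, ha, b, hb, -, rfl⟩
    change _ ∈ Subfield.closure ((algebraMap A K) '' (j.1 : Set A))
    exact Subfield.div_mem _ (Subfield.subset_closure ⟨a, ha, rfl⟩) (Subfield.subset_closure ⟨b, hb, rfl⟩)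

theorem fieldFam_cover (x : K) : ∃ j, x ∈ fieldFam A K j := by
  classical
  obtain ⟨a, b, hb, rfl⟩ := IsFractionRing.div_surjective (A := A) x
  obtain ⟨B, hB⟩ := exists_nsub A {a, b}
  refine ⟨B, (mem_fieldFam A K B _).2 ⟨a, hB (by simp), b, hB (by simp), nonZeroDivisors.ne_zero hb, rfl⟩⟩

theorem isField (j : NSub A) : IsField (fieldFam A K j) :=
  (inferInstance : Field (Subfield.closure ((algebraMap A K) '' (j.1 : Set A)))).toIsField

/-- The inclusion. -/
def emb (j : NSub A) : ringFam A j →+* fieldFam A K j :=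
  ((algebraMap A K).comp (ringFam A j).subtype).codRestrict (fieldFam A K j)
    (fun x => (mem_fieldFam A K j _).2 ⟨x, x.2, 1, Subring.one_mem _, one_ne_zero, by simp⟩)

theorem subtype_comp_emb (j : NSub A) : (fieldFam A K j).subtype.comp (emb A K j) =
    (algebraMap A K).comp (ringFam A j).subtype := rfl

theorem emb_injective (j : NSub A) : Function.Injective (emb A K j) := by
  intro x y h
  apply Subtype.ext
  apply IsFractionRing.injective A K
  exact congrArg Subtype.val h

theorem isFractionRing (j : NSub A) : @IsFractionRing (ringFam A j) _ (fieldFam A K j) _ (emb A K j).toAlgebra := by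
  let _ : Algebra (ringFam A j) (fieldFam A K j) := (emb A K j).toAlgebra
  let _ : Field (fieldFam A K j) := (isField A K j).toField
  have hinj : FaithfulSMul (ringFam A j) (fieldFam A K j) :=
    (faithfulSMul_iff_algebraMap_injective _ _).2 (emb_injective A K j)
  refine IsFractionRing.of_field _ _ ?_
  rintro ⟨x, hx⟩
  obtain ⟨a, ha, b, hb, hb0, hx'⟩ := (mem_fieldFam A K j x).1 hx
  refine ⟨⟨a, ha⟩, ⟨b, hb⟩, ?_⟩
  have hb1 : emb A K j ⟨b, hb⟩ ≠ 0 := by
    rw [Ne, map_eq_zero_iff _ (emb_injective A K j)]
    intro h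
    exact hb0 (congrArg Subtype.val h)
  change _ = emb A K j ⟨a, ha⟩ / emb A K j ⟨b, hb⟩
  rw [eq_div_iff hb1]
  apply Subtype.ext
  change x * algebraMap A K b = algebraMap A K a
  rw [hx', div_mul_cancel₀]
  rw [Ne, map_eq_zero_iff _ (IsFractionRing.injective A K)]
  exact hb0

theorem emb_comp {i j : NSub A} (h : i ≤ j) : (emb A K j).comp (Subring.inclusion ((ringFam A).monotone h)) =
    (Subring.inclusion ((fieldFam A K).monotone h)).comp (emb A K i) := rfl

instance flat (j : NSub A) : Flat (Spec.map (CommRingCat.ofHom (fieldFam A K j).subtype)) := by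
  rw [Flat.SpecMap_iff]
  let _ : Field (fieldFam A K j) := (isField A K j).toField
  let _ : Algebra (fieldFam A K j) K := (fieldFam A K j).subtype.toAlgebra
  change (algebraMap (fieldFam A K j) K).Flat
  exact (RingHom.flat_algebraMap_iff).mpr inferInstance

instance surj (j : NSub A) : Surjective (Spec.map (CommRingCat.ofHom (fieldFam A K j).subtype)) := by
  let _ : Field (fieldFam A K j) := (isField A K j).toField
  constructor
  intro x
  exact ⟨(⊥ : PrimeSpectrum K), Subsingleton.elim (α := PrimeSpectrum (fieldFam A K j)) _ _⟩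

end K150.NormFam
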