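import Groth.Agent.Pi1.K150.Irr
import Groth.Agent.Sga3.H778.SecNbhd
import Groth.Agent.Flat2D.RatPointConn

/-!
# The section components of a smooth morphism have connected geometric fibres (helper150)
-/

set_option autoImplicit false
set_option backward.isDefEq.respectTransparency false
set_option backward.isDefEq.respectTransparency.types false
set_option linter.unusedSectionVars false

open CategoryTheory CategoryTheory.Limits AlgebraicGeometry TopologicalSpace

namespace K150.SecComp

universe u

/-- The open of section components. -/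
theorem exists_opens {S X : Scheme.{u}} (f : X ⟶ S) (s : S ⟶ X) (hs : s ≫ f = 𝟙 S)
    [Smooth f] [QuasiCompact f] [QuasiSeparated f] :
    ∃ V : X.Opens, (V : Set X) = MoreMor.sectionComponents f s :=
  ⟨⟨_, Groth.Agent.Sga3.H778.SecNbhd.isOpen_sectionComponents f s hs⟩, rfl⟩

/-- The geometric fibres of the open of section components are connected. -/
theorem connectedSpace_pullback {S X : Scheme.{u}} (f : X ⟶ S) (s : S ⟶ X) (hs : s ≫ f = 𝟙 S)
    (V : X.Opens) (hV : (V : Set X) = MoreMor.sectionComponents f s)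
    (K : Type u) [Field K] (t : Spec (CommRingCat.of K) ⟶ S) :
    ConnectedSpace ↥(pullback (V.ι ≫ f) t) := by
  let p := pullback.fst f t
  let q := pullback.snd f t
  have hP : IsPullback p q f t := IsPullback.of_hasPullback f t
  let s' : Spec (CommRingCat.of K) ⟶ pullback f t := hP.lift (t ≫ s) (𝟙 _) (by
    rw [Category.assoc, hs, Category.comp_id, Category.id_comp])
  have hs'1 : s' ≫ p = t ≫ s := hP.lift_fst _ _ _
  have hs'2 : s' ≫ q = 𝟙 _ := hP.lift_snd _ _ _
  have h1 := Groth.Agent.Flat2D.RatPointConn.sectionComponents_baseChange f s hs q p t hP s' hs'2 hs'1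
  have hsub : ∀ x y : Spec (CommRingCat.of K), x = y := fun x y => Subsingleton.elim (α := PrimeSpectrum K) x y
  obtain ⟨y₀⟩ : Nonempty (Spec (CommRingCat.of K)) := ⟨(⊥ : PrimeSpectrum K)⟩
  have h2 : MoreMor.sectionComponents q s' = connectedComponent (s' y₀) := by
    ext x
    have e1 : q ⁻¹' {q x} = Set.univ := by
      ext z
      simp only [Set.mem_preimage, Set.mem_singleton_iff, Set.mem_univ, iff_true]
      exact hsub _ _
    have e2 : s' (q x) = s' y₀ := congrArg s' (hsub _ _)
    change x ∈ connectedComponentIn (q ⁻¹' {q x}) (s' (q x)) ↔ _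
    rw [e1, e2, connectedComponentIn_univ]
  let a : pullback (V.ι ≫ f) t ⟶ pullback f t :=
    pullback.lift (pullback.fst _ _ ≫ V.ι) (pullback.snd _ _) (by
      rw [Category.assoc, pullback.condition])
  have ha1 : a ≫ p = pullback.fst _ _ ≫ V.ι := pullback.lift_fst _ _ _
  have ha2 : a ≫ q = pullback.snd _ _ := pullback.lift_snd _ _ _
  have h3 : IsPullback a (pullback.fst (V.ι ≫ f) t) p V.ι := by
    refine IsPullback.of_right (h₁₂ := q) (h₂₂ := f) (v₁₃ := t) ?_ ha1 hP.flip
    rw [ha2]
    exact (IsPullback.of_hasPullback (V.ι ≫ f) t).flip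
  have ha : IsOpenImmersion a := MorphismProperty.of_isPullback (P := @IsOpenImmersion) h3.flip inferInstance
  have hr : Set.range a = p ⁻¹' (V : Set X) := by
    have h4 := Scheme.image_preimage_eq_of_isPullback h3.flip Set.univ
    simp only [Set.preimage_univ, Set.image_univ] at h4
    rw [h4, Scheme.Opens.range_ι]
  rw [hV, ← h1, h2] at hr
  have h5 : _root_.IsPreconnected (a '' (Set.univ : Set ↥(pullback (V.ι ≫ f) t))) := by
    rw [Set.image_univ, hr]
    exact isPreconnected_connectedComponent
  rw [a.isOpenEmbedding.toIsInducing.isPreconnected_image] at h5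
  have h6 : PreconnectedSpace ↥(pullback (V.ι ≫ f) t) := ⟨h5⟩
  have h7 : s' y₀ ∈ Set.range a := by
    rw [hr]
    exact mem_connectedComponent
  obtain ⟨w, -⟩ := h7
  exact { toPreconnectedSpace := h6, toNonempty := ⟨w⟩ }

/-- A smooth morphism with connected geometric fibres maps into the section components. -/
theorem mem_of_isPullback {S X S₀ X₀ : Scheme.{u}} (f : X ⟶ S) [Smooth f]
    (hfib : ∀ (K : Type u) [Field K] [IsAlgClosed K] (t : Spec (CommRingCat.of K) ⟶ S),
      ConnectedSpace ↥(pullback f t))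
    (s : S ⟶ X) (hs : s ≫ f = 𝟙 S) {f₀ : X₀ ⟶ S₀} {g : X ⟶ X₀} {b : S ⟶ S₀} (h : IsPullback g f f₀ b)
    (s₀ : S₀ ⟶ X₀) (hs₀ : s₀ ≫ f₀ = 𝟙 S₀) (hg : s ≫ g = b ≫ s₀) (x : X) :
    g x ∈ MoreMor.sectionComponents f₀ s₀ := by
  have h1 := Groth.Agent.Flat2D.RatPointConn.sectionComponents_baseChange f₀ s₀ hs₀ f g b h s hs hg
  change x ∈ g ⁻¹' MoreMor.sectionComponents f₀ s₀
  rw [← h1]
  change x ∈ connectedComponentIn (f ⁻¹' {f x}) (s (f x))
  have h2 := (Irr.isIrreducible_fibre f hfib (f x)).isPreirreducible.isPreconnected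
  refine h2.subset_connectedComponentIn ?_ subset_rfl rfl
  change f (s (f x)) = f x
  rw [← Scheme.Hom.comp_apply, hs]
  rfl

end K150.SecComp
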