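import Groth.Agent.Pi1.H383.GalDesc
import Groth.Agent.Flat2D.SpecFGLimit

/-!
# The spectrum of a ring as the limit of the spectra of a directed family of subrings (helper150)
-/

set_option autoImplicit false
set_option backward.isDefEq.respectTransparency false
set_option backward.isDefEq.respectTransparency.types false
set_option linter.unusedSectionVars false

open CategoryTheory CategoryTheory.Limits AlgebraicGeometry
open Groth.Agent.Pi1B

namespace K150.SubLim

universe u v

section basic

variable {J : Type u} [Preorder J] [IsDirectedOrder J] [Nonempty J] {R : Type u} [CommRing R]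
  (F : J →o Subring R)

/-- The diagram of the subrings. -/
def ringDiagram : J ⥤ CommRingCat.{u} where
  obj j := CommRingCat.of (F j)
  map {i j} h := CommRingCat.ofHom (Subring.inclusion (F.monotone (leOfHom h)))
  map_id i := by ext x; rfl
  map_comp f g := by ext x; rfl

/-- The cocone with vertex `R`. -/
def ringCocone : Cocone (ringDiagram F) where
  pt := CommRingCat.of R
  ι := { app := fun j => CommRingCat.ofHom (F j).subtype
         naturality := fun i j h => by ext x; rfl }

/-- `R` is the colimit. -/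
noncomputable def isColimitRingCocone (hF : ∀ x : R, ∃ j, x ∈ F j) : IsColimit (ringCocone F) := by
  haveI : ReflectsColimit (ringDiagram F) (forget CommRingCat.{u}) :=
    reflectsColimit_of_reflectsIsomorphisms (ringDiagram F) (forget CommRingCat.{u})
  refine isColimitOfReflects (forget CommRingCat.{u}) ?_
  refine Types.FilteredColimit.isColimitOf _ _ ?_ ?_
  · intro x
    obtain ⟨j, hj⟩ := hF x
    exact ⟨j, ⟨x, hj⟩, rfl⟩
  · intro i j xi xj h
    obtain ⟨k, hik, hjk⟩ := exists_ge_ge i j
    refine ⟨k, homOfLE hik, homOfLE hjk, ?_⟩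
    exact Subtype.ext h

/-- The diagram of spectra. -/
noncomputable def specDiagram : Jᵒᵖ ⥤ Scheme.{u} := (ringDiagram F).op ⋙ Scheme.Spec

/-- The cone with vertex `Spec R`. -/
noncomputable def specCone : Cone (specDiagram F) where
  pt := Spec (CommRingCat.of R)
  π := { app := fun j => Spec.map (CommRingCat.ofHom (F j.unop).subtype)
         naturality := fun i j h => by
          dsimp [specDiagram]
          rw [Category.id_comp, ← Spec.map_comp]
          rfl }

/-- `Spec R` is the limit. -/
noncomputable def isLimitSpecCone (hF : ∀ x : R, ∃ j, x ∈ F j) : IsLimit (specCone F) :=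
  (isLimitOfPreserves Scheme.Spec (isColimitRingCocone F hF).op)

instance {i j : Jᵒᵖ} (h : i ⟶ j) : IsAffineHom ((specDiagram F).map h) :=
  inferInstanceAs (IsAffineHom (Spec.map _))

instance (j : Jᵒᵖ) : CompactSpace ((specDiagram F).obj j) :=
  inferInstanceAs (CompactSpace (Spec (CommRingCat.of (F j.unop))))

instance (j : Jᵒᵖ) : QuasiSeparatedSpace ((specDiagram F).obj j) :=
  inferInstanceAs (QuasiSeparatedSpace (Spec (CommRingCat.of (F j.unop))))

variable {C : Type u} [CommRing C] (c : C →+* R) (hc : ∀ j x, c x ∈ F j)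

/-- The structure map. -/
noncomputable def specBase : specDiagram F ⟶ (Functor.const _).obj (Spec (CommRingCat.of C)) where
  app j := Spec.map (CommRingCat.ofHom (c.codRestrict (F j.unop) (hc j.unop)))
  naturality i j h := by
    refine Eq.trans ?_ (Category.comp_id _).symm
    exact (Spec.map_comp (CommRingCat.ofHom (c.codRestrict (F j.unop) (hc j.unop)))
      (CommRingCat.ofHom (Subring.inclusion (F.monotone (leOfHom h.unop))))).symm

theorem specCone_str (j : Jᵒᵖ) :
    (specCone F).π.app j ≫ LimPull.str _ (specBase F c hc) j = Spec.map (CommRingCat.ofHom c) :=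
  (Spec.map_comp (CommRingCat.ofHom (c.codRestrict (F j.unop) (hc j.unop)))
    (CommRingCat.ofHom (F j.unop).subtype)).symm

/-- A morphism from `Spec R` to a scheme locally of finite presentation over `Spec C` factors through a stage. -/
theorem exists_factor (hF : ∀ x : R, ∃ j, x ∈ F j) {X : Scheme.{u}} (p : X ⟶ Spec (CommRingCat.of C))
    [LocallyOfFinitePresentation p] (a : Spec (CommRingCat.of R) ⟶ X)
    (ha : a ≫ p = Spec.map (CommRingCat.ofHom c)) :
    ∃ (j : J) (g : Spec (CommRingCat.of (F j)) ⟶ X),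
      Spec.map (CommRingCat.ofHom (F j).subtype) ≫ g = a ∧
        g ≫ p = Spec.map (CommRingCat.ofHom (c.codRestrict (F j) (hc j))) := by
  obtain ⟨j, g, h1, h2⟩ := Scheme.exists_π_app_comp_eq_of_locallyOfFinitePresentation (specDiagram F)
    (specBase F c hc) p (specCone F) (isLimitSpecCone F hF) a (by
      ext j
      exact (specCone_str F c hc j).trans ha.symm)
  exact ⟨j.unop, g, h1, h2⟩

variable {X : Scheme.{u}} (f : X ⟶ Spec (CommRingCat.of C))

/-- The cone over the pulled back diagram. -/
noncomputable abbrev pcone {P : Scheme.{u}} {p : P ⟶ X} {q : P ⟶ Spec (CommRingCat.of R)}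
    (hP : IsPullback p q f (Spec.map (CommRingCat.ofHom c))) :
    Cone (LimPull.pullDiag (specDiagram F) (specBase F c hc) f) :=
  LimPull.pullCone (specBase F c hc) f (specCone F) (Spec.map (CommRingCat.ofHom c)) (specCone_str F c hc) hP

noncomputable def isLimitPCone (hF : ∀ x : R, ∃ j, x ∈ F j) {P : Scheme.{u}} {p : P ⟶ X}
    {q : P ⟶ Spec (CommRingCat.of R)} (hP : IsPullback p q f (Spec.map (CommRingCat.ofHom c))) :
    IsLimit (pcone F c hc f hP) :=
  have : CategoryTheory.IsConnected Jᵒᵖ := IsCofiltered.isConnected _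
  LimPull.isLimitPullCone (specBase F c hc) f (specCone F) (Spec.map (CommRingCat.ofHom c))
    (specCone_str F c hc) hP (isLimitSpecCone F hF)

/-- Descent of principal covers to a stage. -/
theorem exists_principal (hF : ∀ x : R, ∃ j, x ∈ F j)
    [hfl : ∀ j, Flat (Spec.map (CommRingCat.ofHom (F j).subtype))]
    [hsu : ∀ j, Surjective (Spec.map (CommRingCat.ofHom (F j).subtype))]
    [QuasiCompact f] [QuasiSeparated f] {P : Scheme.{u}} {p : P ⟶ X}
    {q : P ⟶ Spec (CommRingCat.of R)} (hP : IsPullback p q f (Spec.map (CommRingCat.ofHom c)))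
    (G : Type v) [Group G] [Finite G] (Z : FEt.Cat P) (ρ' : G →* Aut Z) (hZ : SGA1t.IsPrincipal G Z ρ') :
    ∃ (j : J) (Q : Scheme.{u}) (p' : Q ⟶ X) (q' : Q ⟶ Spec (CommRingCat.of (F j)))
      (_ : IsPullback p' q' f (Spec.map (CommRingCat.ofHom (c.codRestrict (F j) (hc j)))))
      (r : P ⟶ Q) (_ : r ≫ p' = p) (_ : r ≫ q' = q ≫ Spec.map (CommRingCat.ofHom (F j).subtype))
      (W : FEt.Cat Q) (ρ : G →* Aut W), SGA1t.IsPrincipal G W ρ ∧ Nonempty ((FEt.restrict r).obj W ≅ Z) := by
  have h1 : ∀ j, Flat ((pcone F c hc f hP).π.app j) := fun j =>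
    MorphismProperty.of_isPullback (LimPull.isPullback_π (specBase F c hc) f (specCone F)
      (Spec.map (CommRingCat.ofHom c)) (specCone_str F c hc) hP j).flip (hfl j.unop)
  have h2 : ∀ j, Surjective ((pcone F c hc f hP).π.app j) := fun j =>
    MorphismProperty.of_isPullback (LimPull.isPullback_π (specBase F c hc) f (specCone F)
      (Spec.map (CommRingCat.ofHom c)) (specCone_str F c hc) hP j).flip (hsu j.unop)
  have h3 : ∀ j, QuasiCompact ((pcone F c hc f hP).π.app j) := fun j =>
    MorphismProperty.of_isPullback (LimPull.isPullback_π (specBase F c hc) f (specCone F)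
      (Spec.map (CommRingCat.ofHom c)) (specCone_str F c hc) hP j).flip
      (inferInstanceAs (QuasiCompact (Spec.map (CommRingCat.ofHom (F j.unop).subtype))))
  obtain ⟨j, W, ρ, e, he⟩ := Groth.Agent.Pi1.H383.ActDesc.exists_action (isLimitPCone F c hc f hF hP) G Z ρ'
  have hrefl := Groth.Agent.Pi1.H383.GalPrinc.reflectsIsomorphisms ((pcone F c hc f hP).π.app j)
  have h4 : SGA1t.IsPrincipal G W ρ :=
    Groth.Agent.Pi1.H416.PrincDesc.isPrincipal_of_iso ((pcone F c hc f hP).π.app j) G W ρ Z ρ' e he hZ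
  exact ⟨j.unop, _, _, _, LimPull.isPullback (specDiagram F) (specBase F c hc) f j,
    (pcone F c hc f hP).π.app j,
    LimPull.pullCone_fst (specBase F c hc) f (specCone F) (Spec.map (CommRingCat.ofHom c))
      (specCone_str F c hc) hP j,
    LimPull.pullCone_snd (specBase F c hc) f (specCone F) (Spec.map (CommRingCat.ofHom c))
      (specCone_str F c hc) hP j, W, ρ, h4, ⟨e⟩⟩

end basic

theorem incl_comp {J : Type u} [Preorder J] {R : Type u} [CommRing R] (F : J →o Subring R) {i j k : J}
    (h : i ≤ j) (h' : j ≤ k) :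
    (Subring.inclusion (F.monotone h')).comp (Subring.inclusion (F.monotone h)) =
      Subring.inclusion (F.monotone (h.trans h')) := rfl

theorem subtype_incl {J : Type u} [Preorder J] {R : Type u} [CommRing R] (F : J →o Subring R) {i j : J}
    (h : i ≤ j) : (F j).subtype.comp (Subring.inclusion (F.monotone h)) = (F i).subtype := rfl

section above

variable {J : Type u} [Preorder J] [IsDirectedOrder J] {R : Type u} [CommRing R]
  (F : J →o Subring R) (j₀ : J)

/-- The indices above `j₀`. -/
abbrev Above : Type u := {j : J // j₀ ≤ j}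

instance : Nonempty (Above j₀) := ⟨⟨j₀, le_rfl⟩⟩

instance : IsDirectedOrder (Above j₀) where
  directed a b := by
    obtain ⟨k, h1, h2⟩ := exists_ge_ge a.1 b.1
    exact ⟨⟨k, a.2.trans h1⟩, h1, h2⟩

/-- The restricted family. -/
def above : Above j₀ →o Subring R where
  toFun j := F j.1
  monotone' _ _ h := F.monotone h

theorem above_cover (hF : ∀ x : R, ∃ j, x ∈ F j) (x : R) : ∃ j, x ∈ above F j₀ j := by
  obtain ⟨j, hj⟩ := hF x
  obtain ⟨k, h1, h2⟩ := exists_ge_ge j₀ j
  exact ⟨⟨k, h1⟩, F.monotone h2 hj⟩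

theorem exists_factor_ge (hF : ∀ x : R, ∃ j, x ∈ F j) {X : Scheme.{u}} (p : X ⟶ Spec (CommRingCat.of (F j₀)))
    [LocallyOfFinitePresentation p] (a : Spec (CommRingCat.of R) ⟶ X)
    (ha : a ≫ p = Spec.map (CommRingCat.ofHom (F j₀).subtype)) :
    ∃ (j : J) (h : j₀ ≤ j) (g : Spec (CommRingCat.of (F j)) ⟶ X),
      Spec.map (CommRingCat.ofHom (F j).subtype) ≫ g = a ∧
        g ≫ p = Spec.map (CommRingCat.ofHom (Subring.inclusion (F.monotone h))) := by
  obtain ⟨j, g, h1, h2⟩ := exists_factor (above F j₀) (F j₀).subtype (fun j x => F.monotone j.2 x.2)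
    (above_cover F j₀ hF) p a ha
  exact ⟨j.1, j.2, g, h1, h2⟩

theorem exists_principal_ge (hF : ∀ x : R, ∃ j, x ∈ F j) {C : Type u} [CommRing C] (c : C →+* F j₀)
    {X : Scheme.{u}} (f : X ⟶ Spec (CommRingCat.of C))
    [hfl : ∀ j, Flat (Spec.map (CommRingCat.ofHom (F j).subtype))]
    [hsu : ∀ j, Surjective (Spec.map (CommRingCat.ofHom (F j).subtype))]
    [QuasiCompact f] [QuasiSeparated f] {P : Scheme.{u}} {p : P ⟶ X}
    {q : P ⟶ Spec (CommRingCat.of R)}
    (hP : IsPullback p q f (Spec.map (CommRingCat.ofHom ((F j₀).subtype.comp c))))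
    (G : Type v) [Group G] [Finite G] (Z : FEt.Cat P) (ρ' : G →* Aut Z) (hZ : SGA1t.IsPrincipal G Z ρ') :
    ∃ (j : J) (h : j₀ ≤ j) (Q : Scheme.{u}) (p' : Q ⟶ X) (q' : Q ⟶ Spec (CommRingCat.of (F j)))
      (_ : IsPullback p' q' f (Spec.map (CommRingCat.ofHom ((Subring.inclusion (F.monotone h)).comp c))))
      (r : P ⟶ Q) (_ : r ≫ p' = p) (_ : r ≫ q' = q ≫ Spec.map (CommRingCat.ofHom (F j).subtype))
      (W : FEt.Cat Q) (ρ : G →* Aut W), SGA1t.IsPrincipal G W ρ ∧ Nonempty ((FEt.restrict r).obj W ≅ Z) := by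
  have i1 : ∀ j, Flat (Spec.map (CommRingCat.ofHom ((above F j₀) j).subtype)) := fun j => hfl j.1
  have i2 : ∀ j, Surjective (Spec.map (CommRingCat.ofHom ((above F j₀) j).subtype)) := fun j => hsu j.1
  obtain ⟨j, Q, p', q', h1, r, h2, h3, W, ρ, h4, h5⟩ := exists_principal (above F j₀) ((F j₀).subtype.comp c)
    (fun j x => F.monotone j.2 (c x).2) f (above_cover F j₀ hF) hP G Z ρ' hZ
  exact ⟨j.1, j.2, Q, p', q', h1, r, h2, h3, W, ρ, h4, h5⟩

end above

end K150.SubLim
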