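import Groth.Agent.Pi1.K150.Core
import Groth.Agent.Pi1.K150.SecComp
import Groth.Agent.Pi1.K150.NormFam
import Groth.Agent.Pi1.K150.SubLim
import Groth.Agent.S5030

/-!
# Extension of principal covers of the generic fibre: approximation (helper150)
-/

set_option autoImplicit false
set_option backward.isDefEq.respectTransparency false
set_option backward.isDefEq.respectTransparency.types false
set_option linter.unusedSectionVars false

open CategoryTheory CategoryTheory.Limits AlgebraicGeometry TensorProduct TopologicalSpace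
open Groth.Agent.Pi1A.FEtAffine K150.NormFam K150.SubLim
open Groth.Agent.Pi1.H383.PrincBC

namespace K150.Approx

universe u v

/-- `Core.core` with a ring homomorphism. -/
theorem core' {B K : Type u} [CommRing B] [IsDomain B] [IsNoetherianRing B] [IsIntegrallyClosed B]
    (hBZ : (Int.castRingHom B).FiniteType) [CommRing K] (hK : IsField K) (φ : B →+* K)
    (hφ : @IsFractionRing B _ K _ φ.toAlgebra)
    {X U : Scheme.{u}} (f : X ⟶ Spec (CommRingCat.of B)) [Smooth f] [QuasiCompact f]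
    (hfib : ∀ (k : Type u) [Field k] [IsAlgClosed k] (t : Spec (CommRingCat.of k) ⟶ Spec (CommRingCat.of B)),
      ConnectedSpace ↥(pullback f t))
    (s : Spec (CommRingCat.of B) ⟶ X) (hs : s ≫ f = 𝟙 _)
    {j : U ⟶ X} {v : U ⟶ Spec (CommRingCat.of K)}
    (h : IsPullback j v f (Spec.map (CommRingCat.ofHom φ)))
    (Z : FEt.Cat U) (G : Type v) [Group G] [Finite G]
    (ρ : G →* Aut Z) (hρ : SGA1t.IsPrincipal G Z ρ)
    (z : Spec (CommRingCat.of K) ⟶ Z.left)
    (hz1 : z ≫ Z.hom ≫ j = Spec.map (CommRingCat.ofHom φ) ≫ s) (hz2 : z ≫ Z.hom ≫ v = 𝟙 _)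
    (hcard : IsUnit ((Nat.card G : ℕ) : B)) :
    ∃ Y : FEt.Cat X, Nonempty ((FEt.restrict j).obj Y ≅ Z) := by
  let _ := hK.toField
  let _ := φ.toAlgebra
  exact Core.core hBZ f hfib s hs h Z G ρ hρ z hz1 hz2 hcard

section model

variable {A : Type u} [CommRing A] [IsDomain A] [IsIntegrallyClosed A]

theorem exists_model {X : Scheme.{u}} (f : X ⟶ Spec (CommRingCat.of A)) [Smooth f] [QuasiCompact f]
    [QuasiSeparated f] :
    ∃ (j₀ : NSub A) (X₁ : Scheme.{u}) (f₁ : X₁ ⟶ Spec (CommRingCat.of (ringFam A j₀))) (g : X ⟶ X₁),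
      Smooth f₁ ∧ QuasiCompact f₁ ∧
        IsPullback g f f₁ (Spec.map (CommRingCat.ofHom (ringFam A j₀).subtype)) := by
  obtain ⟨A₀, ⟨T, hT⟩, X₀, f₀, g₀, hs, hqc, hpb⟩ := Groth.Agent.S5030.result A f
  obtain ⟨j₀, hj₀⟩ := exists_nsub A T
  have hle : ∀ x : A₀, (A₀.val x) ∈ ringFam A j₀ := by
    intro x
    have h1 : A₀ ≤ subalgebraOfSubring (ringFam A j₀) := by
      rw [← hT, Algebra.adjoin_le_iff]
      exact hj₀
    exact h1 x.2
  let c : A₀ →+* ringFam A j₀ := A₀.val.toRingHom.codRestrict (ringFam A j₀) hle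
  have hc : (ringFam A j₀).subtype.comp c = algebraMap A₀ A := rfl
  let b := Spec.map (CommRingCat.ofHom c)
  have hb : Spec.map (CommRingCat.ofHom (ringFam A j₀).subtype) ≫ b =
      Spec.map (CommRingCat.ofHom (algebraMap A₀ A)) := by
    rw [← Spec.map_comp, ← CommRingCat.ofHom_comp, hc]
  have hg : g₀ ≫ f₀ = (f ≫ Spec.map (CommRingCat.ofHom (ringFam A j₀).subtype)) ≫ b := by
    rw [Category.assoc, hb, hpb.w]
  refine ⟨j₀, pullback f₀ b, pullback.snd f₀ b, pullback.lift g₀ _ hg, inferInstance, inferInstance, ?_⟩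
  refine IsPullback.of_right (h₁₂ := pullback.fst f₀ b) (h₂₂ := b) (v₁₃ := f₀) ?_
    (pullback.lift_snd _ _ _) (IsPullback.of_hasPullback f₀ b)
  rw [pullback.lift_fst, hb]
  exact hpb

end model

theorem isPullback_factor {X S XB SB V : Scheme.{u}} {f : X ⟶ S} {fB : XB ⟶ SB} {b : S ⟶ SB}
    (i : V ⟶ XB) [Mono i] {gV : X ⟶ V} (h : IsPullback (gV ≫ i) f fB b) : IsPullback gV f (i ≫ fB) b := by
  refine ⟨⟨by rw [← Category.assoc, h.w]⟩, ⟨PullbackCone.IsLimit.mk _
    (fun s => h.lift (s.fst ≫ i) s.snd (by rw [Category.assoc]; exact s.condition))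
    (fun s => ?_) (fun s => h.lift_snd _ _ _) ?_⟩⟩
  · rw [← cancel_mono i, Category.assoc, h.lift_fst]
  · intro s m h1 h2
    apply h.hom_ext
    · rw [h.lift_fst, ← Category.assoc, h1]
    · rw [h2, h.lift_snd]

/-- The last step of the approximation. -/
theorem step {A B L K : Type u} [CommRing A] [CommRing B] [CommRing L] [CommRing K]
    [IsDomain B] [IsNoetherianRing B] [IsIntegrallyClosed B]
    (hBZ : (Int.castRingHom B).FiniteType) (hL : IsField L) (ε : B →+* L)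
    (hε : @IsFractionRing B _ L _ ε.toAlgebra) (a : B →+* A) (b : L →+* K) (κ : A →+* K)
    (hab : κ.comp a = b.comp ε)
    {X XB : Scheme.{u}} (f : X ⟶ Spec (CommRingCat.of A)) [Smooth f]
    (hfib : ∀ (k : Type u) [Field k] [IsAlgClosed k] (t : Spec (CommRingCat.of k) ⟶ Spec (CommRingCat.of A)),
      ConnectedSpace ↥(pullback f t))
    (s : Spec (CommRingCat.of A) ⟶ X) (hs : s ≫ f = 𝟙 _)
    (fB : XB ⟶ Spec (CommRingCat.of B)) [Smooth fB] [QuasiCompact fB] [QuasiSeparated fB]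
    (sB : Spec (CommRingCat.of B) ⟶ XB) (hsB : sB ≫ fB = 𝟙 _)
    {g : X ⟶ XB} (hg : IsPullback g f fB (Spec.map (CommRingCat.ofHom a)))
    (hsg : s ≫ g = Spec.map (CommRingCat.ofHom a) ≫ sB)
    {U Q : Scheme.{u}} {j : U ⟶ X} {v : U ⟶ Spec (CommRingCat.of K)}
    (hj : IsPullback j v f (Spec.map (CommRingCat.ofHom κ)))
    {p : Q ⟶ XB} {q : Q ⟶ Spec (CommRingCat.of L)}
    (hp : IsPullback p q fB (Spec.map (CommRingCat.ofHom ε)))
    {r : U ⟶ Q} (hr1 : r ≫ p = j ≫ g) (hr2 : r ≫ q = v ≫ Spec.map (CommRingCat.ofHom b))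
    (W : FEt.Cat Q) (G : Type v) [Group G] [Finite G]
    (ρ : G →* Aut W) (hρ : SGA1t.IsPrincipal G W ρ)
    (w : Spec (CommRingCat.of L) ⟶ W.left)
    (hw1 : w ≫ W.hom ≫ p = Spec.map (CommRingCat.ofHom ε) ≫ sB) (hw2 : w ≫ W.hom ≫ q = 𝟙 _)
    (hcard : IsUnit ((Nat.card G : ℕ) : B)) :
    ∃ Y : FEt.Cat X, Nonempty ((FEt.restrict j).obj Y ≅ (FEt.restrict r).obj W) := by
  obtain ⟨V, hV⟩ := SecComp.exists_opens fB sB hsB
  -- noetherianity
  have hXB : IsLocallyNoetherian XB := LocallyOfFiniteType.isLocallyNoetherian fB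
  have hXB2 : CompactSpace XB := QuasiCompact.compactSpace_of_compactSpace fB
  have hXB3 : IsNoetherian XB := {}
  have hVq : QuasiCompact (V.ι ≫ fB) := by
    have : QuasiCompact V.ι := inferInstance
    infer_instance
  have hVs : Smooth (V.ι ≫ fB) := inferInstance
  -- the morphism to `V`
  have hgr : Set.range g ⊆ Set.range V.ι := by
    rw [Scheme.Opens.range_ι]
    rintro _ ⟨x, rfl⟩
    change g x ∈ (V : Set XB)
    rw [hV]
    exact SecComp.mem_of_isPullback f hfib s hs hg sB hsB hsg x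
  let gV : X ⟶ (V : Scheme.{u}) := IsOpenImmersion.lift V.ι g hgr
  have hgV : gV ≫ V.ι = g := IsOpenImmersion.lift_fac _ _ _
  have hsr : Set.range sB ⊆ Set.range V.ι := by
    rw [Scheme.Opens.range_ι]
    rintro _ ⟨y, rfl⟩
    change sB y ∈ (V : Set XB)
    rw [hV]
    have h1 : fB (sB y) = y := by
      rw [← Scheme.Hom.comp_apply, hsB]
      rfl
    change sB y ∈ connectedComponentIn (fB ⁻¹' {fB (sB y)}) (sB (fB (sB y)))
    rw [h1]
    exact mem_connectedComponentIn h1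
  let sV : Spec (CommRingCat.of B) ⟶ (V : Scheme.{u}) := IsOpenImmersion.lift V.ι sB hsr
  have hsV : sV ≫ V.ι = sB := IsOpenImmersion.lift_fac _ _ _
  have hsVf : sV ≫ V.ι ≫ fB = 𝟙 _ := by rw [← Category.assoc, hsV, hsB]
  have hpbV : IsPullback gV f (V.ι ≫ fB) (Spec.map (CommRingCat.ofHom a)) :=
    isPullback_factor V.ι (by rw [hgV]; exact hg)
  -- the generic fibre
  let jV : pullback (V.ι ≫ fB) (Spec.map (CommRingCat.ofHom ε)) ⟶ (V : Scheme.{u}) := pullback.fst _ _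
  let vV : pullback (V.ι ≫ fB) (Spec.map (CommRingCat.ofHom ε)) ⟶ Spec (CommRingCat.of L) := pullback.snd _ _
  have hVL : IsPullback jV vV (V.ι ≫ fB) (Spec.map (CommRingCat.ofHom ε)) := IsPullback.of_hasPullback _ _
  let m : U ⟶ pullback (V.ι ≫ fB) (Spec.map (CommRingCat.ofHom ε)) :=
    hVL.lift (j ≫ gV) (v ≫ Spec.map (CommRingCat.ofHom b)) (by
      rw [Category.assoc, hpbV.w, ← Category.assoc, hj.w, Category.assoc, Category.assoc, ← Spec.map_comp,
        ← Spec.map_comp, ← CommRingCat.ofHom_comp, ← CommRingCat.ofHom_comp, hab])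
  have hm1 : m ≫ jV = j ≫ gV := hVL.lift_fst _ _ _
  have hm2 : m ≫ vV = v ≫ Spec.map (CommRingCat.ofHom b) := hVL.lift_snd _ _ _
  let n : pullback (V.ι ≫ fB) (Spec.map (CommRingCat.ofHom ε)) ⟶ Q := hp.lift (jV ≫ V.ι) vV (by
    rw [Category.assoc, hVL.w])
  have hn1 : n ≫ p = jV ≫ V.ι := hp.lift_fst _ _ _
  have hn2 : n ≫ q = vV := hp.lift_snd _ _ _
  have hmn : m ≫ n = r := by
    apply hp.hom_ext
    · rw [Category.assoc, hn1, ← Category.assoc, hm1, Category.assoc, hgV, hr1]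
    · rw [Category.assoc, hn2, hm2, hr2]
  let τ : Spec (CommRingCat.of L) ⟶ pullback (V.ι ≫ fB) (Spec.map (CommRingCat.ofHom ε)) :=
    hVL.lift (Spec.map (CommRingCat.ofHom ε) ≫ sV) (𝟙 _) (by
      rw [Category.assoc, hsVf, Category.comp_id, Category.id_comp])
  have hτ1 : τ ≫ jV = Spec.map (CommRingCat.ofHom ε) ≫ sV := hVL.lift_fst _ _ _
  have hτ2 : τ ≫ vV = 𝟙 _ := hVL.lift_snd _ _ _
  have hτn : τ ≫ n = w ≫ W.hom := by
    apply hp.hom_ext
    · rw [Category.assoc, hn1, ← Category.assoc, hτ1, Category.assoc, hsV, Category.assoc, hw1]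
    · rw [Category.assoc, hn2, hτ2, Category.assoc, hw2]
  let w' : Spec (CommRingCat.of L) ⟶ ((FEt.restrict n).obj W).left :=
    (isPullback n W).lift w τ hτn.symm
  have hw' : w' ≫ ((FEt.restrict n).obj W).hom = τ := (isPullback n W).lift_snd _ _ _
  obtain ⟨Y, ⟨e⟩⟩ := core' hBZ hL ε hε (V.ι ≫ fB)
    (fun k _ _ t => SecComp.connectedSpace_pullback fB sB hsB V hV k t) sV hsVf hVL
    ((FEt.restrict n).obj W) G (bcAction n ρ) (isPrincipal_bc n G W ρ hρ) w'
    (by rw [← Category.assoc, hw', hτ1]) (by rw [← Category.assoc, hw', hτ2]) hcard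
  refine ⟨(FEt.restrict gV).obj Y, ⟨?_⟩⟩
  exact (Groth.Agent.Pi1A.FEtGlue.restrictComp j gV).symm.app Y ≪≫
    (Groth.Agent.Pi1A.FEtGlue.restrictCongr hm1.symm).app Y ≪≫
    (Groth.Agent.Pi1A.FEtGlue.restrictComp m jV).app Y ≪≫ (FEt.restrict m).mapIso e ≪≫
    (Groth.Agent.Pi1A.FEtGlue.restrictComp m n).symm.app W ≪≫
    (Groth.Agent.Pi1A.FEtGlue.restrictCongr hmn).app W

theorem specComp {P Q R : Type u} [CommRing P] [CommRing Q] [CommRing R] (a : P →+* Q) (b : Q →+* R) :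
    Spec.map (CommRingCat.ofHom b) ≫ Spec.map (CommRingCat.ofHom a) = Spec.map (CommRingCat.ofHom (b.comp a)) := by
  rw [← Spec.map_comp, ← CommRingCat.ofHom_comp]

/-- The last step of the approximation, with the models over smaller rings. -/
theorem step2 {A B₀ B₁ B L₂ L K : Type u} [CommRing A] [CommRing B₀] [CommRing B₁] [CommRing B] [CommRing L₂]
    [CommRing L] [CommRing K]
    [IsDomain B] [IsNoetherianRing B] [IsIntegrallyClosed B]
    (hBZ : (Int.castRingHom B).FiniteType) (hL : IsField L) (ε : B →+* L)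
    (hε : @IsFractionRing B _ L _ ε.toAlgebra) (a : B →+* A) (b : L →+* K) (κ : A →+* K)
    (hab : κ.comp a = b.comp ε)
    (i₀ : B₀ →+* B) (i₁ : B₁ →+* B) (i₀₁ : B₀ →+* B₁) (h₀₁ : i₁.comp i₀₁ = i₀)
    (c : B₀ →+* L₂) (l : L₂ →+* L) (hcl : l.comp c = ε.comp i₀)
    {X X₁ : Scheme.{u}} (f : X ⟶ Spec (CommRingCat.of A)) [Smooth f]
    (hfib : ∀ (k : Type u) [Field k] [IsAlgClosed k] (t : Spec (CommRingCat.of k) ⟶ Spec (CommRingCat.of A)),
      ConnectedSpace ↥(pullback f t))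
    (s : Spec (CommRingCat.of A) ⟶ X) (hs : s ≫ f = 𝟙 _)
    (f₁ : X₁ ⟶ Spec (CommRingCat.of B₀)) [Smooth f₁] [QuasiCompact f₁] [QuasiSeparated f₁]
    {g : X ⟶ X₁} (hpb : IsPullback g f f₁ (Spec.map (CommRingCat.ofHom (a.comp i₀))))
    (σ : Spec (CommRingCat.of B₁) ⟶ X₁) (hσ1 : Spec.map (CommRingCat.ofHom (a.comp i₁)) ≫ σ = s ≫ g)
    (hσ2 : σ ≫ f₁ = Spec.map (CommRingCat.ofHom i₀₁))
    {U Q : Scheme.{u}} {j : U ⟶ X} {v : U ⟶ Spec (CommRingCat.of K)}
    (hj : IsPullback j v f (Spec.map (CommRingCat.ofHom κ)))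
    {p' : Q ⟶ X₁} {q' : Q ⟶ Spec (CommRingCat.of L₂)}
    (hQ : IsPullback p' q' f₁ (Spec.map (CommRingCat.ofHom c)))
    {r : U ⟶ Q} (hr1 : r ≫ p' = j ≫ g) (hr2 : r ≫ q' = v ≫ Spec.map (CommRingCat.ofHom (b.comp l)))
    (W : FEt.Cat Q) (G : Type v) [Group G] [Finite G]
    (ρ : G →* Aut W) (hρ : SGA1t.IsPrincipal G W ρ)
    (w : Spec (CommRingCat.of L) ⟶ W.left)
    (hwb : w ≫ W.hom ≫ q' = Spec.map (CommRingCat.ofHom l))
    (hwa : Spec.map (CommRingCat.ofHom b) ≫ w ≫ W.hom ≫ p' = Spec.map (CommRingCat.ofHom κ) ≫ s ≫ g)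
    [hepi : Epi (Spec.map (CommRingCat.ofHom b))]
    (hcard : IsUnit ((Nat.card G : ℕ) : B)) :
    ∃ Y : FEt.Cat X, Nonempty ((FEt.restrict j).obj Y ≅ (FEt.restrict r).obj W) := by
  -- the model over `B`
  obtain ⟨XB, gB, fB, hB⟩ : ∃ (XB : Scheme.{u}) (gB : XB ⟶ X₁) (fB : XB ⟶ Spec (CommRingCat.of B)),
      IsPullback gB fB f₁ (Spec.map (CommRingCat.ofHom i₀)) := ⟨_, _, _, IsPullback.of_hasPullback _ _⟩
  have hsmB : Smooth fB := MorphismProperty.of_isPullback (P := @Smooth) hB inferInstance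
  have hqcB : QuasiCompact fB := MorphismProperty.of_isPullback (P := @QuasiCompact) hB inferInstance
  have hqsB : QuasiSeparated fB := MorphismProperty.of_isPullback (P := @QuasiSeparated) hB inferInstance
  obtain ⟨sB, hsB1, hsB2⟩ : ∃ sB : Spec (CommRingCat.of B) ⟶ XB,
      sB ≫ gB = Spec.map (CommRingCat.ofHom i₁) ≫ σ ∧ sB ≫ fB = 𝟙 _ :=
    ⟨hB.lift (Spec.map (CommRingCat.ofHom i₁) ≫ σ) (𝟙 _) (by
      rw [Category.assoc, hσ2, specComp, Category.id_comp, h₀₁]), hB.lift_fst _ _ _, hB.lift_snd _ _ _⟩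
  obtain ⟨gX, hgX1, hgX2⟩ : ∃ gX : X ⟶ XB, gX ≫ gB = g ∧ gX ≫ fB = f ≫ Spec.map (CommRingCat.ofHom a) :=
    ⟨hB.lift g (f ≫ Spec.map (CommRingCat.ofHom a)) (by
      rw [Category.assoc, specComp, hpb.w]), hB.lift_fst _ _ _, hB.lift_snd _ _ _⟩
  have hgX : IsPullback gX f fB (Spec.map (CommRingCat.ofHom a)) := by
    refine IsPullback.of_right (h₁₂ := gB) (h₂₂ := Spec.map (CommRingCat.ofHom i₀)) (v₁₃ := f₁) ?_ hgX2 hB
    rw [hgX1, specComp]
    exact hpb
  have hsgX : s ≫ gX = Spec.map (CommRingCat.ofHom a) ≫ sB := by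
    apply hB.hom_ext
    · rw [Category.assoc, hgX1, Category.assoc, hsB1, ← Category.assoc, specComp, hσ1]
    · rw [Category.assoc, hgX2, ← Category.assoc, hs, Category.assoc, hsB2, Category.id_comp, Category.comp_id]
  -- the generic fibre of the model
  obtain ⟨Q₄, p₄, q₄, hQ₄⟩ : ∃ (Q₄ : Scheme.{u}) (p₄ : Q₄ ⟶ XB) (q₄ : Q₄ ⟶ Spec (CommRingCat.of L)),
      IsPullback p₄ q₄ fB (Spec.map (CommRingCat.ofHom ε)) := ⟨_, _, _, IsPullback.of_hasPullback _ _⟩
  obtain ⟨n, hn1, hn2⟩ : ∃ n : Q₄ ⟶ Q, n ≫ p' = p₄ ≫ gB ∧ n ≫ q' = q₄ ≫ Spec.map (CommRingCat.ofHom l) :=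
    ⟨hQ.lift (p₄ ≫ gB) (q₄ ≫ Spec.map (CommRingCat.ofHom l)) (by
      rw [Category.assoc, hB.w, ← Category.assoc, hQ₄.w, Category.assoc, specComp, Category.assoc, specComp, hcl]),
      hQ.lift_fst _ _ _, hQ.lift_snd _ _ _⟩
  obtain ⟨m, hm1, hm2⟩ : ∃ m : U ⟶ Q₄, m ≫ p₄ = j ≫ gX ∧ m ≫ q₄ = v ≫ Spec.map (CommRingCat.ofHom b) :=
    ⟨hQ₄.lift (j ≫ gX) (v ≫ Spec.map (CommRingCat.ofHom b)) (by
      rw [Category.assoc, hgX2, ← Category.assoc, hj.w, Category.assoc, specComp, Category.assoc, specComp, hab]),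
      hQ₄.lift_fst _ _ _, hQ₄.lift_snd _ _ _⟩
  have hmn : m ≫ n = r := by
    apply hQ.hom_ext
    · rw [Category.assoc, hn1, ← Category.assoc, hm1, Category.assoc, hgX1, hr1]
    · rw [Category.assoc, hn2, ← Category.assoc, hm2, Category.assoc, specComp, hr2]
  -- the point of the generic fibre
  obtain ⟨τ, hτ1, hτ2⟩ : ∃ τ : Spec (CommRingCat.of L) ⟶ Q₄, τ ≫ p₄ = Spec.map (CommRingCat.ofHom ε) ≫ sB ∧
      τ ≫ q₄ = 𝟙 _ :=
    ⟨hQ₄.lift (Spec.map (CommRingCat.ofHom ε) ≫ sB) (𝟙 _) (by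
      rw [Category.assoc, hsB2, Category.comp_id, Category.id_comp]), hQ₄.lift_fst _ _ _, hQ₄.lift_snd _ _ _⟩
  have hcond : w ≫ W.hom = τ ≫ n := by
    apply hQ.hom_ext
    · rw [← cancel_epi (Spec.map (CommRingCat.ofHom b)), Category.assoc, hwa, Category.assoc, hn1,
        ← Category.assoc τ, hτ1, Category.assoc, hsB1, ← hσ1, ← Category.assoc, specComp, ← Category.assoc,
        ← Category.assoc, specComp, specComp, ← RingHom.comp_assoc, hab]
    · rw [Category.assoc, hwb, Category.assoc, hn2, ← Category.assoc, hτ2, Category.id_comp]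
  obtain ⟨w', hw'⟩ : ∃ w' : Spec (CommRingCat.of L) ⟶ ((FEt.restrict n).obj W).left,
      w' ≫ ((FEt.restrict n).obj W).hom = τ :=
    ⟨(isPullback n W).lift w τ hcond, (isPullback n W).lift_snd _ _ _⟩
  obtain ⟨Y, ⟨e'⟩⟩ := step hBZ hL ε hε a b κ hab f hfib s hs
    fB sB hsB2 hgX hsgX hj hQ₄ hm1 hm2 ((FEt.restrict n).obj W) G (bcAction n ρ) (isPrincipal_bc n G W ρ hρ) w'
    (by rw [← Category.assoc, hw', hτ1]) (by rw [← Category.assoc, hw', hτ2]) hcard
  exact ⟨Y, ⟨e' ≪≫ (Groth.Agent.Pi1A.FEtGlue.restrictComp m n).symm.app W ≪≫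
    (Groth.Agent.Pi1A.FEtGlue.restrictCongr hmn).app W⟩⟩

section main

variable {A K : Type u} [CommRing A] [IsDomain A] [IsIntegrallyClosed A] [Field K] [Algebra A K]
  [IsFractionRing A K]

/-- Extension of principal covers of the generic fibre over a normal domain. -/
theorem main {X U : Scheme.{u}} (f : X ⟶ Spec (CommRingCat.of A)) [Smooth f] [QuasiCompact f] [QuasiSeparated f]
    (hfib : ∀ (k : Type u) [Field k] [IsAlgClosed k] (t : Spec (CommRingCat.of k) ⟶ Spec (CommRingCat.of A)),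
      ConnectedSpace ↥(pullback f t))
    (s : Spec (CommRingCat.of A) ⟶ X) (hs : s ≫ f = 𝟙 _)
    {j : U ⟶ X} {v : U ⟶ Spec (CommRingCat.of K)}
    (h : IsPullback j v f (Spec.map (CommRingCat.ofHom (algebraMap A K))))
    (Z : FEt.Cat U) (G : Type v) [Group G] [Finite G]
    (ρ : G →* Aut Z) (hρ : SGA1t.IsPrincipal G Z ρ)
    (z : Spec (CommRingCat.of K) ⟶ Z.left)
    (hz1 : z ≫ Z.hom ≫ j = Spec.map (CommRingCat.ofHom (algebraMap A K)) ≫ s) (hz2 : z ≫ Z.hom ≫ v = 𝟙 _)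
    (hcard : IsUnit ((Nat.card G : ℕ) : A)) :
    ∃ Y : FEt.Cat X, Nonempty ((FEt.restrict j).obj Y ≅ Z) := by
  classical
  obtain ⟨j₀, X₁, f₁, g, hsm, hqc, hpb⟩ := exists_model f
  have hn : IsLocallyNoetherian X₁ := LocallyOfFiniteType.isLocallyNoetherian f₁
  have hqs : QuasiSeparated f₁ := by
    have : QuasiSeparatedSpace X₁ := inferInstance
    exact QuasiSeparated.of_comp f₁ (terminal.from _)
  have comp3 : ∀ {P Q R : Type u} [CommRing P] [CommRing Q] [CommRing R] (a : P →+* Q) (b : Q →+* R),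
      Spec.map (CommRingCat.ofHom b) ≫ Spec.map (CommRingCat.ofHom a) = Spec.map (CommRingCat.ofHom (b.comp a)) := by
    intro P Q R _ _ _ a b
    rw [← Spec.map_comp, ← CommRingCat.ofHom_comp]
  -- the section
  obtain ⟨j₁, h01, σ, hσ1, hσ2⟩ := exists_factor_ge (ringFam A) j₀ (ringFam_cover A) f₁ (s ≫ g) (by
    rw [Category.assoc, hpb.w, ← Category.assoc, hs, Category.id_comp])
  -- the cover
  have hPU : IsPullback (j ≫ g) v f₁ (Spec.map (CommRingCat.ofHom ((fieldFam A K j₁).subtype.comp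
      ((emb A K j₁).comp (Subring.inclusion ((ringFam A).monotone h01)))))) := by
    have h1 := (h.flip.paste_vert hpb.flip).flip
    rw [comp3] at h1
    exact h1
  obtain ⟨j₂, h12, Q, p', q', hQ, r, hr1, hr2, W, ρW, hW, ⟨e⟩⟩ := exists_principal_ge (fieldFam A K) j₁
    (fieldFam_cover A K) ((emb A K j₁).comp (Subring.inclusion ((ringFam A).monotone h01))) f₁ hPU G Z ρ hρ
  -- the point
  have hez : z ≫ e.inv.left ≫ proj r W ≫ W.hom = z ≫ Z.hom ≫ r := by
    rw [(isPullback r W).w, ← Category.assoc e.inv.left, hom_w e.inv]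
  have hsmq : Smooth q' := MorphismProperty.of_isPullback (P := @Smooth) hQ hsm
  have hWfp : LocallyOfFinitePresentation (W.hom ≫ q') := by
    have h1 : Etale W.hom := W.prop.2
    have h2 : LocallyOfFinitePresentation W.hom := inferInstance
    have h3 : LocallyOfFinitePresentation q' := inferInstance
    infer_instance
  obtain ⟨j₃, h23, w₃, hw3a, hw3b⟩ := exists_factor_ge (fieldFam A K) j₂ (fieldFam_cover A K) (W.hom ≫ q')
    (z ≫ e.inv.left ≫ proj r W) (by
      have h1 : (z ≫ e.inv.left ≫ proj r W) ≫ W.hom ≫ q' = (z ≫ Z.hom ≫ r) ≫ q' := by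
        rw [← hez]
        simp only [Category.assoc]
      rw [h1, Category.assoc, Category.assoc, hr2, ← Category.assoc, ← Category.assoc, Category.assoc z,
        hz2, Category.id_comp])
  obtain ⟨y, hy⟩ := hcard.exists_right_inv
  obtain ⟨j₄, h34, hj4⟩ := exists_nsub_ge A j₃ {y}
  have hcard4 : IsUnit ((Nat.card G : ℕ) : ringFam A j₄) := by
    refine IsUnit.of_mul_eq_one (⟨y, hj4 (by simp)⟩ : ringFam A j₄) ?_
    apply Subtype.ext
    change ((Nat.card G : ℕ) : A) * y = 1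
    exact hy
  have h04 : j₀ ≤ j₄ := h01.trans (h12.trans (h23.trans h34))
  have h14 : j₁ ≤ j₄ := h12.trans (h23.trans h34)
  have h24 : j₂ ≤ j₄ := h23.trans h34
  have hepi : Epi (Spec.map (CommRingCat.ofHom (fieldFam A K j₄).subtype)) := Flat.epi_of_flat_of_surjective _
  have E1 := incl_comp (ringFam A) h01 h14
  have E3 := subtype_incl (fieldFam A K) h34
  have E3' := subtype_incl (fieldFam A K) h24
  have E4 := incl_comp (fieldFam A K) h23 h34
  have E6 := emb_comp A K h14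
  have E7 := incl_comp (fieldFam A K) h12 h24
  have E8 := subtype_incl (ringFam A) h04
  have E9 := subtype_incl (ringFam A) h14
  have E2 : (Subring.inclusion ((fieldFam A K).monotone h24)).comp
      ((Subring.inclusion ((fieldFam A K).monotone h12)).comp
      ((emb A K j₁).comp (Subring.inclusion ((ringFam A).monotone h01)))) =
      (emb A K j₄).comp (Subring.inclusion ((ringFam A).monotone h04)) := by
    rw [← RingHom.comp_assoc, E7, ← RingHom.comp_assoc, ← E6, RingHom.comp_assoc, E1]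
  have hw4a : Spec.map (CommRingCat.ofHom (fieldFam A K j₄).subtype) ≫
      Spec.map (CommRingCat.ofHom (Subring.inclusion ((fieldFam A K).monotone h34))) ≫ w₃ =
        z ≫ e.inv.left ≫ proj r W := by
    rw [← hw3a, ← E3, ← specComp, Category.assoc]
  have hw4b : (Spec.map (CommRingCat.ofHom (Subring.inclusion ((fieldFam A K).monotone h34))) ≫ w₃) ≫
      W.hom ≫ q' = Spec.map (CommRingCat.ofHom (Subring.inclusion ((fieldFam A K).monotone h24))) := by
    rw [Category.assoc, hw3b, specComp, E4]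
  have hw4c : Spec.map (CommRingCat.ofHom (fieldFam A K j₄).subtype) ≫
      (Spec.map (CommRingCat.ofHom (Subring.inclusion ((fieldFam A K).monotone h34))) ≫ w₃) ≫ W.hom ≫ p' =
      Spec.map (CommRingCat.ofHom (algebraMap A K)) ≫ s ≫ g := by
    have h1 : Spec.map (CommRingCat.ofHom (fieldFam A K j₄).subtype) ≫
        (Spec.map (CommRingCat.ofHom (Subring.inclusion ((fieldFam A K).monotone h34))) ≫ w₃) ≫ W.hom ≫ p' =
        (Spec.map (CommRingCat.ofHom (fieldFam A K j₄).subtype) ≫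
          Spec.map (CommRingCat.ofHom (Subring.inclusion ((fieldFam A K).monotone h34))) ≫ w₃) ≫ W.hom ≫ p' := by
      simp only [Category.assoc]
    have h2 : (z ≫ e.inv.left ≫ proj r W) ≫ W.hom ≫ p' = (z ≫ Z.hom ≫ r) ≫ p' := by
      rw [← hez]
      simp only [Category.assoc]
    have h3 : (z ≫ Z.hom ≫ r) ≫ p' = (z ≫ Z.hom ≫ j) ≫ g := by
      simp only [Category.assoc, hr1]
    rw [h1, hw4a, h2, h3, hz1, Category.assoc]
  rw [← E8] at hpb
  rw [← E9] at hσ1
  rw [← E3'] at hr2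
  obtain ⟨Y, ⟨e'⟩⟩ := step2 (finiteType A j₄) (isField A K j₄) (emb A K j₄) (isFractionRing A K j₄)
    (ringFam A j₄).subtype (fieldFam A K j₄).subtype (algebraMap A K) (subtype_comp_emb A K j₄).symm
    (Subring.inclusion ((ringFam A).monotone h04)) (Subring.inclusion ((ringFam A).monotone h14))
    (Subring.inclusion ((ringFam A).monotone h01)) E1
    ((Subring.inclusion ((fieldFam A K).monotone h12)).comp
      ((emb A K j₁).comp (Subring.inclusion ((ringFam A).monotone h01))))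
    (Subring.inclusion ((fieldFam A K).monotone h24)) E2 f hfib s hs f₁ hpb σ hσ1 hσ2 h
    hQ hr1 hr2 W G ρW hW
    (Spec.map (CommRingCat.ofHom (Subring.inclusion ((fieldFam A K).monotone h34))) ≫ w₃)
    hw4b hw4c hcard4
  exact ⟨Y, ⟨e' ≪≫ e⟩⟩

end main

end K150.Approx
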