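import Groth.Agent.Algz.K724.EtApprox
import Mathlib.RingTheory.MvPowerSeries.Equiv

/-!
# From power series sections to étale neighbourhoods (helper150)
-/

set_option autoImplicit false
set_option backward.isDefEq.respectTransparency false
set_option backward.isDefEq.respectTransparency.types false

set_option linter.unusedSectionVars false

open MvPowerSeries

namespace K150.ArtStep

universe u

variable {σ : Type u} [Finite σ] {B : Type u} [CommRing B]

/-- The maximal ideal of the polynomial ring generated by a maximal ideal and the variables. -/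
noncomputable def bigIdeal (σ : Type u) {B : Type u} [CommRing B] (m : Ideal B) :
    Ideal (MvPolynomial σ B) := m.comap (MvPolynomial.constantCoeff)

theorem mem_bigIdeal (m : Ideal B) (p : MvPolynomial σ B) :
    p ∈ bigIdeal σ m ↔ MvPolynomial.constantCoeff p ∈ m := Iff.rfl

instance isMaximal_bigIdeal (m : Ideal B) [m.IsMaximal] : (bigIdeal σ m).IsMaximal :=
  Ideal.comap_isMaximal_of_surjective _ (fun b => ⟨MvPolynomial.C b, MvPolynomial.constantCoeff_C _ b⟩)

theorem idealOfVars_le (m : Ideal B) : MvPolynomial.idealOfVars σ B ≤ bigIdeal σ m := by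
  rw [MvPolynomial.idealOfVars, Ideal.span_le]
  rintro _ ⟨i, rfl⟩
  change MvPolynomial.constantCoeff (MvPolynomial.X i) ∈ m
  rw [MvPolynomial.constantCoeff_X]
  exact m.zero_mem

theorem compat (m : Ideal B) {k n : ℕ} (h : k ≤ n) :
    (Ideal.Quotient.factorₐ (MvPolynomial σ B) (Ideal.pow_le_pow_right h)).comp
      ((Ideal.Quotient.factorₐ (MvPolynomial σ B)
        (Ideal.pow_right_mono (idealOfVars_le m) n)).comp (truncTotalAlgHom σ B n)) =
      (Ideal.Quotient.factorₐ (MvPolynomial σ B)
        (Ideal.pow_right_mono (idealOfVars_le m) k)).comp (truncTotalAlgHom σ B k) :=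
  AlgHom.ext fun p => by
    change Ideal.Quotient.mk _ (truncTotal n p) = Ideal.Quotient.mk _ (truncTotal k p)
    rw [Ideal.Quotient.eq]
    exact Ideal.pow_right_mono (idealOfVars_le m) k
      (truncTotal_sub_truncTotal_mem_pow_idealOfVars h (le_refl _) _)

/-- The comparison map from the power series ring to the completion. -/
noncomputable def toCpl (σ : Type u) [Finite σ] {B : Type u} [CommRing B] (m : Ideal B) :
    MvPowerSeries σ B →ₐ[MvPolynomial σ B] AdicCompletion (bigIdeal σ m) (MvPolynomial σ B) :=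
  AdicCompletion.liftAlgHom (bigIdeal σ m)
    (fun k => (Ideal.Quotient.factorₐ (MvPolynomial σ B)
      (Ideal.pow_right_mono (idealOfVars_le m) k)).comp (truncTotalAlgHom σ B k))
    (compat m)

theorem eval_one_toCpl_eq_zero_iff (m : Ideal B) (p : MvPowerSeries σ B) :
    AdicCompletion.evalₐ (bigIdeal σ m) 1 (toCpl σ m p) = 0 ↔ constantCoeff p ∈ m := by
  rw [toCpl, AdicCompletion.evalₐ_liftAlgHom _ _ (compat m)]
  change Ideal.Quotient.mk _ (truncTotal 1 p) = 0 ↔ _
  rw [Ideal.Quotient.eq_zero_iff_mem, pow_one, mem_bigIdeal]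
  have h : MvPolynomial.constantCoeff (truncTotal 1 p : MvPolynomial σ B) = constantCoeff p := by
    rw [MvPolynomial.constantCoeff_eq, coeff_truncTotal _ (by simp)]
    rfl
  rw [h]

/-- A homomorphism to the power series ring can be approximated by an étale neighbourhood. -/
theorem exists_etale (hG : CAlg.IsGRing (MvPolynomial σ B)) (m : Ideal B) [m.IsMaximal]
    {C : Type u} [CommRing C] [Algebra (MvPolynomial σ B) C]
    [Algebra.FinitePresentation (MvPolynomial σ B) C] (φ : C →ₐ[MvPolynomial σ B] MvPowerSeries σ B) :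
    ∃ (E : Type u) (_ : CommRing E) (_ : Algebra (MvPolynomial σ B) E)
      (_ : Algebra.Etale (MvPolynomial σ B) E) (α : C →ₐ[MvPolynomial σ B] E) (n : Ideal E),
      n.IsPrime ∧ ∀ c, α c ∈ n ↔ constantCoeff (φ c) ∈ m := by
  obtain ⟨E, _, _, _, α, θ, h⟩ := K724.EtApprox.exists_etale_approx (bigIdeal σ m) hG
    ((toCpl σ m).comp φ) 1
  have hd : IsDomain (MvPolynomial σ B ⧸ bigIdeal σ m ^ 1) := by
    rw [pow_one]
    infer_instance
  refine ⟨E, inferInstance, inferInstance, inferInstance, α,
    RingHom.ker ((AdicCompletion.evalₐ (bigIdeal σ m) 1).toRingHom.comp θ.toRingHom),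
    RingHom.ker_isPrime _, fun c => ?_⟩
  rw [RingHom.mem_ker]
  change AdicCompletion.evalₐ (bigIdeal σ m) 1 (θ (α c)) = 0 ↔ _
  rw [h, AlgHom.comp_apply, eval_one_toCpl_eq_zero_iff]

end K150.ArtStep
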