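import Mathlib.RingTheory.RingHom.Etale
import Mathlib.RingTheory.TensorProduct.MvPolynomial

/-!
# Étale coordinates: base change and translation (helper150)
-/

set_option autoImplicit false
set_option backward.isDefEq.respectTransparency false
set_option backward.isDefEq.respectTransparency.types false
set_option linter.unusedSectionVars false

open TensorProduct

universe u

namespace K150.Coord

theorem etale_of_isPushout (A A' R C : Type*) [CommRing A] [CommRing A'] [CommRing R] [CommRing C]
    [Algebra A A'] [Algebra A R] [Algebra A C] [Algebra A' C] [Algebra R C] [IsScalarTower A A' C]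
    [IsScalarTower A R C] [Algebra.IsPushout A A' R C] [Algebra.Etale A R] : Algebra.Etale A' C :=
  Algebra.Etale.of_equiv (Algebra.IsPushout.equiv A A' R C)

section baseChange

attribute [local instance] MvPolynomial.algebraMvPolynomial

variable {B R B' C : Type u} [CommRing B] [CommRing R] [CommRing B'] [CommRing C] [Algebra B R] [Algebra B B']
   [Algebra B C] [Algebra R C] [Algebra B' C] [IsScalarTower B R C] [IsScalarTower B B' C]
    {n : ℕ} [Algebra (MvPolynomial (Fin n) B) R] [IsScalarTower B (MvPolynomial (Fin n) B) R]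
    [Algebra.Etale (MvPolynomial (Fin n) B) R] [Algebra (MvPolynomial (Fin n) B') C]
    [IsScalarTower B' (MvPolynomial (Fin n) B') C]

/-- Étale coordinates are stable under base change. -/
theorem etale_baseChange (p1 : Algebra.IsPushout B R B' C)
    (h : ∀ i, algebraMap (MvPolynomial (Fin n) B') C (MvPolynomial.X i) =
      algebraMap R C (algebraMap (MvPolynomial (Fin n) B) R (MvPolynomial.X i))) :
    Algebra.Etale (MvPolynomial (Fin n) B') C := by
  let _ : Algebra (MvPolynomial (Fin n) B) C :=
    ((algebraMap R C).comp (algebraMap (MvPolynomial (Fin n) B) R)).toAlgebra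
  have t1 : IsScalarTower (MvPolynomial (Fin n) B) R C := IsScalarTower.of_algebraMap_eq fun _ => rfl
  have t5 : IsScalarTower B (MvPolynomial (Fin n) B) C := IsScalarTower.of_algebraMap_eq fun b => by
    change _ = algebraMap R C (algebraMap (MvPolynomial (Fin n) B) R (algebraMap B (MvPolynomial (Fin n) B) b))
    rw [← IsScalarTower.algebraMap_apply B (MvPolynomial (Fin n) B) R, ← IsScalarTower.algebraMap_apply B R C]
  have t4 : IsScalarTower B (MvPolynomial (Fin n) B') C := IsScalarTower.of_algebraMap_eq fun b => by
    rw [IsScalarTower.algebraMap_apply B B' C, IsScalarTower.algebraMap_apply B' (MvPolynomial (Fin n) B') C,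
      ← IsScalarTower.algebraMap_apply B B' (MvPolynomial (Fin n) B')]
  have t3 : IsScalarTower (MvPolynomial (Fin n) B) (MvPolynomial (Fin n) B') C := by
    refine IsScalarTower.of_algebraMap_eq' ?_
    apply MvPolynomial.ringHom_ext
    · intro b
      change algebraMap R C (algebraMap (MvPolynomial (Fin n) B) R (algebraMap B (MvPolynomial (Fin n) B) b)) =
        algebraMap (MvPolynomial (Fin n) B') C (MvPolynomial.map (algebraMap B B') (MvPolynomial.C b))
      rw [← IsScalarTower.algebraMap_apply, ← IsScalarTower.algebraMap_apply, MvPolynomial.map_C]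
      change _ = algebraMap (MvPolynomial (Fin n) B') C (algebraMap B' (MvPolynomial (Fin n) B') (algebraMap B B' b))
      rw [← IsScalarTower.algebraMap_apply, ← IsScalarTower.algebraMap_apply]
    · intro i
      change algebraMap R C (algebraMap (MvPolynomial (Fin n) B) R (MvPolynomial.X i)) =
        algebraMap (MvPolynomial (Fin n) B') C (MvPolynomial.map (algebraMap B B') (MvPolynomial.X i))
      rw [MvPolynomial.map_X, h]
  have p2 : Algebra.IsPushout (MvPolynomial (Fin n) B) R (MvPolynomial (Fin n) B') C :=
    (Algebra.IsPushout.comp_iff B (MvPolynomial (Fin n) B) B' (MvPolynomial (Fin n) B') (T := R)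
      (T' := C)).1 p1
  have p3 : Algebra.IsPushout (MvPolynomial (Fin n) B) (MvPolynomial (Fin n) B') R C := p2.symm
  exact etale_of_isPushout (MvPolynomial (Fin n) B) (MvPolynomial (Fin n) B') R C

end baseChange

section translation

variable {B' C : Type u} [CommRing B'] [CommRing C] [Algebra B' C]

/-- Translated coordinates. -/
noncomputable def transl (n : ℕ) (a : Fin n → B') :
    MvPolynomial (ULift.{u} (Fin n)) B' ≃ₐ[B'] MvPolynomial (Fin n) B' :=
  AlgEquiv.ofAlgHom
    (MvPolynomial.aeval fun i => MvPolynomial.X i.down - MvPolynomial.C (a i.down))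
    (MvPolynomial.aeval fun j => MvPolynomial.X ⟨j⟩ + MvPolynomial.C (a j))
    (by
      ext j
      simp)
    (by
      ext j
      simp)

theorem exists_translate {n : ℕ} [Algebra (MvPolynomial (Fin n) B') C]
    [IsScalarTower B' (MvPolynomial (Fin n) B') C] [Algebra.Etale (MvPolynomial (Fin n) B') C]
    (ε : C →+* B') (hε : ∀ b, ε (algebraMap B' C b) = b) :
    ∃ (_ : Algebra (MvPolynomial (ULift.{u} (Fin n)) B') C),
      IsScalarTower B' (MvPolynomial (ULift.{u} (Fin n)) B') C ∧
      Algebra.Etale (MvPolynomial (ULift.{u} (Fin n)) B') C ∧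
      ∀ i, ε (algebraMap (MvPolynomial (ULift.{u} (Fin n)) B') C (MvPolynomial.X i)) = 0 := by
  let e := transl n (fun i => ε (algebraMap (MvPolynomial (Fin n) B') C (MvPolynomial.X i)))
  let φ : MvPolynomial (ULift.{u} (Fin n)) B' →+* C :=
    (algebraMap (MvPolynomial (Fin n) B') C).comp e.toAlgHom.toRingHom
  have hφ : φ.Etale := by
    have h1 : (algebraMap (MvPolynomial (Fin n) B') C).Etale := RingHom.etale_algebraMap.mpr inferInstance
    have h2 : e.toAlgHom.toRingHom.Etale := RingHom.Etale.of_bijective e.bijective
    exact RingHom.Etale.stableUnderComposition _ _ h2 h1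
  refine ⟨φ.toAlgebra, ?_, hφ, ?_⟩
  · refine @IsScalarTower.of_algebraMap_eq _ _ _ _ _ _ _ φ.toAlgebra _ fun b => ?_
    change _ = algebraMap (MvPolynomial (Fin n) B') C (e (algebraMap _ _ b))
    rw [e.commutes, ← IsScalarTower.algebraMap_apply]
  · intro i
    change ε (algebraMap (MvPolynomial (Fin n) B') C (e (MvPolynomial.X i))) = 0
    have h1 : e (MvPolynomial.X i) = MvPolynomial.X i.down -
        MvPolynomial.C (ε (algebraMap (MvPolynomial (Fin n) B') C (MvPolynomial.X i.down))) :=
      MvPolynomial.aeval_X _ _
    rw [h1, map_sub, map_sub, sub_eq_zero]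
    have h2 : ∀ b : B', ε (algebraMap (MvPolynomial (Fin n) B') C (MvPolynomial.C b)) = b := by
      intro b
      change ε (algebraMap (MvPolynomial (Fin n) B') C (algebraMap B' (MvPolynomial (Fin n) B') b)) = b
      rw [← IsScalarTower.algebraMap_apply, hε]
    rw [h2]

end translation

/-- Étale coordinates on a base change, vanishing along a section. -/
theorem exists_coord {B R B' C : Type u} [CommRing B] [CommRing R] [CommRing B'] [CommRing C] [Algebra B R]
    [Algebra B B'] [Algebra B C] [Algebra R C] [Algebra B' C] [IsScalarTower B R C] [IsScalarTower B B' C]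
    {n : ℕ} [Algebra (MvPolynomial (Fin n) B) R] [IsScalarTower B (MvPolynomial (Fin n) B) R]
    [Algebra.Etale (MvPolynomial (Fin n) B) R] (p1 : Algebra.IsPushout B R B' C)
    (ε : C →+* B') (hε : ∀ b, ε (algebraMap B' C b) = b) :
    ∃ (_ : Algebra (MvPolynomial (ULift.{u} (Fin n)) B') C),
      IsScalarTower B' (MvPolynomial (ULift.{u} (Fin n)) B') C ∧
      Algebra.Etale (MvPolynomial (ULift.{u} (Fin n)) B') C ∧
      ∀ i, ε (algebraMap (MvPolynomial (ULift.{u} (Fin n)) B') C (MvPolynomial.X i)) = 0 := by
  let t : Fin n → C := fun i => algebraMap R C (algebraMap (MvPolynomial (Fin n) B) R (MvPolynomial.X i))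
  let ψ : MvPolynomial (Fin n) B' →ₐ[B'] C := MvPolynomial.aeval t
  let _ : Algebra (MvPolynomial (Fin n) B') C := ψ.toRingHom.toAlgebra
  have t2 : IsScalarTower B' (MvPolynomial (Fin n) B') C := IsScalarTower.of_algebraMap_eq fun b => by
    change _ = ψ (algebraMap B' (MvPolynomial (Fin n) B') b)
    rw [AlgHom.commutes]
  have het : Algebra.Etale (MvPolynomial (Fin n) B') C := etale_baseChange p1 (fun i => MvPolynomial.aeval_X t i)
  exact exists_translate ε hε

end K150.Coord
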