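import Groth.Agent.S0599
import Groth.Agent.S2653

/-!
# Rings of finite type over the integers are G-rings (helper150)
-/

set_option autoImplicit false
universe u

namespace K150.GRing

theorem isGRing_int : CAlg.IsGRing (ULift.{u} ℤ) := by
  have h1 : IsDomain (ULift.{u} ℤ) := (ULift.ringEquiv (R := ℤ)).isDomain
  have h2 : IsPrincipalIdealRing (ULift.{u} ℤ) :=
    IsPrincipalIdealRing.of_surjective (ULift.ringEquiv (R := ℤ)).symm.toRingHom
      (ULift.ringEquiv (R := ℤ)).symm.surjective
  have h3 : CharZero (ULift.{u} ℤ) :=
    charZero_of_injective_ringHom (f := (ULift.ringEquiv (R := ℤ)).symm.toRingHom)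
      (ULift.ringEquiv (R := ℤ)).symm.injective
  exact Groth.Agent.S2653.isGRing_of_isDedekindDomain (ULift.{u} ℤ)

/-- Rings of finite type over `ℤ` are G-rings. -/
theorem isGRing_of_finiteType_int (B : Type u) [CommRing B] [hB : Algebra.FiniteType ℤ B] :
    CAlg.IsGRing B := by
  let g : ULift.{u} ℤ →+* B := (algebraMap ℤ B).comp (ULift.ringEquiv (R := ℤ)).toRingHom
  have hg : g.FiniteType := RingHom.FiniteType.comp (RingHom.finiteType_algebraMap.mpr hB)
    (RingHom.FiniteType.of_surjective _ (ULift.ringEquiv (R := ℤ)).surjective)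
  let _ : Algebra (ULift.{u} ℤ) B := g.toAlgebra
  have : Algebra.FiniteType (ULift.{u} ℤ) B := hg
  exact Groth.Agent.S0599.result (ULift.{u} ℤ) isGRing_int B

/-- Polynomial rings over rings of finite type over `ℤ` are G-rings. -/
theorem isGRing_mvPolynomial (B : Type u) [CommRing B] [hB : Algebra.FiniteType ℤ B] (τ : Type u)
    [Finite τ] : CAlg.IsGRing (MvPolynomial τ B) := by
  have h1 : (algebraMap ℤ (MvPolynomial τ B)).FiniteType := by
    have h2 : (algebraMap B (MvPolynomial τ B)).FiniteType :=
      RingHom.finiteType_algebraMap.mpr inferInstance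
    have h3 : (algebraMap ℤ B).FiniteType := RingHom.finiteType_algebraMap.mpr hB
    have h4 := h2.comp h3
    rwa [Subsingleton.elim ((algebraMap B (MvPolynomial τ B)).comp (algebraMap ℤ B))
      (algebraMap ℤ (MvPolynomial τ B))] at h4
  exact isGRing_of_finiteType_int (hB := RingHom.finiteType_algebraMap.mp h1) _

/-- Composition of ring maps of finite type, from the integers. -/
theorem finiteType_trans {B B' : Type u} [CommRing B] [CommRing B'] [Algebra B B'] [h : Algebra.FiniteType B B']
    (hB : (Int.castRingHom B).FiniteType) : (Int.castRingHom B').FiniteType := by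
  have h2 : (algebraMap B B').FiniteType := RingHom.finiteType_algebraMap.mpr h
  have h4 := h2.comp hB
  rwa [Subsingleton.elim ((algebraMap B B').comp (Int.castRingHom B)) (Int.castRingHom B')] at h4

/-- Polynomial rings over rings of finite type over `ℤ` are G-rings. -/
theorem isGRing_mvPolynomial' (B : Type u) [CommRing B] (hB : (Int.castRingHom B).FiniteType) (τ : Type u)
    [Finite τ] : CAlg.IsGRing (MvPolynomial τ B) :=
  isGRing_mvPolynomial (hB := RingHom.finiteType_algebraMap.mp (by
    rwa [Subsingleton.elim (algebraMap ℤ B) (Int.castRingHom B)])) B τ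

end K150.GRing
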