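import Groth.Agent.Pi1.K150.ChartUse
import Groth.Agent.Pi1.K150.GRing
import Groth.Agent.Pi1.K150.Coord
import Mathlib.RingTheory.Unramified.LocalStructure

/-!
# Existence of charts near a section (helper150)
-/

set_option autoImplicit false
set_option backward.isDefEq.respectTransparency false
set_option backward.isDefEq.respectTransparency.types false
set_option linter.unusedSectionVars false

open CategoryTheory CategoryTheory.Limits AlgebraicGeometry TensorProduct TopologicalSpace
open K150.Ext

namespace K150.ChartEx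

universe u v

/-- Smooth morphisms to affine schemes are locally étale over affine spaces. -/
theorem exists_etale_chart {B : Type u} [CommRing B] {X : Scheme.{u}} (f : X ⟶ Spec (CommRingCat.of B)) [Smooth f]
    (x : X) : ∃ (R : Type u) (_ : CommRing R) (_ : Algebra B R) (n : ℕ)
      (_ : Algebra (MvPolynomial (Fin n) B) R) (_ : IsScalarTower B (MvPolynomial (Fin n) B) R)
      (_ : Algebra.Etale (MvPolynomial (Fin n) B) R) (i : Spec (CommRingCat.of R) ⟶ X) (_ : IsOpenImmersion i),
      x ∈ Set.range i ∧ i ≫ f = Spec.map (CommRingCat.ofHom (algebraMap B R)) := by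
  obtain ⟨W, hW, hxW, -⟩ := exists_isAffineOpen_mem_and_subset (U := (⊤ : X.Opens)) (show x ∈ (⊤ : X.Opens) from trivial)
  let i₀ : Spec Γ(X, W) ⟶ X := hW.fromSpec
  let φ : CommRingCat.of B ⟶ Γ(X, W) := Spec.preimage (i₀ ≫ f)
  have hφ : Spec.map φ = i₀ ≫ f := Spec.map_preimage _
  let _ : Algebra B Γ(X, W) := φ.hom.toAlgebra
  have hsm : Algebra.Smooth B Γ(X, W) := by
    have h1 : Smooth (Spec.map φ) := by rw [hφ]; infer_instance
    exact (HasRingHomProperty.Spec_iff (P := @Smooth)).mp h1
  obtain ⟨y, hy⟩ : x ∈ Set.range i₀ := by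
    rw [show Set.range i₀ = (W : Set X) from hW.range_fromSpec]
    exact hxW
  obtain ⟨g, hg, n, halg, htow, het⟩ := Algebra.IsSmoothAt.exists_isStandardEtale_mvPolynomial (R := B)
    (S := Γ(X, W)) (p := (y : PrimeSpectrum Γ(X, W)).asIdeal)
  let R := Localization.Away g
  let i₁ : Spec (CommRingCat.of R) ⟶ Spec Γ(X, W) := Spec.map (CommRingCat.ofHom (algebraMap Γ(X, W) R))
  have hi₁ : IsOpenImmersion i₁ := Scheme.isOpenImmersion_SpecMap_localizationAway g
  have hy₁ : y ∈ Set.range i₁ := by
    have h2 := PrimeSpectrum.localization_away_comap_range R g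
    have h3 : y ∈ Set.range (PrimeSpectrum.comap (algebraMap Γ(X, W) R)) := by
      rw [h2]
      exact hg
    exact h3
  refine ⟨R, inferInstance, inferInstance, n, halg, htow, inferInstance, i₁ ≫ i₀, inferInstance, ?_, ?_⟩
  · obtain ⟨y₁, hy₁⟩ := hy₁
    refine ⟨y₁, ?_⟩
    rw [Scheme.Hom.comp_apply, hy₁, hy]
  · rw [Category.assoc, ← hφ, ← Spec.map_comp]
    congr 1

/-- Points of the spectrum of a localization over a maximal ideal are maximal. -/
theorem isMaximal_of_comap {B B' : Type u} [CommRing B] [CommRing B'] [Algebra B B'] (M : Submonoid B)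
    [IsLocalization M B'] (p : Ideal B') [hp : p.IsPrime] (h : (p.comap (algebraMap B B')).IsMaximal) :
    p.IsMaximal := by
  obtain ⟨q, hq, hpq⟩ := Ideal.exists_le_maximal p hp.ne_top
  have h1 : p.comap (algebraMap B B') = q.comap (algebraMap B B') :=
    h.eq_of_le (Ideal.IsPrime.comap (algebraMap B B')).ne_top (Ideal.comap_mono hpq)
  have h2 : p = q := by
    rw [← IsLocalization.map_under M B' p, ← IsLocalization.map_under M B' q]
    exact congrArg _ h1
  rw [h2]
  exact hq

section main

variable {B K : Type u} [CommRing B] [IsDomain B] [IsNoetherianRing B] [IsIntegrallyClosed B]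
  (hBZ : (Int.castRingHom B).FiniteType) [Field K] [Algebra B K] [IsFractionRing B K]

include hBZ in
/-- Extension of principal covers near a point of the section. -/
theorem exists_open {X U : Scheme.{u}} (f : X ⟶ Spec (CommRingCat.of B)) [Smooth f]
    (hfib : ∀ (k : Type u) [Field k] [IsAlgClosed k] (t : Spec (CommRingCat.of k) ⟶ Spec (CommRingCat.of B)),
      ConnectedSpace ↥(pullback f t))
    (s : Spec (CommRingCat.of B) ⟶ X) (hs : s ≫ f = 𝟙 _)
    {j : U ⟶ X} {v : U ⟶ Spec (CommRingCat.of K)}
    (h : IsPullback j v f (Spec.map (CommRingCat.ofHom (algebraMap B K))))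
    (Z : FEt.Cat U) (G : Type v) [Group G] [Finite G]
    (ρ : G →* Aut Z) (hρ : SGA1t.IsPrincipal G Z ρ)
    (z : Spec (CommRingCat.of K) ⟶ Z.left)
    (hz1 : z ≫ Z.hom ≫ j = Spec.map (CommRingCat.ofHom (algebraMap B K)) ≫ s) (hz2 : z ≫ Z.hom ≫ v = 𝟙 _)
    (hcard : IsUnit ((Nat.card G : ℕ) : B)) (m : PrimeSpectrum B) (hm : m.asIdeal.IsMaximal) :
    ∃ W : X.Opens, s m ∈ W ∧ EO j Z W.ι := by
  obtain ⟨R, _, _, n, _, _, _, i, _, hxi, hi⟩ := exists_etale_chart f (s m)
  -- the localization
  have hopen : IsOpen (s ⁻¹' Set.range i) := i.isOpenEmbedding.isOpen_range.preimage s.continuous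
  obtain ⟨_, ⟨b, rfl⟩, hmb, hb⟩ := PrimeSpectrum.isTopologicalBasis_basic_opens.exists_subset_of_mem_open
    (show m ∈ (s ⁻¹' Set.range i : Set (PrimeSpectrum B)) from hxi) hopen
  have hb0 : b ≠ 0 := by
    rintro rfl
    exact hmb (zero_mem _)
  have hM : Submonoid.powers b ≤ nonZeroDivisors B :=
    powers_le_nonZeroDivisors_of_noZeroDivisors hb0
  let B' := Localization.Away b
  have hd : IsDomain B' := IsLocalization.isDomain_localization hM
  have hN : IsNoetherianRing B' := IsLocalization.isNoetherianRing (Submonoid.powers b) B' inferInstance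
  have hIC : IsIntegrallyClosed B' := isIntegrallyClosed_of_isLocalization B' (Submonoid.powers b) hM
  have hfp : Algebra.FinitePresentation B B' := IsLocalization.Away.finitePresentation b
  have hFT : (Int.castRingHom B').FiniteType := GRing.finiteType_trans hBZ
  -- the fraction field
  have hu : ∀ y : Submonoid.powers b, IsUnit (algebraMap B K y) := by
    rintro ⟨_, k, rfl⟩
    rw [isUnit_iff_ne_zero]
    intro h0
    exact (pow_ne_zero k hb0) (IsFractionRing.injective B K (h0.trans (map_zero _).symm))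
  let _ : Algebra B' K := (IsLocalization.lift hu : B' →+* K).toAlgebra
  have htow : IsScalarTower B B' K := IsScalarTower.of_algebraMap_eq fun x =>
    (IsLocalization.lift_eq hu x).symm
  have hfrac : IsFractionRing B' K :=
    IsFractionRing.isFractionRing_of_isDomain_of_isLocalization (Submonoid.powers b) B' K
  -- the section
  let l : Spec (CommRingCat.of B') ⟶ Spec (CommRingCat.of B) := Spec.map (CommRingCat.ofHom (algebraMap B B'))
  have hlo : IsOpenImmersion l := inferInstance
  have hrange : Set.range l = (PrimeSpectrum.basicOpen b : Set (PrimeSpectrum B)) :=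
    PrimeSpectrum.localization_away_comap_range B' b
  have hr : Set.range (l ≫ s) ⊆ Set.range i := by
    rintro _ ⟨y, rfl⟩
    have h1 : l y ∈ Set.range l := ⟨y, rfl⟩
    rw [hrange] at h1
    rw [Scheme.Hom.comp_apply]
    exact hb h1
  let e₀ : Spec (CommRingCat.of B') ⟶ Spec (CommRingCat.of R) := IsOpenImmersion.lift i (l ≫ s) hr
  have he₀ : e₀ ≫ i = l ≫ s := IsOpenImmersion.lift_fac _ _ _
  let ε₀ : R →+* B' := (Spec.preimage e₀).hom
  have hε₀ : Spec.map (CommRingCat.ofHom ε₀) = e₀ := Spec.map_preimage e₀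
  have hε₀B : ∀ x, ε₀ (algebraMap B R x) = algebraMap B B' x := by
    have h1 : Spec.map (CommRingCat.ofHom (ε₀.comp (algebraMap B R))) = l := by
      rw [CommRingCat.ofHom_comp, Spec.map_comp, hε₀, ← hi, ← Category.assoc, he₀, Category.assoc, hs,
        Category.comp_id]
    have h2 := congrArg CommRingCat.Hom.hom (Spec.map_injective h1)
    exact fun x => congr($h2 x)
  obtain ⟨ε, hε⟩ := QGood.exists_lift2 (R := B) (R' := B') (S := R) (T := B') (RingHom.id B') ε₀
    (fun x => (hε₀B x).symm)
  have hε' : ∀ x, ε (algebraMap B' (B' ⊗[B] R) x) = x := by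
    intro x
    change ε (x ⊗ₜ 1) = x
    rw [hε, map_one, mul_one]
    rfl
  let _ : Algebra R (B' ⊗[B] R) := Algebra.TensorProduct.rightAlgebra
  have p1 : Algebra.IsPushout B R B' (B' ⊗[B] R) := inferInstance
  obtain ⟨_, h1, h2, h3⟩ := Coord.exists_coord (n := n) p1 ε hε'
  let ir : Spec (CommRingCat.of (B' ⊗[B] R)) ⟶ Spec (CommRingCat.of R) :=
    Spec.map (CommRingCat.ofHom (Algebra.TensorProduct.includeRight : R →ₐ[B] B' ⊗[B] R).toRingHom)
  have sq := DvrAlg.isPullback_bc B R B'
  have hir : IsOpenImmersion ir := MorphismProperty.of_isPullback (P := @IsOpenImmersion) sq.flip hlo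
  obtain ⟨m', hm'⟩ : m ∈ Set.range l := by
    rw [hrange]
    exact hmb
  have hmax : (m' : PrimeSpectrum B').asIdeal.IsMaximal := by
    refine isMaximal_of_comap (Submonoid.powers b) (m' : PrimeSpectrum B').asIdeal ?_
    have h4 : ((m' : PrimeSpectrum B').asIdeal).comap (algebraMap B B') = m.asIdeal :=
      congrArg PrimeSpectrum.asIdeal hm'
    rw [h4]
    exact hm
  have hcard' : IsUnit ((Nat.card G : ℕ) : B') := by
    have := hcard.map (algebraMap B B')
    rwa [map_natCast] at this
  obtain ⟨W, hW, hWE⟩ := ChartUse.exists_open f hfib s h Z G ρ hρ z hz1 hz2 (B' := B') (C := B' ⊗[B] R)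
    inferInstance hcard' (GRing.isGRing_mvPolynomial' B' hFT (ULift.{u} (Fin n))) ε hε' h3 (ir ≫ i) (by
      rw [Category.assoc, hi]
      exact sq.w) (by
      rw [← Category.assoc, ← Spec.map_comp, ← CommRingCat.ofHom_comp]
      have h5 : ε.comp (Algebra.TensorProduct.includeRight : R →ₐ[B] B' ⊗[B] R).toRingHom = ε₀ := by
        ext r
        change ε (1 ⊗ₜ r) = _
        rw [hε, map_one, one_mul]
      rw [h5, hε₀, he₀]) (m' : PrimeSpectrum B').asIdeal
  refine ⟨W, ?_, hWE⟩
  rw [← hm']
  exact hW

end main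

end K150.ChartEx
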