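import Groth.Agent.SGA3x.K20.GeomIrr

/-!
# Geometric fibres of open pieces of smooth morphisms (helper150)
-/

set_option autoImplicit false
set_option backward.isDefEq.respectTransparency false
set_option backward.isDefEq.respectTransparency.types false
set_option linter.unusedSectionVars false

open CategoryTheory CategoryTheory.Limits AlgebraicGeometry TopologicalSpace

namespace K150.Fib

universe u v w

theorem isPullback_comp_mono {D : Type v} [Category.{w} D] {P X Y Z Z' : D} {a : P ⟶ X} {b : P ⟶ Y}
    {f : X ⟶ Z} {g : Y ⟶ Z} (h : IsPullback a b f g) (l : Z ⟶ Z') [Mono l] :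
    IsPullback a b (f ≫ l) (g ≫ l) := by
  refine ⟨⟨by rw [← Category.assoc, h.w, Category.assoc]⟩, ⟨PullbackCone.IsLimit.mk _
    (fun s => h.lift s.fst s.snd (by
      rw [← cancel_mono l, Category.assoc, Category.assoc]
      exact s.condition)) (fun s => h.lift_fst _ _ _) (fun s => h.lift_snd _ _ _) ?_⟩⟩
  intro s m h1 h2
  apply h.hom_ext
  · rw [h1, h.lift_fst]
  · rw [h2, h.lift_snd]

/-- Open subspaces of irreducible spaces. -/
theorem connectedSpace_of_open {P Q : Scheme.{u}} (a : P ⟶ Q) [IsOpenImmersion a] [IrreducibleSpace Q]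
    [Nonempty P] : ConnectedSpace P := by
  have h1 : IsPreirreducible (a ⁻¹' (Set.univ : Set Q)) :=
    (PreirreducibleSpace.isPreirreducible_univ (X := Q)).preimage a.isOpenEmbedding
  have h2 : PreirreducibleSpace P := ⟨by simpa using h1⟩
  exact { toPreconnectedSpace := inferInstance, toNonempty := inferInstance }

/-- The geometric fibres of an open piece with a section of a smooth morphism with connected geometric fibres are
connected. -/
theorem connectedSpace_pullback {S X W S' : Scheme.{u}} (f : X ⟶ S) [Smooth f]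
    (hfib : ∀ (K : Type u) [Field K] [IsAlgClosed K] (t : Spec (CommRingCat.of K) ⟶ S),
      ConnectedSpace ↥(pullback f t))
    (i : W ⟶ X) [IsOpenImmersion i] (f' : W ⟶ S') (l : S' ⟶ S) [Mono l] (w : i ≫ f = f' ≫ l)
    (ε : S' ⟶ W) (hε : ε ≫ f' = 𝟙 S')
    (K : Type u) [Field K] [IsAlgClosed K] (t : Spec (CommRingCat.of K) ⟶ S') :
    ConnectedSpace ↥(pullback f' t) := by
  have h0 := hfib K (t ≫ l)
  have hirr : IrreducibleSpace ↥(pullback f (t ≫ l)) :=
    K20.GeomIrr.irreducibleSpace_of_smooth (pullback.snd f (t ≫ l))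
  have h1 : IsPullback (pullback.snd f' t) (pullback.fst f' t) (t ≫ l) (i ≫ f) := by
    rw [w]
    exact isPullback_comp_mono (IsPullback.of_hasPullback f' t).flip l
  let a : pullback f' t ⟶ pullback f (t ≫ l) := pullback.lift (pullback.fst f' t ≫ i) (pullback.snd f' t)
    (by rw [Category.assoc, ← h1.w])
  have ha1 : a ≫ pullback.fst f (t ≫ l) = pullback.fst f' t ≫ i := pullback.lift_fst _ _ _
  have ha2 : a ≫ pullback.snd f (t ≫ l) = pullback.snd f' t := pullback.lift_snd _ _ _
  have h2 : IsPullback a (pullback.fst f' t) (pullback.fst f (t ≫ l)) i := by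
    refine IsPullback.of_right (h₁₂ := pullback.snd f (t ≫ l)) (h₂₂ := f) (v₁₃ := t ≫ l) ?_ ha1
      (IsPullback.of_hasPullback f (t ≫ l)).flip
    rw [ha2]
    exact h1
  have ha : IsOpenImmersion a := MorphismProperty.of_isPullback (P := @IsOpenImmersion) h2.flip inferInstance
  have hne : Nonempty ↥(pullback f' t) :=
    ⟨pullback.lift (t ≫ ε) (𝟙 _) (by rw [Category.assoc, hε, Category.comp_id, Category.id_comp])
      (⊥ : PrimeSpectrum K)⟩
  exact connectedSpace_of_open a

end K150.Fib
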