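import Groth.Agent.Pi1.K150.LocSec
import Groth.Agent.Pi1.K150.Fib

/-!
# Extension of principal covers near a point of the section, in a chart (helper150)
-/

set_option autoImplicit false
set_option backward.isDefEq.respectTransparency false
set_option backward.isDefEq.respectTransparency.types false
set_option linter.unusedSectionVars false

open CategoryTheory CategoryTheory.Limits AlgebraicGeometry TensorProduct TopologicalSpace
open Groth.Agent.Pi1A.FEtAffine K150.Ext K150.LocSec K150.DvrAlg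
open Groth.Agent.Pi1.H383.PrincBC

namespace K150.ChartUse

universe u v

theorem exists_open {B K : Type u} [CommRing B] [Field K] [Algebra B K]
    {X U : Scheme.{u}} (f : X ⟶ Spec (CommRingCat.of B)) [Smooth f]
    (hfib : ∀ (k : Type u) [Field k] [IsAlgClosed k] (t : Spec (CommRingCat.of k) ⟶ Spec (CommRingCat.of B)),
      ConnectedSpace ↥(pullback f t))
    (s : Spec (CommRingCat.of B) ⟶ X)
    {j : U ⟶ X} {v : U ⟶ Spec (CommRingCat.of K)}
    (h : IsPullback j v f (Spec.map (CommRingCat.ofHom (algebraMap B K))))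
    (Z : FEt.Cat U) (G : Type v) [Group G] [Finite G]
    (ρ : G →* Aut Z) (hρ : SGA1t.IsPrincipal G Z ρ)
    (z : Spec (CommRingCat.of K) ⟶ Z.left)
    (hz1 : z ≫ Z.hom ≫ j = Spec.map (CommRingCat.ofHom (algebraMap B K)) ≫ s) (hz2 : z ≫ Z.hom ≫ v = 𝟙 _)
    -- the chart
    {τ : Type u} [Finite τ] {B' : Type u} [CommRing B'] [IsDomain B'] [IsNoetherianRing B']
    [IsIntegrallyClosed B'] [Algebra B B'] [Algebra B' K] [IsScalarTower B B' K]
    [IsFractionRing B' K] (hmono : Mono (Spec.map (CommRingCat.ofHom (algebraMap B B'))))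
    (hcard : IsUnit ((Nat.card G : ℕ) : B'))
    (hG : CAlg.IsGRing (MvPolynomial τ B'))
    {C : Type u} [CommRing C] [Algebra B' C]
    [Algebra (MvPolynomial τ B') C] [IsScalarTower B' (MvPolynomial τ B') C]
    [Algebra.Etale (MvPolynomial τ B') C]
    (ε : C →+* B') (hε : ∀ b, ε (algebraMap B' C b) = b)
    (hX : ∀ i : τ, ε (algebraMap (MvPolynomial τ B') C (MvPolynomial.X i)) = 0)
    (i : Spec (CommRingCat.of C) ⟶ X) [IsOpenImmersion i]
    (w : i ≫ f = Spec.map (CommRingCat.ofHom (algebraMap B' C)) ≫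
      Spec.map (CommRingCat.ofHom (algebraMap B B')))
    (hs : Spec.map (CommRingCat.ofHom ε) ≫ i = Spec.map (CommRingCat.ofHom (algebraMap B B')) ≫ s)
    (m : Ideal B') [hm : m.IsMaximal] :
    ∃ W : X.Opens, s (Spec.map (CommRingCat.ofHom (algebraMap B B')) (⟨m, inferInstance⟩ : PrimeSpectrum B')) ∈ W ∧
      EO j Z W.ι := by
  let l : Spec (CommRingCat.of B') ⟶ Spec (CommRingCat.of B) := Spec.map (CommRingCat.ofHom (algebraMap B B'))
  have sq1 := isPullback_bc B' C K
  have sq2 : IsPullback (gen B' K C) (Spec.map (CommRingCat.ofHom (algebraMap K (K ⊗[B'] C)))) (i ≫ f)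
      (Spec.map (CommRingCat.ofHom (algebraMap B K))) := by
    have e1 : Spec.map (CommRingCat.ofHom (algebraMap B K)) = Spec.map (CommRingCat.ofHom (algebraMap B' K)) ≫ l := by
      rw [← Spec.map_comp, ← CommRingCat.ofHom_comp, ← IsScalarTower.algebraMap_eq]
    rw [w, e1]
    exact Fib.isPullback_comp_mono sq1 l
  let h₁ : Spec (CommRingCat.of (K ⊗[B'] C)) ⟶ U := h.lift (gen B' K C ≫ i)
    (Spec.map (CommRingCat.ofHom (algebraMap K (K ⊗[B'] C)))) (by rw [Category.assoc, sq2.w])
  have h₁j : h₁ ≫ j = gen B' K C ≫ i := h.lift_fst _ _ _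
  have h₁v : h₁ ≫ v = Spec.map (CommRingCat.ofHom (algebraMap K (K ⊗[B'] C))) := h.lift_snd _ _ _
  have sq3 : IsPullback h₁ (gen B' K C) j i := by
    refine IsPullback.of_right (h₁₂ := v) (h₂₂ := f) (v₁₃ := Spec.map (CommRingCat.ofHom (algebraMap B K)))
      ?_ h₁j h.flip
    rw [h₁v]
    exact sq2.flip
  -- evaluation at the section
  obtain ⟨ev, hev⟩ := QGood.exists_lift2 (R := B') (R' := K) (S := C) (T := K) (RingHom.id K)
    ((algebraMap B' K).comp ε) (fun b => by
      change algebraMap B' K b = algebraMap B' K (ε (algebraMap B' C b))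
      rw [hε])
  have hev' : ∀ k c, ev (k ⊗ₜ c) = k * algebraMap B' K (ε c) := fun k c => hev k c
  have hzev : z ≫ Z.hom = Spec.map (CommRingCat.ofHom ev) ≫ h₁ := by
    apply h.hom_ext
    · rw [Category.assoc, hz1, Category.assoc, h₁j, ← Category.assoc, ← Spec.map_comp, ← CommRingCat.ofHom_comp]
      have e2 : ev.comp (Algebra.TensorProduct.includeRight : C →ₐ[B'] K ⊗[B'] C).toRingHom =
          (algebraMap B' K).comp ε := by
        ext c
        change ev (1 ⊗ₜ c) = _
        rw [hev', one_mul]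
        rfl
      have e3 : Spec.map (CommRingCat.ofHom (ev.comp
          (Algebra.TensorProduct.includeRight : C →ₐ[B'] K ⊗[B'] C).toRingHom)) =
          Spec.map (CommRingCat.ofHom (algebraMap B' K)) ≫ Spec.map (CommRingCat.ofHom ε) := by
        rw [e2, CommRingCat.ofHom_comp, Spec.map_comp]
      have e4 : Spec.map (CommRingCat.ofHom (algebraMap B K)) = Spec.map (CommRingCat.ofHom (algebraMap B' K)) ≫ l := by
        rw [← Spec.map_comp, ← CommRingCat.ofHom_comp, ← IsScalarTower.algebraMap_eq]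
      refine Eq.trans ?_ (congrArg (fun t => t ≫ i) e3).symm
      rw [Category.assoc, hs, e4, Category.assoc]
    · rw [Category.assoc, hz2, Category.assoc, h₁v, ← Spec.map_comp, ← CommRingCat.ofHom_comp]
      have e5 : ev.comp (algebraMap K (K ⊗[B'] C)) = RingHom.id K := by
        ext k
        change ev (k ⊗ₜ 1) = k
        rw [hev', map_one, map_one, mul_one]
      rw [e5]
      exact (Spec.map_id _).symm
  let Z' : FEt.Cat (Spec (CommRingCat.of (K ⊗[B'] C))) := (FEt.restrict h₁).obj Z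
  let z' : Spec (CommRingCat.of K) ⟶ Z'.left := pullback.lift z (Spec.map (CommRingCat.ofHom ev)) hzev
  have hz' : z' ≫ Z'.hom = Spec.map (CommRingCat.ofHom ev) := pullback.lift_snd _ _ _
  obtain ⟨E, _, _, hE1, hE2, ⟨a⟩⟩ := exists_iso_ofAlgebra Z'
  let zE : E →+* K := (Spec.preimage (z' ≫ a.hom.left)).hom
  have hzE : Spec.map (CommRingCat.ofHom zE) = z' ≫ a.hom.left := Spec.map_preimage _
  have hzE' : ∀ r, zE (algebraMap (K ⊗[B'] C) E r) = ev r := by
    have e6 : a.hom.left ≫ Spec.map (CommRingCat.ofHom (algebraMap (K ⊗[B'] C) E)) = Z'.hom := hom_w a.hom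
    have e7 : Spec.map (CommRingCat.ofHom (zE.comp (algebraMap (K ⊗[B'] C) E))) = Spec.map (CommRingCat.ofHom ev) := by
      rw [CommRingCat.ofHom_comp, Spec.map_comp, hzE, Category.assoc, e6, hz']
    intro r
    have e8 := congrArg CommRingCat.Hom.hom (Spec.map_injective e7)
    exact congr($e8 r)
  obtain ⟨V, hV, hVE⟩ := exists_open_ext_alg (K := K) (E := E) hG ε hε hX
    (fun k _ _ t => Fib.connectedSpace_pullback f hfib i (Spec.map (CommRingCat.ofHom (algebraMap B' C))) l w
      (Spec.map (CommRingCat.ofHom ε)) (by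
        rw [← Spec.map_comp, ← CommRingCat.ofHom_comp]
        have e9 : ε.comp (algebraMap B' C) = RingHom.id B' := by
          ext b
          exact hε b
        rw [e9]
        exact Spec.map_id _) k t) G hcard
    (conjAction a (bcAction h₁ ρ)) (isPrincipal_conj G a _ (isPrincipal_bc h₁ G Z ρ hρ)) zE
    (fun k c => by rw [hzE', hev']) m
  have hVZ : EO (gen B' K C) Z' V.ι := hVE.of_iso a.symm
  have hVZ' : EO j Z (V.ι ≫ i) := (eo_restrict_iff sq3).1 hVZ
  have hr : Set.range (i ''ᵁ V).ι ⊆ Set.range (V.ι ≫ i) := by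
    rw [Scheme.Opens.range_ι]
    rintro _ ⟨y, hy, rfl⟩
    exact ⟨⟨y, hy⟩, rfl⟩
  refine ⟨i ''ᵁ V, ?_, hVZ'.of_eq_comp (IsOpenImmersion.lift (V.ι ≫ i) (i ''ᵁ V).ι hr)
    (IsOpenImmersion.lift_fac _ _ _)⟩
  have e10 : s (l (⟨m, inferInstance⟩ : PrimeSpectrum B')) =
      i (Spec.map (CommRingCat.ofHom ε) (⟨m, inferInstance⟩ : PrimeSpectrum B')) := by
    rw [← Scheme.Hom.comp_apply, ← Scheme.Hom.comp_apply, hs]
  change s (l (⟨m, inferInstance⟩ : PrimeSpectrum B')) ∈ i ''ᵁ V
  rw [e10]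
  exact ⟨_, hV, rfl⟩

end K150.ChartUse
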