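import Groth.Agent.Pi1.K150.Fib
import Groth.Agent.Ega4dA.SmoothStalk

/-!
# Irreducibility of smooth schemes with connected geometric fibres (helper150)
-/

set_option autoImplicit false
set_option backward.isDefEq.respectTransparency false
set_option backward.isDefEq.respectTransparency.types false
set_option linter.unusedSectionVars false

open CategoryTheory CategoryTheory.Limits AlgebraicGeometry TopologicalSpace

namespace K150.Irr

universe u

variable {S X : Scheme.{u}} (f : X ⟶ S) [Smooth f]
  (hfib : ∀ (K : Type u) [Field K] [IsAlgClosed K] (t : Spec (CommRingCat.of K) ⟶ S),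
      ConnectedSpace ↥(pullback f t))

include hfib in
/-- The fibres are irreducible. -/
theorem isIrreducible_fibre (s : S) : IsIrreducible (f ⁻¹' {s}) := by
  let k := S.residueField s
  let Ω := AlgebraicClosure k
  let t : Spec (CommRingCat.of Ω) ⟶ S :=
    Spec.map (CommRingCat.ofHom (algebraMap k Ω)) ≫ S.fromSpecResidueField s
  have ht : Set.range t = {s} := by
    have h1 : ∀ y, t y = s := by
      intro y
      have h2 : t y ∈ Set.range (S.fromSpecResidueField s) := ⟨_, (Scheme.Hom.comp_apply _ _ y).symm⟩
      rw [Scheme.range_fromSpecResidueField] at h2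
      exact h2
    ext x
    constructor
    · rintro ⟨y, rfl⟩
      exact h1 y
    · rintro rfl
      exact ⟨(⊥ : PrimeSpectrum Ω), h1 _⟩
  have h0 := hfib Ω t
  have hirr : IrreducibleSpace ↥(pullback f t) :=
    K20.GeomIrr.irreducibleSpace_of_smooth (pullback.snd f t)
  have h3 : f ⁻¹' {s} = (pullback.fst f t) '' Set.univ := by
    rw [Set.image_univ, Scheme.Pullback.range_fst, ht]
  rw [h3]
  exact (IrreducibleSpace.isIrreducible_univ _).image _ (pullback.fst f t).continuous.continuousOn

include hfib in
theorem surjective : Function.Surjective f := by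
  intro s
  obtain ⟨x, hx⟩ := (isIrreducible_fibre f hfib s).1
  exact ⟨x, hx⟩

include hfib in
theorem irreducibleSpace [IrreducibleSpace S] : IrreducibleSpace X := by
  have h1 : IsPreirreducible (f ⁻¹' (Set.univ : Set S)) :=
    (PreirreducibleSpace.isPreirreducible_univ (X := S)).preimage_of_isPreirreducible_fiber f f.isOpenMap
      (fun s => (isIrreducible_fibre f hfib s).2)
  rw [Set.preimage_univ] at h1
  have h2 : PreirreducibleSpace X := ⟨h1⟩
  obtain ⟨s⟩ : Nonempty S := inferInstance
  obtain ⟨x, -⟩ := (isIrreducible_fibre f hfib s).1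
  exact { toPreirreducibleSpace := h2, toNonempty := ⟨x⟩ }

theorem isNormalScheme {S X : Scheme.{u}} (f : X ⟶ S) [Smooth f] (hS : Pi1.IsNormalScheme S) :
    Pi1.IsNormalScheme X :=
  fun x => Groth.Agent.Ega4dA.SmoothStalk.stalk_of_smooth hS f x

include hfib in
theorem isIntegral [IsIntegral S] (hS : Pi1.IsNormalScheme S) : IsIntegral X := by
  have h1 : IrreducibleSpace X := irreducibleSpace f hfib
  have h2 : ∀ x : X, IsReduced (X.presheaf.stalk x) := fun x => by
    have := (isNormalScheme f hS x).1
    infer_instance
  have h3 : IsReduced X := isReduced_of_isReduced_stalk X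
  exact isIntegral_of_irreducibleSpace_of_isReduced X

include hfib in
theorem apply_genericPoint [IsIntegral S] [IsIntegral X] : f (genericPoint X) = genericPoint S := by
  have h1 : Set.range f = Set.univ := Set.range_eq_univ.2 (surjective f hfib)
  have h2 : genericPoint S ∈ Set.range f := by rw [h1]; trivial
  obtain ⟨x, hx⟩ := h2
  have h3 : f (genericPoint X) ⤳ genericPoint S := by
    rw [← hx]
    exact (genericPoint_specializes x).map f.continuous
  exact (h3.antisymm (genericPoint_specializes _)).eq

end K150.Irr
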