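import Groth.Agent.Pi1.K150.ChartEx
import Groth.Agent.Pi1.K150.Irr
import Groth.Agent.Pi1.H395.NormalExt
import Groth.Agent.Lefpen.H416.NormalBase

/-!
# Extension of principal covers of the generic fibre over a base of finite type over `ℤ` (helper150)
-/

set_option autoImplicit false
set_option backward.isDefEq.respectTransparency false
set_option backward.isDefEq.respectTransparency.types false
set_option linter.unusedSectionVars false

open CategoryTheory CategoryTheory.Limits AlgebraicGeometry TensorProduct TopologicalSpace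
open K150.Ext Groth.Agent.Pi1A.FEtGlue

namespace K150.Core

universe u v

section codim

variable {S X : Scheme.{u}} (f : X ⟶ S) [Smooth f]
  (hfib : ∀ (K : Type u) [Field K] [IsAlgClosed K] (t : Spec (CommRingCat.of K) ⟶ S),
      ConnectedSpace ↥(pullback f t))

include hfib in
/-- An open which meets every fibre is dense in every fibre. -/
theorem dense_fibre (V : X.Opens) (hV : ∀ s : S, ∃ x ∈ V, f x = s) (s : S) :
    f ⁻¹' {s} ⊆ closure ((V : Set X) ∩ f ⁻¹' {s}) := by
  have h1 := (Irr.isIrreducible_fibre f hfib s).2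
  obtain ⟨x, hx, hxs⟩ := hV s
  rw [Set.inter_comm]
  exact subset_closure_inter_of_isPreirreducible_of_isOpen h1 V.isOpen ⟨x, hxs, hx⟩

include hfib in
/-- The points of codimension one outside an open which meets every fibre lie over the generic point. -/
theorem apply_eq_genericPoint [IsIntegral S] [IsIntegral X] (V : X.Opens) (hV : ∀ s : S, ∃ x ∈ V, f x = s)
    (ξ : X) (hξ : ξ ∉ V) (hdim : ringKrullDim (X.presheaf.stalk ξ) = 1) : f ξ = genericPoint S := by
  by_contra hne
  -- the generic point of the fibre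
  have hirr := Irr.isIrreducible_fibre f hfib (f ξ)
  obtain ⟨γ, hγ⟩ := QuasiSober.sober hirr.closure isClosed_closure
  have hγξ : γ ⤳ ξ := by
    rw [specializes_iff_mem_closure, hγ.def]
    exact subset_closure rfl
  have hγf : f γ = f ξ := by
    have h1 : f γ ⤳ f ξ := hγξ.map f.continuous
    have h2 : γ ∈ closure (f ⁻¹' {f ξ}) := by
      rw [← hγ.def]
      exact subset_closure rfl
    have h3 : closure (f ⁻¹' {f ξ}) ⊆ f ⁻¹' (closure {f ξ}) :=
      closure_minimal (Set.preimage_mono subset_closure) (isClosed_closure.preimage f.continuous)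
    have h4 : f ξ ⤳ f γ := by
      rw [specializes_iff_mem_closure]
      exact h3 h2
    exact (h1.antisymm h4).eq
  have hγV : γ ∈ V := by
    obtain ⟨x, hx, hxs⟩ := hV (f ξ)
    have h1 : γ ⤳ x := by
      rw [specializes_iff_mem_closure, hγ.def]
      exact subset_closure hxs
    exact h1.mem_open V.isOpen hx
  have hγne : γ ≠ ξ := fun h => hξ (h ▸ hγV)
  have hgne : genericPoint X ≠ γ := by
    intro h
    apply hne
    rw [← hγf, ← h]
    exact Irr.apply_genericPoint f hfib
  -- the chain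
  have lt1 : ξ < γ := lt_of_le_not_ge (show ξ ≤ γ from hγξ) fun h3 => hγne (hγξ.antisymm h3).eq
  have lt2 : γ < genericPoint X := lt_of_le_not_ge (show γ ≤ genericPoint X from genericPoint_specializes γ)
    fun h3 => hgne ((genericPoint_specializes γ).antisymm h3).eq
  rw [ringKrullDim_stalk_eq_coheight] at hdim
  norm_cast at hdim
  have h5 : Order.coheight γ < Order.coheight ξ := by
    refine Order.coheight_strictAnti lt1 ?_
    have h6 : Order.coheight γ ≤ Order.coheight ξ := Order.coheight_anti lt1.le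
    rw [hdim] at h6
    exact lt_of_le_of_lt h6 (by exact ENat.natCast_lt_top 1)
  rw [hdim, Order.lt_one_iff] at h5
  have h7 : Order.coheight (genericPoint X) < Order.coheight γ := by
    refine Order.coheight_strictAnti lt2 ?_
    have h6 : Order.coheight (genericPoint X) ≤ Order.coheight γ := Order.coheight_anti lt2.le
    rw [h5] at h6
    exact lt_of_le_of_lt h6 (by exact ENat.natCast_lt_top 0)
  rw [h5] at h7
  exact absurd h7 not_lt_zero

end codim

section extend

/-- Extension from an open which meets every fibre. -/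
theorem eo_of_open_fibres {S X : Scheme.{u}} [IsIntegral S] [IsNoetherian S] (hS : Pi1.IsNormalScheme S)
    (f : X ⟶ S) [Smooth f] [IsNoetherian X]
    (hfib : ∀ (K : Type u) [Field K] [IsAlgClosed K] (t : Spec (CommRingCat.of K) ⟶ S),
      ConnectedSpace ↥(pullback f t))
    {T₀ U : Scheme.{u}} (g₀ : T₀ ⟶ S) [IsPreimmersion g₀] (hg₀ : genericPoint S ∈ Set.range g₀)
    (hfac : ∀ ξ : X, f ξ = genericPoint S → ∃ a : Spec (X.presheaf.stalk ξ) ⟶ T₀, a ≫ g₀ = X.fromSpecStalk ξ ≫ f)
    {j : U ⟶ X} {v : U ⟶ T₀} (h : IsPullback j v f g₀) [IsIntegral U] (hU : Pi1.IsNormalScheme U)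
    (Z : FEt.Cat U) (V : X.Opens) (hV : ∀ s : S, ∃ x ∈ V, f x = s) (hZ : EO j Z V.ι) :
    ∃ Y : FEt.Cat X, Nonempty ((FEt.restrict j).obj Y ≅ Z) := by
  have hX : IsIntegral X := Irr.isIntegral f hfib hS
  obtain ⟨YV, ⟨e⟩⟩ := hZ
  obtain ⟨Y, ⟨r⟩⟩ := Groth.Agent.Pi1.H395.NormalExt.exists_extension f hS V (dense_fibre f hfib V hV) YV (by
    intro ξ hξ hdim
    obtain ⟨a, ha⟩ := hfac ξ (apply_eq_genericPoint f hfib V hV ξ hξ hdim)
    let b : Spec (X.presheaf.stalk ξ) ⟶ U := h.lift (X.fromSpecStalk ξ) a ha.symm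
    have hb : b ≫ j = X.fromSpecStalk ξ := h.lift_fst _ _ _
    let κ : pullback V.ι (X.fromSpecStalk ξ) ⟶ pullback j V.ι :=
      pullback.lift (pullback.snd _ _ ≫ b) (pullback.fst _ _) (by
        rw [Category.assoc, hb, pullback.condition])
    have h1 : κ ≫ pullback.fst j V.ι = pullback.snd _ _ ≫ b := pullback.lift_fst _ _ _
    have h2 : κ ≫ pullback.snd j V.ι = pullback.fst _ _ := pullback.lift_snd _ _ _
    exact ⟨(FEt.restrict b).obj Z, ⟨(restrictComp _ b).symm.app Z ≪≫ (restrictCongr h1.symm).app Z ≪≫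
      (restrictComp κ (pullback.fst j V.ι)).app Z ≪≫ (FEt.restrict κ).mapIso e.symm ≪≫
      (restrictComp κ (pullback.snd j V.ι)).symm.app YV ≪≫ (restrictCongr h2).app YV⟩⟩)
  refine ⟨Y, ?_⟩
  -- full faithfulness on `V_K`
  have hne : Nonempty ↥(pullback j V.ι) := by
    obtain ⟨x, hxV, hx⟩ := hV (genericPoint S)
    obtain ⟨t₀, ht₀⟩ := hg₀
    obtain ⟨z, hz, -⟩ := Scheme.exists_preimage_of_isPullback h x t₀ (by rw [hx, ht₀])
    obtain ⟨w, -, -⟩ := Scheme.exists_preimage_of_isPullback (IsPullback.of_hasPullback j V.ι) z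
      (⟨x, hxV⟩ : (V : Scheme.{u})) hz
    exact ⟨w⟩
  have hFF : (FEt.restrict (pullback.fst j V.ι)).Full ∧ (FEt.restrict (pullback.fst j V.ι)).Faithful := by
    have ho : IsOpenImmersion (pullback.fst j V.ι) := inferInstance
    refine Groth.Agent.Pi1A.NormalFF.fullyFaithful_of_normal hU (pullback.fst j V.ι) ?_ ?_ ?_
    · intro T
      exact (pullback.fst T.hom (pullback.fst j V.ι)).isOpenEmbedding.injective
    · exact ((genericPoint_spec U).mem_open_set_iff (pullback.fst j V.ι).isOpenEmbedding.isOpen_range).mpr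
        (by simpa using Set.range_nonempty _)
    · intro T W hW hWne
      have hE : Etale T.hom := T.prop.2
      obtain ⟨w, hw, hgw⟩ := Groth.Agent.Pi1A.NormalEtale.exists_mem_fiber (X := U)
        (pullback.fst T.hom (pullback.fst j V.ι) ≫ T.hom) W hW hWne
      exact ⟨w, hw, (Scheme.Hom.comp_apply _ _ w).symm.trans hgw⟩
  obtain ⟨hF1, hF2⟩ := hFF
  have i1 : (FEt.restrict (pullback.fst j V.ι)).obj ((FEt.restrict j).obj Y) ≅
      (FEt.restrict (pullback.fst j V.ι)).obj Z :=
    (restrictComp (pullback.fst j V.ι) j).symm.app Y ≪≫ (restrictCongr pullback.condition).app Y ≪≫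
      (restrictComp (pullback.snd j V.ι) V.ι).app Y ≪≫ (FEt.restrict (pullback.snd j V.ι)).mapIso r ≪≫ e
  exact ⟨(FEt.restrict (pullback.fst j V.ι)).preimageIso i1⟩

end extend

section main

variable {B K : Type u} [CommRing B] [IsDomain B] [IsNoetherianRing B] [IsIntegrallyClosed B]
  (hBZ : (Int.castRingHom B).FiniteType) [Field K] [Algebra B K] [IsFractionRing B K]

include hBZ in
/-- The generic fibre case over a normal domain of finite type over `ℤ`. -/
theorem core {X U : Scheme.{u}} (f : X ⟶ Spec (CommRingCat.of B)) [Smooth f] [QuasiCompact f]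
    (hfib : ∀ (k : Type u) [Field k] [IsAlgClosed k] (t : Spec (CommRingCat.of k) ⟶ Spec (CommRingCat.of B)),
      ConnectedSpace ↥(pullback f t))
    (s : Spec (CommRingCat.of B) ⟶ X) (hs : s ≫ f = 𝟙 _)
    {j : U ⟶ X} {v : U ⟶ Spec (CommRingCat.of K)}
    (h : IsPullback j v f (Spec.map (CommRingCat.ofHom (algebraMap B K))))
    (Z : FEt.Cat U) (G : Type v) [Group G] [Finite G]
    (ρ : G →* Aut Z) (hρ : SGA1t.IsPrincipal G Z ρ)
    (z : Spec (CommRingCat.of K) ⟶ Z.left)
    (hz1 : z ≫ Z.hom ≫ j = Spec.map (CommRingCat.ofHom (algebraMap B K)) ≫ s) (hz2 : z ≫ Z.hom ≫ v = 𝟙 _)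
    (hcard : IsUnit ((Nat.card G : ℕ) : B)) :
    ∃ Y : FEt.Cat X, Nonempty ((FEt.restrict j).obj Y ≅ Z) := by
  have hNS : Pi1.IsNormalScheme (Spec (CommRingCat.of B)) := Groth.Agent.Lefpen.H416.NormalBase.isNormalScheme_spec B
  have hinj : Function.Injective (algebraMap B K) := IsFractionRing.injective B K
  have hrange : Set.range (Spec.map (CommRingCat.ofHom (algebraMap B K))) =
      {genericPoint (Spec (CommRingCat.of B))} := Groth.Agent.Lefpen.H416.NormalBase.range_specMap B K hinj
  have hX : IsIntegral X := Irr.isIntegral f hfib hNS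
  have hNX : Pi1.IsNormalScheme X := Irr.isNormalScheme f hNS
  have hXn : IsNoetherian X := by
    have h1 : IsLocallyNoetherian X := LocallyOfFiniteType.isLocallyNoetherian f
    have h2 : CompactSpace X := QuasiCompact.compactSpace_of_compactSpace f
    exact {}
  have hpre : IsPreimmersion (Spec.map (CommRingCat.ofHom (algebraMap B K))) :=
    IsPreimmersion.of_isLocalization (nonZeroDivisors B)
  have hgenS : genericPoint (Spec (CommRingCat.of B)) ∈ Set.range (Spec.map (CommRingCat.ofHom (algebraMap B K))) := by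
    rw [hrange]; rfl
  have hgenX : f (genericPoint X) ∈ Set.range (Spec.map (CommRingCat.ofHom (algebraMap B K))) := by
    rw [Irr.apply_genericPoint f hfib]; exact hgenS
  -- the open over which `Z` extends
  let V : X.Opens := sSup {W : X.Opens | EO j Z W.ι}
  have hVloc : ∀ x ∈ V, ∃ W : X.Opens, x ∈ W ∧ EO j Z W.ι := by
    intro x hx
    obtain ⟨W, hW, hxW⟩ := Opens.mem_sSup.1 hx
    exact ⟨W, hxW, hW⟩
  have hVs : ∀ y : Spec (CommRingCat.of B), s y ∈ V := by
    have hop : IsOpen (s ⁻¹' (V : Set X)) := V.isOpen.preimage s.continuous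
    intro y
    obtain ⟨m, hm, hym⟩ := Ideal.exists_le_maximal (y : PrimeSpectrum B).asIdeal (y : PrimeSpectrum B).isPrime.ne_top
    obtain ⟨W, hW, hWE⟩ := ChartEx.exists_open hBZ f hfib s hs h Z G ρ hρ z hz1 hz2 hcard ⟨m, hm.isPrime⟩ hm
    have h1 : s (⟨m, hm.isPrime⟩ : PrimeSpectrum B) ∈ V := Opens.mem_sSup.2 ⟨W, hWE, hW⟩
    have h2 : y ⤳ (⟨m, hm.isPrime⟩ : PrimeSpectrum B) := (PrimeSpectrum.le_iff_specializes _ _).1 hym
    exact h2.mem_open hop h1
  have hVf : ∀ y : Spec (CommRingCat.of B), ∃ x ∈ V, f x = y := by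
    intro y
    refine ⟨s y, hVs y, ?_⟩
    rw [← Scheme.Hom.comp_apply, hs]
    rfl
  have hVne : (V : Set X).Nonempty := by
    obtain ⟨y⟩ : Nonempty (Spec (CommRingCat.of B)) := inferInstance
    exact ⟨s y, hVs y⟩
  have hVE : EO j Z V.ι := eo_of_local hNX hgenX h Z V hVne hVloc
  -- the generic fibre
  have hUsm : Smooth v := MorphismProperty.of_isPullback (P := @Smooth) h (inferInstance : Smooth f)
  have hUfib : ∀ (k : Type u) [Field k] [IsAlgClosed k] (t : Spec (CommRingCat.of k) ⟶ Spec (CommRingCat.of K)),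
      ConnectedSpace ↥(pullback v t) := by
    intro k _ _ t
    have h1 : IsPullback (pullback.fst v t ≫ j) (pullback.snd v t) f (t ≫ Spec.map (CommRingCat.ofHom (algebraMap B K))) :=
      ((IsPullback.of_hasPullback v t).flip.paste_vert h.flip).flip
    have h2 := hfib k (t ≫ Spec.map (CommRingCat.ofHom (algebraMap B K)))
    exact (Scheme.homeoOfIso h1.isoPullback).symm.surjective.connectedSpace
      (Scheme.homeoOfIso h1.isoPullback).symm.continuous
  have hNK : Pi1.IsNormalScheme (Spec (CommRingCat.of K)) := Groth.Agent.Lefpen.H416.NormalBase.isNormalScheme_spec K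
  have hUint : IsIntegral U := Irr.isIntegral v hUfib hNK
  have hUN : Pi1.IsNormalScheme U := Irr.isNormalScheme v hNK
  refine eo_of_open_fibres hNS f hfib (Spec.map (CommRingCat.ofHom (algebraMap B K))) hgenS ?_ h hUN Z V hVf hVE
  intro ξ hξ
  -- factorization through the generic point
  let φ : CommRingCat.of B ⟶ X.presheaf.stalk ξ := Spec.preimage (X.fromSpecStalk ξ ≫ f)
  have hφ : Spec.map φ = X.fromSpecStalk ξ ≫ f := Spec.map_preimage _
  have hu : ∀ b : nonZeroDivisors B, IsUnit (φ.hom b) := by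
    intro b
    by_contra hb
    have h1 : φ.hom b ∈ IsLocalRing.maximalIdeal (X.presheaf.stalk ξ) := hb
    have h2 : (b : B) ∈ (Spec.map φ (IsLocalRing.closedPoint (X.presheaf.stalk ξ)) : PrimeSpectrum B).asIdeal := h1
    have h3 : Spec.map φ (IsLocalRing.closedPoint (X.presheaf.stalk ξ)) = genericPoint (Spec (CommRingCat.of B)) := by
      rw [hφ, Scheme.Hom.comp_apply, Scheme.fromSpecStalk_closedPoint, hξ]
    have h4 : genericPoint (Spec (CommRingCat.of B)) = (⟨⊥, Ideal.isPrime_bot⟩ : PrimeSpectrum B) :=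
      genericPoint_eq_bot_of_affine (CommRingCat.of B)
    rw [h3, h4] at h2
    exact nonZeroDivisors.ne_zero b.2 ((Ideal.mem_bot).1 h2)
  let ψ : K →+* X.presheaf.stalk ξ := IsLocalization.lift (M := nonZeroDivisors B) hu
  have hψ : ψ.comp (algebraMap B K) = φ.hom := IsLocalization.lift_comp hu
  refine ⟨Spec.map (CommRingCat.ofHom ψ), ?_⟩
  rw [← hφ, ← Spec.map_comp, ← CommRingCat.ofHom_comp, hψ]
  rfl

end main

end K150.Core
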