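import Groth.Agent.Pi1.H382.Spread
import Groth.Agent.Pi1.H393.Conv

/-!
# Extension over the integral closure of a henselian discrete valuation ring in an algebraic closure (helper150)
-/

set_option autoImplicit false
set_option backward.isDefEq.respectTransparency false
set_option backward.isDefEq.respectTransparency.types false
set_option linter.unusedSectionVars false

open CategoryTheory CategoryTheory.Limits AlgebraicGeometry TensorProduct IsLocalRing

namespace K150.DvrAlg

universe u v

open Groth.Agent.Pi1A.FEtAffine Groth.Agent.Pi1.H382.Desc Groth.Agent.Pi1.H383.PrincBC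

section squares

variable (B C : Type u) [CommRing B] [CommRing C] [Algebra B C]

/-- The base change square. -/
theorem isPullback_bc (R : Type u) [CommRing R] [Algebra B R] :
    IsPullback (Spec.map (CommRingCat.ofHom (Algebra.TensorProduct.includeRight : C →ₐ[B] R ⊗[B] C).toRingHom))
      (Spec.map (CommRingCat.ofHom (algebraMap R (R ⊗[B] C))))
      (Spec.map (CommRingCat.ofHom (algebraMap B C))) (Spec.map (CommRingCat.ofHom (algebraMap B R))) :=
  isPullback_SpecMap_of_isPushout _ _ _ _ (CommRingCat.isPushout_tensorProduct B R C).flip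

variable {B} in
/-- The map `R ⊗ C → R' ⊗ C`. -/
noncomputable def mp {R R' : Type u} [CommRing R] [Algebra B R] [CommRing R'] [Algebra B R']
    (g : R →ₐ[B] R') : R ⊗[B] C →+* R' ⊗[B] C :=
  (Algebra.TensorProduct.map g (AlgHom.id B C)).toRingHom

variable {B C}

theorem mp_tmul {R R' : Type u} [CommRing R] [Algebra B R] [CommRing R'] [Algebra B R']
    (g : R →ₐ[B] R') (r : R) (c : C) : mp C g (r ⊗ₜ c) = g r ⊗ₜ c := rfl

theorem isPullback_mp {R R' : Type u} [CommRing R] [Algebra B R] [CommRing R'] [Algebra B R']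
    (g : R →ₐ[B] R') :
    IsPullback (Spec.map (CommRingCat.ofHom (mp C g)))
      (Spec.map (CommRingCat.ofHom (algebraMap R' (R' ⊗[B] C))))
      (Spec.map (CommRingCat.ofHom (algebraMap R (R ⊗[B] C)))) (Spec.map (CommRingCat.ofHom g.toRingHom)) := by
  have h1 := isPullback_bc B C R
  have h2 := isPullback_bc B C R'
  have e1 : Spec.map (CommRingCat.ofHom (mp C g)) ≫
      Spec.map (CommRingCat.ofHom (Algebra.TensorProduct.includeRight : C →ₐ[B] R ⊗[B] C).toRingHom) =
      Spec.map (CommRingCat.ofHom (Algebra.TensorProduct.includeRight : C →ₐ[B] R' ⊗[B] C).toRingHom) := by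
    rw [← Spec.map_comp, ← CommRingCat.ofHom_comp]
    congr 2
    ext c
    change g 1 ⊗ₜ[B] c = 1 ⊗ₜ[B] c
    rw [map_one]
  have e2 : Spec.map (CommRingCat.ofHom g.toRingHom) ≫ Spec.map (CommRingCat.ofHom (algebraMap B R)) =
      Spec.map (CommRingCat.ofHom (algebraMap B R')) := by
    rw [← Spec.map_comp, ← CommRingCat.ofHom_comp]
    congr 2
    exact g.comp_algebraMap
  refine IsPullback.of_right (h₁₁ := Spec.map (CommRingCat.ofHom (mp C g))) (h₂₁ := Spec.map (CommRingCat.ofHom g.toRingHom)) ?_ ?_ h1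
  · rw [e1, e2]
    exact h2
  · rw [← Spec.map_comp, ← Spec.map_comp, ← CommRingCat.ofHom_comp, ← CommRingCat.ofHom_comp]
    congr 2

end squares

section spread

variable {B C : Type u} [CommRing B] [CommRing C] [Algebra B C]



/-- The structure morphism of `Spec (A ⊗ C)`. -/
noncomputable abbrev fA (B C A : Type u) [CommRing B] [CommRing C] [Algebra B C] [CommRing A] [Algebra B A] :
    Spec (CommRingCat.of (A ⊗[B] C)) ⟶ Spec (CommRingCat.of A) :=
  Spec.map (CommRingCat.ofHom (algebraMap A (A ⊗[B] C)))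

instance smooth_fA {A : Type u} [CommRing A] [Algebra B A] [Algebra.Smooth B C] : Smooth (fA B C A) := by
  rw [HasRingHomProperty.Spec_iff (P := @Smooth)]
  change (algebraMap A (A ⊗[B] C)).Smooth
  rw [RingHom.smooth_algebraMap]
  infer_instance

/-- Extension of principal covers over the integral closure of a henselian discrete valuation ring in an
algebraic closure of its fraction field. -/
theorem exists_EV {A : Type u} [CommRing A] [IsDomain A] [IsDiscreteValuationRing A]
    [HenselianLocalRing A] (K : Type u) {Ω : Type u} [Field K] [Algebra A K]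
    [IsFractionRing A K] [Field Ω] [Algebra A Ω] [Algebra K Ω] [IsScalarTower A K Ω]
    [Algebra.IsAlgebraic K Ω] [IsAlgClosed Ω] [Algebra B A] [Algebra B Ω] [IsScalarTower B A Ω]
    [Algebra.Smooth B C]
    (hfib : ∀ (k : Type u) [Field k] [IsAlgClosed k]
      (s : Spec (CommRingCat.of k) ⟶ Spec (CommRingCat.of A)), s (⊥ : PrimeSpectrum k) = closedPoint A →
        ConnectedSpace ↥(pullback (fA B C A) s))
    (G : Type v) [Group G] [Finite G] (hcard : IsUnit ((Nat.card G : ℕ) : A))
    (Z : FEt.Cat (Spec (CommRingCat.of (Ω ⊗[B] C)))) (ρ : G →* Aut Z) (hZ : SGA1t.IsPrincipal G Z ρ) :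
    ∃ (EV : Type u) (_ : CommRing EV) (_ : Algebra (integralClosure A Ω ⊗[B] C) EV)
      (_ : Module.Finite (integralClosure A Ω ⊗[B] C) EV)
      (_ : Algebra.Etale (integralClosure A Ω ⊗[B] C) EV),
      Nonempty ((FEt.restrict (Spec.map (CommRingCat.ofHom
        (mp C (IsScalarTower.toAlgHom B (integralClosure A Ω) Ω))))).obj
        (ofAlgebra (integralClosure A Ω ⊗[B] C) EV) ≅ Z) := by
  have hΩ := isPullback_mp (C := C) (IsScalarTower.toAlgHom B A Ω)
  let iΩ : Spec (CommRingCat.of (Ω ⊗[B] C)) ≅ pullback (fA B C A) (toBase A Ω) := hΩ.isoPullback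
  have hi1 : iΩ.hom ≫ pullback.fst _ _ = Spec.map (CommRingCat.ofHom (mp C (IsScalarTower.toAlgHom B A Ω))) :=
    hΩ.isoPullback_hom_fst
  have hi2 : iΩ.hom ≫ pullback.snd _ _ = Spec.map (CommRingCat.ofHom (algebraMap Ω (Ω ⊗[B] C))) :=
    hΩ.isoPullback_hom_snd
  obtain ⟨L, hL, Z', ρ', hZ', e, -⟩ := Groth.Agent.Pi1.H382.Spread.exists_spread (K := K) (fA B C A) hfib G hcard
    ((FEt.restrict iΩ.inv).obj Z) (bcAction iΩ.inv ρ) (isPrincipal_bc iΩ.inv G Z ρ hZ)
  let j : integralClosure A L →ₐ[A] integralClosure A Ω :=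
    AlgHom.mapIntegralClosure (IsScalarTower.toAlgHom A L Ω)
  let q : Spec (CommRingCat.of (Ω ⊗[B] C)) ⟶ Spec (CommRingCat.of (integralClosure A Ω ⊗[B] C)) :=
    Spec.map (CommRingCat.ofHom (mp C (IsScalarTower.toAlgHom B (integralClosure A Ω) Ω)))
  let w : Spec (CommRingCat.of (integralClosure A Ω ⊗[B] C)) ⟶
      pullback (fA B C A) (toBase A (integralClosure A L)) :=
    pullback.lift (Spec.map (CommRingCat.ofHom (mp C (IsScalarTower.toAlgHom B A (integralClosure A Ω)))))
      (Spec.map (CommRingCat.ofHom (algebraMap (integralClosure A Ω) (integralClosure A Ω ⊗[B] C))) ≫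
        Spec.map (CommRingCat.ofHom j.toRingHom)) (by
      rw [(isPullback_mp (C := C) (IsScalarTower.toAlgHom B A (integralClosure A Ω))).w, Category.assoc]
      congr 1
      rw [← Spec.map_comp, ← CommRingCat.ofHom_comp]
      congr 2)
  have hqw : q ≫ w = iΩ.hom ≫ trans (fA B C A) (integralClosure A L) Ω := by
    apply pullback.hom_ext
    · rw [Category.assoc, Category.assoc, pullback.lift_fst, Groth.Agent.Pi1.H382.PullMap.pm_fst, hi1,
        ← Spec.map_comp, ← CommRingCat.ofHom_comp]
      congr 2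
      ext x
      · rfl
      · rfl
    · rw [Category.assoc, Category.assoc, pullback.lift_snd, Groth.Agent.Pi1.H382.PullMap.pm_snd,
        ← Category.assoc iΩ.hom, hi2, ← Category.assoc q, ← Spec.map_comp, ← Spec.map_comp, ← Spec.map_comp,
        ← CommRingCat.ofHom_comp, ← CommRingCat.ofHom_comp, ← CommRingCat.ofHom_comp]
      congr 2
  obtain ⟨EV, _, _, h1, h2, ⟨a⟩⟩ := exists_iso_ofAlgebra ((FEt.restrict w).obj Z')
  refine ⟨EV, inferInstance, inferInstance, h1, h2, ⟨?_⟩⟩
  exact (FEt.restrict q).mapIso a.symm ≪≫ (restrictComp q w).symm.app Z' ≪≫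
    (restrictCongr hqw).app Z' ≪≫ (restrictComp iΩ.hom (trans (fA B C A) (integralClosure A L) Ω)).app Z' ≪≫
    (FEt.restrict iΩ.hom).mapIso e ≪≫ (restrictComp iΩ.hom iΩ.inv).symm.app Z ≪≫
    (restrictCongr iΩ.hom_inv_id).app Z ≪≫ (restrictId _).app Z

end spread

end K150.DvrAlg
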