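import Groth.Agent.Pi1.K150.QStep
import Mathlib.RingTheory.Etale.Descent

/-!
# Integral closures that become étale after an étale base change (helper150)
-/

set_option autoImplicit false
set_option backward.isDefEq.respectTransparency false
set_option backward.isDefEq.respectTransparency.types false
set_option linter.unusedSectionVars false

open TensorProduct

namespace K150.EtDesc

universe u

section equiv

variable {B C K E E' F : Type*} [CommRing B] [CommRing C] [CommRing K] [Algebra B K] [CommRing E]
  [Algebra C E] [CommRing E'] [Algebra C E'] [Algebra.Smooth C E'] [CommRing F] [Algebra E' F]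
  [Algebra B E'] [Algebra B F] [IsScalarTower B E' F] [Algebra.IsIntegral E' F] [Algebra.Smooth B F]

/-- `F` is the integral closure of `E'` in `F ⊗ K`. -/
noncomputable def closureEquiv (hinj : Function.Injective (algebraMap B K))
    (hcl : ∀ w : K, IsIntegral B w → w ∈ (algebraMap B K).range) :
    F ≃ₐ[E'] integralClosure E' (F ⊗[B] K) := by
  refine AlgEquiv.ofBijective ((Algebra.TensorProduct.includeLeft : F →ₐ[E'] F ⊗[B] K).codRestrict
    (integralClosure E' (F ⊗[B] K)) (fun f => (Algebra.IsIntegral.isIntegral (R := E') f).map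
      (Algebra.TensorProduct.includeLeft : F →ₐ[E'] F ⊗[B] K))) ⟨?_, ?_⟩
  · intro a b hab
    have h1 : (a ⊗ₜ[B] (1 : K)) = b ⊗ₜ[B] (1 : K) := congrArg Subtype.val hab
    have hflat : Module.Flat B F := inferInstance
    exact Algebra.TensorProduct.includeLeft_injective (S := B) hinj h1
  · rintro ⟨x, hx⟩
    have hx' : IsIntegral F x := IsIntegral.tower_top (R := E') (A := F) hx
    obtain ⟨s, hs⟩ := QStep.exists_tmul_one hcl x hx'
    exact ⟨s, Subtype.ext hs.symm⟩

/-- The base change of the integral closure. -/
theorem exists_algEquiv (hinj : Function.Injective (algebraMap B K))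
    (hcl : ∀ w : K, IsIntegral B w → w ∈ (algebraMap B K).range)
    (Φ : E' ⊗[C] E ≃ₐ[E'] F ⊗[B] K) : Nonempty (E' ⊗[C] integralClosure C E ≃ₐ[E'] F) :=
  ⟨((AlgEquiv.ofBijective _ (TensorProduct.toIntegralClosure_bijective_of_smooth (R := C) (S := E')
    (B := E))).trans (AlgEquiv.mapIntegralClosure Φ)).trans (closureEquiv hinj hcl).symm⟩

end equiv

end K150.EtDesc
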