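import Groth.Agent.Pi1A.FEtGlue
import Groth.Agent.Pi1A.NormalFF
import Mathlib.AlgebraicGeometry.Morphisms.FlatMono

/-!
# Extension of finite étale covers along a morphism (helper150)

`EO j Z g`, for `j : U ⟶ X`, a finite étale cover `Z` of `U` and `g : T ⟶ X`: the pullback of `Z` to
`U ×_X T` extends to a finite étale cover of `T`.
-/

set_option autoImplicit false
set_option backward.isDefEq.respectTransparency false
set_option backward.isDefEq.respectTransparency.types false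
set_option linter.unusedSectionVars false
universe u

open CategoryTheory CategoryTheory.Limits AlgebraicGeometry TopologicalSpace
open Groth.Agent.Pi1A.FEtGlue

namespace K150.Ext

section basic

/-- The pullback of the finite étale cover `Z` of `U` to `U ×_X T` extends to a finite étale cover of `T`. -/
def EO {U X : Scheme.{u}} (j : U ⟶ X) (Z : FEt.Cat U) {T : Scheme.{u}} (g : T ⟶ X) : Prop :=
  ∃ Y : FEt.Cat T, Nonempty ((FEt.restrict (pullback.snd j g)).obj Y ≅
    (FEt.restrict (pullback.fst j g)).obj Z)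

variable {U X T T' : Scheme.{u}} {j : U ⟶ X} {Z : FEt.Cat U} {g : T ⟶ X}

/-- The isomorphism can be checked on any pullback square. -/
theorem iso_iff_of_isPullback {P : Scheme.{u}} {p₁ : P ⟶ U} {p₂ : P ⟶ T}
    (h : IsPullback p₁ p₂ j g) (Y : FEt.Cat T) :
    Nonempty ((FEt.restrict (pullback.snd j g)).obj Y ≅ (FEt.restrict (pullback.fst j g)).obj Z) ↔
      Nonempty ((FEt.restrict p₂).obj Y ≅ (FEt.restrict p₁).obj Z) := by
  constructor
  · rintro ⟨e⟩
    exact ⟨(restrictCongr h.isoPullback_hom_snd.symm).app Y ≪≫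
      (restrictComp h.isoPullback.hom (pullback.snd j g)).app Y ≪≫
      (FEt.restrict h.isoPullback.hom).mapIso e ≪≫
      (restrictComp h.isoPullback.hom (pullback.fst j g)).symm.app Z ≪≫
      (restrictCongr h.isoPullback_hom_fst).app Z⟩
  · rintro ⟨e⟩
    exact ⟨(restrictCongr h.isoPullback_inv_snd.symm).app Y ≪≫
      (restrictComp h.isoPullback.inv p₂).app Y ≪≫
      (FEt.restrict h.isoPullback.inv).mapIso e ≪≫
      (restrictComp h.isoPullback.inv p₁).symm.app Z ≪≫
      (restrictCongr h.isoPullback_inv_fst).app Z⟩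

/-- `EO` can be checked on any pullback square. -/
theorem eo_iff_of_isPullback {P : Scheme.{u}} {p₁ : P ⟶ U} {p₂ : P ⟶ T}
    (h : IsPullback p₁ p₂ j g) :
    EO j Z g ↔ ∃ Y : FEt.Cat T, Nonempty ((FEt.restrict p₂).obj Y ≅ (FEt.restrict p₁).obj Z) :=
  exists_congr fun Y => iso_iff_of_isPullback h Y

theorem EO.of_iso {Z' : FEt.Cat U} (i : Z ≅ Z') (h : EO j Z g) : EO j Z' g := by
  obtain ⟨Y, ⟨e⟩⟩ := h
  exact ⟨Y, ⟨e ≪≫ (FEt.restrict _).mapIso i⟩⟩

/-- Extensions pull back. -/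
theorem EO.comp (h : EO j Z g) (k : T' ⟶ T) : EO j Z (k ≫ g) := by
  obtain ⟨Y, ⟨e⟩⟩ := h
  let κ : pullback j (k ≫ g) ⟶ pullback j g :=
    pullback.lift (pullback.fst _ _) (pullback.snd _ _ ≫ k) (by
      rw [Category.assoc]
      exact pullback.condition)
  have h1 : κ ≫ pullback.fst _ _ = pullback.fst _ _ := pullback.lift_fst _ _ _
  have h2 : κ ≫ pullback.snd _ _ = pullback.snd _ _ ≫ k := pullback.lift_snd _ _ _
  refine ⟨(FEt.restrict k).obj Y, ⟨?_⟩⟩
  exact (restrictComp (pullback.snd j (k ≫ g)) k).symm.app Y ≪≫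
    (restrictCongr h2.symm).app Y ≪≫
    (restrictComp κ (pullback.snd j g)).app Y ≪≫
    (FEt.restrict κ).mapIso e ≪≫
    (restrictComp κ (pullback.fst j g)).symm.app Z ≪≫
    (restrictCongr h1).app Z

theorem EO.of_eq_comp (h : EO j Z g) {g' : T' ⟶ X} (k : T' ⟶ T) (hk : k ≫ g = g') : EO j Z g' :=
  hk ▸ h.comp k

/-- Extension over the whole scheme. -/
theorem eo_id_iff : EO j Z (𝟙 X) ↔ ∃ Y : FEt.Cat X, Nonempty ((FEt.restrict j).obj Y ≅ Z) := by
  have hsq : IsPullback (𝟙 U) j j (𝟙 X) := IsPullback.of_id_fst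
  rw [eo_iff_of_isPullback hsq]
  constructor
  · rintro ⟨Y, ⟨e⟩⟩
    exact ⟨Y, ⟨e ≪≫ (restrictId _).app Z⟩⟩
  · rintro ⟨Y, ⟨e⟩⟩
    exact ⟨Y, ⟨e ≪≫ ((restrictId _).app Z).symm⟩⟩

/-- Extension over a morphism with values in an open subscheme over which `Z` extends. -/
theorem eo_of_open {W : X.Opens} (hW : EO j Z W.ι) (g : T ⟶ X) (hg : ∀ t : T, g t ∈ W) : EO j Z g := by
  have hr : Set.range g ⊆ W := by
    rintro _ ⟨t, rfl⟩
    exact hg t
  exact hW.of_eq_comp (IsOpenImmersion.lift W.ι g (by simpa using hr)) (IsOpenImmersion.lift_fac _ _ _)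

theorem EO.mono {W W' : X.Opens} (hW : EO j Z W.ι) (h : W' ≤ W) : EO j Z W'.ι :=
  hW.of_eq_comp (X.homOfLE h) (X.homOfLE_ι h)

/-- Base change of the target. -/
theorem eo_restrict_iff {X₁ U₁ : Scheme.{u}} {j₁ : U₁ ⟶ X₁} {h₁ : U₁ ⟶ U} {h : X₁ ⟶ X}
    (H : IsPullback h₁ j₁ j h) {g : T ⟶ X₁} :
    EO j₁ ((FEt.restrict h₁).obj Z) g ↔ EO j Z (g ≫ h) := by
  have h2 : IsPullback (pullback.fst j₁ g) (pullback.snd j₁ g) j₁ g := IsPullback.of_hasPullback _ _
  have h3 : IsPullback (pullback.fst j₁ g ≫ h₁) (pullback.snd j₁ g) j (g ≫ h) := h2.paste_horiz H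
  rw [eo_iff_of_isPullback h3]
  constructor
  · rintro ⟨Y, ⟨e⟩⟩
    exact ⟨Y, ⟨e ≪≫ (restrictComp (pullback.fst j₁ g) h₁).symm.app Z⟩⟩
  · rintro ⟨Y, ⟨e⟩⟩
    exact ⟨Y, ⟨e ≪≫ (restrictComp (pullback.fst j₁ g) h₁).app Z⟩⟩

end basic

section glue

variable {U X : Scheme.{u}} {j : U ⟶ X} {Z : FEt.Cat U}

/-- The open cover of `X` by the nonempty opens satisfying a property. -/
@[simps I₀ X f]
noncomputable def cov (X : Scheme.{u}) (Q : X.Opens → Prop) (hQ : ∀ x : X, ∃ W : X.Opens, x ∈ W ∧ Q W) : X.OpenCover where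
  I₀ := {W : X.Opens // (W : Set X).Nonempty ∧ Q W}
  X W := W.1
  f W := W.1.ι
  mem₀ := by
    rw [Scheme.presieve₀_mem_precoverage_iff]
    refine ⟨fun x => ?_, inferInstance⟩
    obtain ⟨W, hx, hW⟩ := hQ x
    exact ⟨⟨W, ⟨x, hx⟩, hW⟩, by simpa using hx⟩

instance (X : Scheme.{u}) (Q : X.Opens → Prop) (hQ : ∀ x : X, ∃ W : X.Opens, x ∈ W ∧ Q W) :
    Preorder (cov X Q hQ).I₀ :=
  inferInstanceAs <| Preorder {W : X.Opens // (W : Set X).Nonempty ∧ Q W}

/-- Gluing extensions over an open cover, when restriction is fully faithful for all nonempty opens. -/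
theorem eo_glue
    (hFF : ∀ W : X.Opens, (W : Set X).Nonempty → (FEt.restrict (pullback.snd j W.ι)).Full ∧
      (FEt.restrict (pullback.snd j W.ι)).Faithful)
    (h : ∀ x : X, ∃ W : X.Opens, x ∈ W ∧ EO j Z W.ι) : EO j Z (𝟙 X) := by
  rw [eo_id_iff]
  have hbas : Opens.IsBasis (Set.range fun i => ((cov X (fun W => EO j Z W.ι) h).f i).opensRange) := by
    rw [Opens.isBasis_iff_nbhd]
    intro V x hx
    obtain ⟨W, hxW, hW⟩ := h x
    exact ⟨V ⊓ W, ⟨⟨V ⊓ W, ⟨x, hx, hxW⟩, hW.mono inf_le_right⟩, by simp⟩, ⟨hx, hxW⟩, inf_le_left⟩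
  have hr : ∀ a : (cov X (fun W => EO j Z W.ι) h).I₀,
      ((cov X (fun W => EO j Z W.ι) h).f a).opensRange = a.1 := fun a => Scheme.Opens.opensRange_ι a.1
  let _ : (cov X (fun W => EO j Z W.ι) h).LocallyDirected :=
    Scheme.Cover.LocallyDirected.ofIsBasisOpensRange (by
      intro a b
      rw [hr a, hr b]
      exact Iff.rfl) hbas
  have hFull : ∀ i : (cov X (fun W => EO j Z W.ι) h).I₀,
    (FEt.restrict (pullback.snd j ((cov X (fun W => EO j Z W.ι) h).f i))).Full := fun i => (hFF i.1 i.2.1).1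
  have hFaithful : ∀ i : (cov X (fun W => EO j Z W.ι) h).I₀,
    (FEt.restrict (pullback.snd j ((cov X (fun W => EO j Z W.ι) h).f i))).Faithful := fun i => (hFF i.1 i.2.1).2
  have hsmall : Small.{u} (cov X (fun W => EO j Z W.ι) h).I₀ :=
    inferInstanceAs (Small.{u} {W : X.Opens // (W : Set X).Nonempty ∧ EO j Z W.ι})
  have key : ∀ i : (cov X (fun W => EO j Z W.ι) h).I₀,
    ∃ Y : FEt.Cat ((cov X (fun W => EO j Z W.ι) h).X i),
      Nonempty ((FEt.restrict (pullback.snd j ((cov X (fun W => EO j Z W.ι) h).f i))).obj Y ≅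
      (FEt.restrict (pullback.fst j ((cov X (fun W => EO j Z W.ι) h).f i))).obj Z) := fun i => i.2.2
  choose W hW using key
  exact ⟨_, restrict_glued j (cov X (fun W => EO j Z W.ι) h) Z W (fun i => (hW i).some)⟩

end glue

section ff

/-- Restriction of finite étale covers of a normal integral scheme along the base change of a preimmersion containing
the image of the generic point. -/
theorem restrict_fullyFaithful {S X U T₀ : Scheme.{u}} [IsIntegral X] (hX : Pi1.IsNormalScheme X)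
    {f : X ⟶ S} {g₀ : T₀ ⟶ S} [IsPreimmersion g₀] (hf : f (genericPoint X) ∈ Set.range g₀) {j : U ⟶ X}
    {v : U ⟶ T₀} (h : IsPullback j v f g₀) :
    (FEt.restrict j).Full ∧ (FEt.restrict j).Faithful := by
  have hpre : IsPreimmersion j :=
    MorphismProperty.of_isPullback (P := @IsPreimmersion) h.flip (inferInstance : IsPreimmersion g₀)
  have hgen : genericPoint X ∈ Set.range j := by
    obtain ⟨t₀, ht₀⟩ := hf
    obtain ⟨z, hz1, -⟩ := Scheme.exists_preimage_of_isPullback h (genericPoint X) t₀ ht₀.symm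
    exact ⟨z, hz1⟩
  refine Groth.Agent.Pi1A.NormalFF.fullyFaithful_of_normal hX j ?_ hgen ?_
  · intro T
    have : IsPreimmersion (pullback.fst T.hom j) :=
      MorphismProperty.of_isPullback (P := @IsPreimmersion) (IsPullback.of_hasPullback T.hom j).flip hpre
    exact (pullback.fst T.hom j).isEmbedding.injective
  · intro T W hW hne
    have hE : Etale T.hom := T.prop.2
    have hopen : IsOpen ((pullback.snd T.hom j) '' W) := (pullback.snd T.hom j).isOpenMap _ hW
    obtain ⟨O, hO, hO2⟩ := j.isEmbedding.isInducing.isOpen_iff.1 hopen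
    have hOne : O.Nonempty := by
      obtain ⟨w, hw⟩ := hne
      have : pullback.snd T.hom j w ∈ j ⁻¹' O := by
        rw [hO2]
        exact ⟨w, hw, rfl⟩
      exact ⟨_, this⟩
    have hgO : genericPoint X ∈ O :=
      ((genericPoint_spec X).mem_open_set_iff hO).mpr (by simpa using hOne)
    obtain ⟨p, hp⟩ := hgen
    have h2 : p ∈ (pullback.snd T.hom j) '' W := by
      rw [← hO2, Set.mem_preimage, hp]
      exact hgO
    obtain ⟨w, hw, hwp⟩ := h2
    refine ⟨w, hw, ?_⟩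
    rw [← Scheme.Hom.comp_apply, pullback.condition, Scheme.Hom.comp_apply, hwp]
    exact hp

/-- The full faithfulness needed for gluing. -/
theorem ff_opens {S X U T₀ : Scheme.{u}} [IsIntegral X] (hX : Pi1.IsNormalScheme X)
    {f : X ⟶ S} {g₀ : T₀ ⟶ S} [IsPreimmersion g₀] (hf : f (genericPoint X) ∈ Set.range g₀) {j : U ⟶ X}
    {v : U ⟶ T₀} (h : IsPullback j v f g₀)
    {T : Scheme.{u}} (g : T ⟶ X) [IsOpenImmersion g] [Nonempty T] :
    (FEt.restrict (pullback.snd j g)).Full ∧ (FEt.restrict (pullback.snd j g)).Faithful := by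
  have hint : IsIntegral T := isIntegral_of_isOpenImmersion g
  have hN : Pi1.IsNormalScheme T := Groth.Agent.Pi1A.NormalEtale.isDomain_stalk_and_isIntegrallyClosed_stalk hX g
  have hgen : g (genericPoint T) = genericPoint X := genericPoint_eq_of_isOpenImmersion g
  refine restrict_fullyFaithful hN (f := g ≫ f) (g₀ := g₀) (v := pullback.fst j g ≫ v) ?_ ?_
  · rw [Scheme.Hom.comp_apply, hgen]
    exact hf
  · exact ((IsPullback.of_hasPullback j g).flip.paste_vert h)

/-- Gluing extensions over an open. -/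
theorem eo_of_local {S X U T₀ : Scheme.{u}} [IsIntegral X] (hX : Pi1.IsNormalScheme X)
    {f : X ⟶ S} {g₀ : T₀ ⟶ S} [IsPreimmersion g₀] (hf : f (genericPoint X) ∈ Set.range g₀) {j : U ⟶ X}
    {v : U ⟶ T₀} (h : IsPullback j v f g₀) (Z : FEt.Cat U) (V : X.Opens) (hVne : (V : Set X).Nonempty)
    (hV : ∀ x ∈ V, ∃ W : X.Opens, x ∈ W ∧ EO j Z W.ι) : EO j Z V.ι := by
  have hne : Nonempty (V : Scheme.{u}) := by
    obtain ⟨x, hx⟩ := hVne
    exact ⟨⟨x, hx⟩⟩
  have hint : IsIntegral (V : Scheme.{u}) := isIntegral_of_isOpenImmersion V.ι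
  have hN : Pi1.IsNormalScheme (V : Scheme.{u}) :=
    Groth.Agent.Pi1A.NormalEtale.isDomain_stalk_and_isIntegrallyClosed_stalk hX V.ι
  have hgen : V.ι (genericPoint (V : Scheme.{u})) = genericPoint X := genericPoint_eq_of_isOpenImmersion V.ι
  have H : IsPullback (pullback.fst j V.ι) (pullback.snd j V.ι) j V.ι := IsPullback.of_hasPullback _ _
  have H2 : IsPullback (pullback.snd j V.ι) (pullback.fst j V.ι ≫ v) (V.ι ≫ f) g₀ := H.flip.paste_vert h
  have hf2 : (V.ι ≫ f) (genericPoint (V : Scheme.{u})) ∈ Set.range g₀ := by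
    rw [Scheme.Hom.comp_apply, hgen]
    exact hf
  have key : EO (pullback.snd j V.ι) ((FEt.restrict (pullback.fst j V.ι)).obj Z) (𝟙 (V : Scheme.{u})) := by
    refine eo_glue (fun W hW => ?_) (fun x => ?_)
    · have hW' : Nonempty (W : Scheme.{u}) := by
        obtain ⟨x, hx⟩ := hW
        exact ⟨⟨x, hx⟩⟩
      exact ff_opens hN hf2 H2 W.ι
    · obtain ⟨W, hxW, hW⟩ := hV (V.ι x) x.2
      refine ⟨V.ι ⁻¹ᵁ W, hxW, ?_⟩
      rw [eo_restrict_iff H]
      exact eo_of_open hW _ (fun t => t.2)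
  have := (eo_restrict_iff H).1 key
  exact this.of_eq_comp (𝟙 _) (by rw [Category.id_comp, Category.id_comp])

end ff

end K150.Ext
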