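import Groth.Agent.Pi1.K150.Approx
import Groth.Agent.Pi1.H538.PresGal

/-!
# Extension of principal covers of the generic fibre over an integral normal scheme (helper150)
-/

set_option autoImplicit false
set_option backward.isDefEq.respectTransparency false
set_option backward.isDefEq.respectTransparency.types false
set_option linter.unusedSectionVars false

open CategoryTheory CategoryTheory.Limits AlgebraicGeometry TopologicalSpace
open Groth.Agent.Pi1A.FEtAffine K150.Ext
open Groth.Agent.Pi1.H383.PrincBC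

namespace K150.Final

universe u v

theorem hfib_bc {S X S' X' : Scheme.{u}} {f : X ⟶ S}
    (hfib : ∀ (K : Type u) [Field K] [IsAlgClosed K] (t : Spec (CommRingCat.of K) ⟶ S),
      ConnectedSpace ↥(pullback f t))
    {i : X' ⟶ X} {f' : X' ⟶ S'} {i₀ : S' ⟶ S} (h : IsPullback i f' f i₀)
    (K : Type u) [Field K] [IsAlgClosed K] (t : Spec (CommRingCat.of K) ⟶ S') :
    ConnectedSpace ↥(pullback f' t) := by
  have h1 : IsPullback (pullback.fst f' t ≫ i) (pullback.snd f' t) f (t ≫ i₀) :=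
    ((IsPullback.of_hasPullback f' t).flip.paste_vert h.flip).flip
  have h2 := hfib K (t ≫ i₀)
  exact (Scheme.homeoOfIso h1.isoPullback).symm.surjective.connectedSpace
    (Scheme.homeoOfIso h1.isoPullback).symm.continuous

/-- Extension over the preimage of an affine open of the base. -/
theorem eo_chart {S X U : Scheme.{u}} {A K : Type u} [CommRing A] [IsDomain A] [IsIntegrallyClosed A] [Field K]
    [Algebra A K] [IsFractionRing A K]
    (i₀ : Spec (CommRingCat.of A) ⟶ S) [IsOpenImmersion i₀] (g₀ : Spec (CommRingCat.of K) ⟶ S)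
    (hg₀ : Spec.map (CommRingCat.ofHom (algebraMap A K)) ≫ i₀ = g₀)
    (f : X ⟶ S) [Smooth f] [QuasiCompact f] [QuasiSeparated f]
    (hfib : ∀ (K : Type u) [Field K] [IsAlgClosed K] (t : Spec (CommRingCat.of K) ⟶ S),
      ConnectedSpace ↥(pullback f t))
    (σ : S ⟶ X) (hσ : σ ≫ f = 𝟙 S)
    {j : U ⟶ X} {v : U ⟶ Spec (CommRingCat.of K)} (h : IsPullback j v f g₀)
    (Z : FEt.Cat U) (G : Type v) [Group G] [Finite G]
    (ρ : G →* Aut Z) (hρ : SGA1t.IsPrincipal G Z ρ)
    (z : Spec (CommRingCat.of K) ⟶ Z.left)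
    (hz1 : z ≫ Z.hom ≫ j = g₀ ≫ σ) (hz2 : z ≫ Z.hom ≫ v = 𝟙 _)
    (hcard : IsUnit ((Nat.card G : ℕ) : A))
    {X' : Scheme.{u}} {i : X' ⟶ X} {f' : X' ⟶ Spec (CommRingCat.of A)} (hX' : IsPullback i f' f i₀) :
    EO j Z i := by
  have hsm : Smooth f' := MorphismProperty.of_isPullback (P := @Smooth) hX' inferInstance
  have hqc : QuasiCompact f' := MorphismProperty.of_isPullback (P := @QuasiCompact) hX' inferInstance
  have hqs : QuasiSeparated f' := MorphismProperty.of_isPullback (P := @QuasiSeparated) hX' inferInstance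
  have hio : IsOpenImmersion i := MorphismProperty.of_isPullback (P := @IsOpenImmersion) hX'.flip inferInstance
  obtain ⟨s, hs1, hs2⟩ : ∃ s : Spec (CommRingCat.of A) ⟶ X', s ≫ i = i₀ ≫ σ ∧ s ≫ f' = 𝟙 _ :=
    ⟨hX'.lift (i₀ ≫ σ) (𝟙 _) (by rw [Category.assoc, hσ, Category.comp_id, Category.id_comp]),
      hX'.lift_fst _ _ _, hX'.lift_snd _ _ _⟩
  obtain ⟨j', hj1, hj2⟩ : ∃ j' : U ⟶ X', j' ≫ i = j ∧
      j' ≫ f' = v ≫ Spec.map (CommRingCat.ofHom (algebraMap A K)) :=
    ⟨hX'.lift j (v ≫ Spec.map (CommRingCat.ofHom (algebraMap A K))) (by rw [Category.assoc, hg₀, h.w]),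
      hX'.lift_fst _ _ _, hX'.lift_snd _ _ _⟩
  have hj' : IsPullback j' v f' (Spec.map (CommRingCat.ofHom (algebraMap A K))) := by
    refine IsPullback.of_right (h₁₂ := i) (h₂₂ := i₀) (v₁₃ := f) ?_ hj2 hX'
    rw [hj1, hg₀]
    exact h
  obtain ⟨Y, ⟨e⟩⟩ := Approx.main f' (fun k _ _ t => hfib_bc hfib hX' k t) s hs2 hj' Z G ρ hρ z (by
    apply hX'.hom_ext
    · rw [Category.assoc, Category.assoc, hj1, hz1, Category.assoc, hs1, ← Category.assoc, hg₀]
    · rw [Category.assoc, Category.assoc, hj2, Category.assoc, hs2, Category.comp_id, ← Category.assoc,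
        ← Category.assoc, Category.assoc z, hz2, Category.id_comp]) hz2 hcard
  have hsq : IsPullback (𝟙 U) j' j i := by
    refine ⟨⟨by rw [Category.id_comp, hj1]⟩, ⟨PullbackCone.IsLimit.mk _ (fun s => s.fst)
      (fun s => Category.comp_id _) (fun s => ?_) ?_⟩⟩
    · rw [← cancel_mono i, Category.assoc, hj1]
      exact s.condition
    · intro s m h1 h2
      rw [← h1, Category.comp_id]
  rw [eo_iff_of_isPullback hsq]
  exact ⟨Y, ⟨e ≪≫ ((Groth.Agent.Pi1A.FEtGlue.restrictId _).app Z).symm⟩⟩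

/-- Extension for a quasi-compact and quasi-separated smooth morphism. -/
theorem main1 {S X U : Scheme.{u}} [IsIntegral S] (hS : Pi1.IsNormalScheme S)
    (f : X ⟶ S) [Smooth f] [QuasiCompact f] [QuasiSeparated f]
    (hfib : ∀ (K : Type u) [Field K] [IsAlgClosed K] (t : Spec (CommRingCat.of K) ⟶ S),
      ConnectedSpace ↥(pullback f t))
    (σ : S ⟶ X) (hσ : σ ≫ f = 𝟙 S)
    {j : U ⟶ X} {v : U ⟶ Spec (S.presheaf.stalk (genericPoint S))}
    (h : IsPullback j v f (S.fromSpecStalk (genericPoint S)))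
    (Z : FEt.Cat U) (G : Type v) [Group G] [Finite G]
    (ρ : G →* Aut Z) (hρ : SGA1t.IsPrincipal G Z ρ)
    (z : Spec (S.presheaf.stalk (genericPoint S)) ⟶ Z.left)
    (hz1 : z ≫ Z.hom ≫ j = S.fromSpecStalk (genericPoint S) ≫ σ) (hz2 : z ≫ Z.hom ≫ v = 𝟙 _)
    (hcard : IsUnit ((Nat.card G : ℕ) : Γ(S, ⊤))) :
    ∃ Y : FEt.Cat X, Nonempty ((FEt.restrict j).obj Y ≅ Z) := by
  have hX : IsIntegral X := Irr.isIntegral f hfib hS
  have hNX : Pi1.IsNormalScheme X := Irr.isNormalScheme f hS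
  have hgenX : f (genericPoint X) ∈ Set.range (S.fromSpecStalk (genericPoint S)) := by
    rw [Irr.apply_genericPoint f hfib]
    exact ⟨IsLocalRing.closedPoint _, Scheme.fromSpecStalk_closedPoint⟩
  have key : ∀ x : X, ∃ W : X.Opens, x ∈ W ∧ EO j Z W.ι := by
    intro x
    obtain ⟨W, hW, hxW, -⟩ := exists_isAffineOpen_mem_and_subset (show f x ∈ (⊤ : S.Opens) from trivial)
    have hWne : Nonempty W := ⟨⟨f x, hxW⟩⟩
    have hgW : genericPoint S ∈ W :=
      ((genericPoint_spec S).mem_open_set_iff W.isOpen).mpr ⟨f x, trivial, hxW⟩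
    let _ : Field (S.presheaf.stalk (genericPoint S)) := inferInstanceAs (Field S.functionField)
    let _ : Algebra Γ(S, W) (S.presheaf.stalk (genericPoint S)) :=
      (S.presheaf.germ W (genericPoint S) hgW).hom.toAlgebra
    have hfr : IsFractionRing Γ(S, W) (S.presheaf.stalk (genericPoint S)) :=
      functionField_isFractionRing_of_isAffineOpen S W hW
    have hdom : IsDomain Γ(S, W) := inferInstance
    have hIC : IsIntegrallyClosed Γ(S, W) :=
      Groth.Agent.Pi1A.NormalEtale.isIntegrallyClosed_of_isAffineOpen hS hW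
    have hg₀ : Spec.map (CommRingCat.ofHom (algebraMap Γ(S, W) (S.presheaf.stalk (genericPoint S)))) ≫ hW.fromSpec =
        S.fromSpecStalk (genericPoint S) := hW.fromSpecStalk_eq_fromSpecStalk hgW
    have hcard' : IsUnit ((Nat.card G : ℕ) : Γ(S, W)) := by
      have := hcard.map (S.presheaf.map (homOfLE le_top : W ⟶ ⊤).op).hom
      rwa [map_natCast] at this
    have hE : EO j Z (pullback.fst f hW.fromSpec) :=
      eo_chart (A := Γ(S, W)) (K := S.presheaf.stalk (genericPoint S)) hW.fromSpec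
        (S.fromSpecStalk (genericPoint S)) hg₀ f hfib σ hσ h Z G ρ hρ z hz1 hz2 hcard'
        (IsPullback.of_hasPullback f hW.fromSpec)
    have hxr : x ∈ Set.range (pullback.fst f hW.fromSpec) := by
      rw [Scheme.Pullback.range_fst, Set.mem_preimage, hW.range_fromSpec]
      exact hxW
    have hr : Set.range (pullback.fst f hW.fromSpec).opensRange.ι ⊆ Set.range (pullback.fst f hW.fromSpec) := by
      rw [Scheme.Opens.range_ι]
      exact subset_rfl
    exact ⟨(pullback.fst f hW.fromSpec).opensRange, hxr,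
      hE.of_eq_comp (IsOpenImmersion.lift (pullback.fst f hW.fromSpec) _ hr) (IsOpenImmersion.lift_fac _ _ _)⟩
  have hpre : IsPreimmersion (S.fromSpecStalk (genericPoint S)) := inferInstance
  have hne : ((⊤ : X.Opens) : Set X).Nonempty := ⟨genericPoint X, trivial⟩
  have h1 : EO j Z (⊤ : X.Opens).ι := eo_of_local hNX hgenX h Z ⊤ hne (fun x _ => key x)
  have h2 : EO j Z (𝟙 X) := eo_of_open h1 (𝟙 X) (fun _ => trivial)
  exact eo_id_iff.1 h2

/-- Extension for a smooth morphism over a Noetherian scheme. -/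
theorem main2 {S X U : Scheme.{u}} [IsIntegral S] [IsNoetherian S] (hS : Pi1.IsNormalScheme S)
    (f : X ⟶ S) [Smooth f]
    (hfib : ∀ (K : Type u) [Field K] [IsAlgClosed K] (t : Spec (CommRingCat.of K) ⟶ S),
      ConnectedSpace ↥(pullback f t))
    (σ : S ⟶ X) (hσ : σ ≫ f = 𝟙 S)
    {j : U ⟶ X} {v : U ⟶ Spec (S.presheaf.stalk (genericPoint S))}
    (h : IsPullback j v f (S.fromSpecStalk (genericPoint S)))
    (Z : FEt.Cat U) (G : Type v) [Group G] [Finite G]
    (ρ : G →* Aut Z) (hρ : SGA1t.IsPrincipal G Z ρ)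
    (z : Spec (S.presheaf.stalk (genericPoint S)) ⟶ Z.left)
    (hz1 : z ≫ Z.hom ≫ j = S.fromSpecStalk (genericPoint S) ≫ σ) (hz2 : z ≫ Z.hom ≫ v = 𝟙 _)
    (hcard : IsUnit ((Nat.card G : ℕ) : Γ(S, ⊤))) :
    ∃ Y : FEt.Cat X, Nonempty ((FEt.restrict j).obj Y ≅ Z) := by
  have hX : IsIntegral X := Irr.isIntegral f hfib hS
  have hNX : Pi1.IsNormalScheme X := Irr.isNormalScheme f hS
  have hXn : IsLocallyNoetherian X := LocallyOfFiniteType.isLocallyNoetherian f
  have hgenX : f (genericPoint X) ∈ Set.range (S.fromSpecStalk (genericPoint S)) := by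
    rw [Irr.apply_genericPoint f hfib]
    exact ⟨IsLocalRing.closedPoint _, Scheme.fromSpecStalk_closedPoint⟩
  have key : ∀ x : X, ∃ W : X.Opens, x ∈ W ∧ EO j Z W.ι := by
    intro x
    -- a quasi-compact open containing the section and the point
    obtain ⟨W, hW, hWc⟩ : ∃ W : X.Opens, (Set.range σ ∪ {x} ⊆ (W : Set X)) ∧ IsCompact (W : Set X) := by
      have hc : IsCompact (Set.range σ ∪ {x}) := (isCompact_range σ.continuous).union isCompact_singleton
      obtain ⟨W, h1, h2, h3, -⟩ := PrespectralSpace.exists_isCompact_and_isOpen_between hc isOpen_univ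
        (Set.subset_univ _)
      exact ⟨⟨W, h2⟩, h3, h1⟩
    have hxW : x ∈ W := hW (Or.inr rfl)
    have hσW : ∀ y, σ y ∈ W := fun y => hW (Or.inl ⟨y, rfl⟩)
    have hWcs : CompactSpace (W : Scheme.{u}) := isCompact_iff_compactSpace.mp hWc
    have hsmW : Smooth (W.ι ≫ f) := inferInstance
    have hqcW : QuasiCompact (W.ι ≫ f) := inferInstance
    have hqsW : QuasiSeparated (W.ι ≫ f) := by
      have : QuasiSeparatedSpace (W : Scheme.{u}) := inferInstance
      exact QuasiSeparated.of_comp (W.ι ≫ f) (terminal.from _)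
    have hσr : Set.range σ ⊆ Set.range W.ι := by
      rw [Scheme.Opens.range_ι]
      rintro _ ⟨y, rfl⟩
      exact hσW y
    obtain ⟨τ, hτ⟩ : ∃ τ : S ⟶ W, τ ≫ W.ι = σ := ⟨IsOpenImmersion.lift W.ι σ hσr, IsOpenImmersion.lift_fac _ _ _⟩
    have hτf : τ ≫ W.ι ≫ f = 𝟙 S := by rw [← Category.assoc, hτ, hσ]
    have hfibW : ∀ (K : Type u) [Field K] [IsAlgClosed K] (t : Spec (CommRingCat.of K) ⟶ S),
        ConnectedSpace ↥(pullback (W.ι ≫ f) t) := fun k _ _ t =>
      Fib.connectedSpace_pullback f hfib W.ι (W.ι ≫ f) (𝟙 S) (by rw [Category.comp_id]) τ hτf k t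
    have hsq : IsPullback (pullback.fst j W.ι) (pullback.snd j W.ι) j W.ι := IsPullback.of_hasPullback _ _
    have hjW : IsPullback (pullback.snd j W.ι) (pullback.fst j W.ι ≫ v) (W.ι ≫ f)
        (S.fromSpecStalk (genericPoint S)) := hsq.flip.paste_vert h
    -- the point
    obtain ⟨w, hw1, hw2⟩ : ∃ w : Spec (S.presheaf.stalk (genericPoint S)) ⟶ pullback j W.ι,
        w ≫ pullback.fst j W.ι = z ≫ Z.hom ∧ w ≫ pullback.snd j W.ι = S.fromSpecStalk (genericPoint S) ≫ τ :=
      ⟨hsq.lift (z ≫ Z.hom) (S.fromSpecStalk (genericPoint S) ≫ τ) (by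
        rw [Category.assoc, hz1, Category.assoc, hτ]), hsq.lift_fst _ _ _, hsq.lift_snd _ _ _⟩
    obtain ⟨z', hz'⟩ : ∃ z' : Spec (S.presheaf.stalk (genericPoint S)) ⟶ ((FEt.restrict (pullback.fst j W.ι)).obj Z).left,
        z' ≫ ((FEt.restrict (pullback.fst j W.ι)).obj Z).hom = w :=
      ⟨(isPullback (pullback.fst j W.ι) Z).lift z w hw1.symm, (isPullback (pullback.fst j W.ι) Z).lift_snd _ _ _⟩
    obtain ⟨Y, hY⟩ := main1 hS (W.ι ≫ f) hfibW τ hτf hjW ((FEt.restrict (pullback.fst j W.ι)).obj Z) G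
      (bcAction _ ρ) (isPrincipal_bc _ G Z ρ hρ) z' (by rw [← Category.assoc, hz', hw2]) (by
        rw [← Category.assoc, hz', ← Category.assoc, hw1, Category.assoc, hz2]) hcard
    exact ⟨W, hxW, Y, hY⟩
  have hne : ((⊤ : X.Opens) : Set X).Nonempty := ⟨genericPoint X, trivial⟩
  have h1 : EO j Z (⊤ : X.Opens).ι := eo_of_local hNX hgenX h Z ⊤ hne (fun x _ => key x)
  have h2 : EO j Z (𝟙 X) := eo_of_open h1 (𝟙 X) (fun _ => trivial)
  exact eo_id_iff.1 h2

/-- The conclusion, from the extension. -/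
theorem finish {S X : Scheme.{u}} [IsIntegral S] (hS : Pi1.IsNormalScheme S)
    (f : X ⟶ S) [Smooth f]
    (hfib : ∀ (K : Type u) [Field K] [IsAlgClosed K] (t : Spec (CommRingCat.of K) ⟶ S),
      ConnectedSpace ↥(pullback f t))
    (Z : FEt.Cat (pullback f (S.fromSpecStalk (genericPoint S)))) (hZ : PiSp.IsGaloisCover Z)
    (hG : IsUnit ((Nat.card (Aut Z) : ℕ) : ↑(S.presheaf.obj (Opposite.op ⊤))))
    (hmain : Finite (Aut Z) → SGA1t.IsPrincipal (Aut Z) Z (MonoidHom.id _) →
      ∃ Y : FEt.Cat X, Nonempty ((FEt.restrict (pullback.fst f (S.fromSpecStalk (genericPoint S)))).obj Y ≅ Z)) :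
    ∃ Y : FEt.Cat X, Nonempty ((FEt.restrict (pullback.fst f (S.fromSpecStalk (genericPoint S)))).obj Y ≅ Z) ∧
      PiSp.IsGaloisCover Y ∧ Nonempty (Aut Y ≃* Aut Z) := by
  have hX : IsIntegral X := Irr.isIntegral f hfib hS
  have hNX : Pi1.IsNormalScheme X := Irr.isNormalScheme f hS
  have hgenX : f (genericPoint X) ∈ Set.range (S.fromSpecStalk (genericPoint S)) := by
    rw [Irr.apply_genericPoint f hfib]
    exact ⟨IsLocalRing.closedPoint _, Scheme.fromSpecStalk_closedPoint⟩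
  have hfin : Finite (Aut Z) := by
    refine Nat.finite_of_card_ne_zero fun h0 => ?_
    rw [h0, Nat.cast_zero, isUnit_zero_iff] at hG
    exact zero_ne_one hG
  let _ : Field (S.presheaf.stalk (genericPoint S)) := inferInstanceAs (Field S.functionField)
  have hK : Pi1.IsNormalScheme (Spec (S.presheaf.stalk (genericPoint S))) :=
    Groth.Agent.Lefpen.H416.NormalBase.isNormalScheme_spec (S.presheaf.stalk (genericPoint S))
  have hU : IsIntegral (pullback f (S.fromSpecStalk (genericPoint S))) :=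
    Irr.isIntegral (pullback.snd f (S.fromSpecStalk (genericPoint S)))
      (fun k _ _ t => hfib_bc hfib (IsPullback.of_hasPullback f (S.fromSpecStalk (genericPoint S))) k t) hK
  have hUc : ConnectedSpace ↥(pullback f (S.fromSpecStalk (genericPoint S))) := inferInstance
  have hXc : ConnectedSpace ↥X := inferInstance
  obtain ⟨Y, ⟨e⟩⟩ := hmain hfin (Groth.Agent.Pi1.H383.GalPrinc.isPrincipal_of_isGaloisCover Z hZ)
  obtain ⟨h1, h2⟩ := restrict_fullyFaithful hNX hgenX
    (IsPullback.of_hasPullback f (S.fromSpecStalk (genericPoint S)))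
  refine ⟨Y, ⟨e⟩, (Groth.Agent.Pi1.H538.PresGal.isGalois_of_fullyFaithful _ h1 h2 Y Z e hZ).1,
    ⟨((Functor.FullyFaithful.ofFullyFaithful
      (FEt.restrict (pullback.fst f (S.fromSpecStalk (genericPoint S))))).autMulEquivOfFullyFaithful Y).trans
      e.conjAut⟩⟩

end K150.Final
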