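import Groth.Agent.Pi1.K150.QStep
import Groth.Agent.Pi1.K150.ArtStep
import Groth.Agent.EtpbcB.LocAcycD
import Mathlib.RingTheory.Etale.Descent

/-!
# Étale neighbourhoods with a section (helper150)
-/

set_option autoImplicit false
set_option backward.isDefEq.respectTransparency false
set_option backward.isDefEq.respectTransparency.types false
set_option linter.unusedSectionVars false

open MvPowerSeries TensorProduct

namespace K150.SecAlg

universe u

section series

variable {σ : Type u} [Finite σ] {B : Type u} [CommRing B] {C : Type u} [CommRing C] [Algebra B C]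
  [Algebra (MvPolynomial σ B) C] [IsScalarTower B (MvPolynomial σ B) C]
  [Algebra.Etale (MvPolynomial σ B) C]

/-- The expansion along a section. -/
theorem exists_theta (ε : C →+* B) (hε : ∀ b, ε (algebraMap B C b) = b)
    (hX : ∀ i : σ, ε (algebraMap (MvPolynomial σ B) C (MvPolynomial.X i)) = 0) :
    ∃ θ : C →ₐ[MvPolynomial σ B] MvPowerSeries σ B, (∀ c, constantCoeff (θ c) = ε c) ∧
      ∀ b, θ (algebraMap B C b) = MvPowerSeries.C b := by
  obtain ⟨θ, hθ⟩ := PSLift.exists_lift (σ := σ) (R := MvPolynomial σ B) ε (fun p => by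
    have h1 : ε.comp (algebraMap (MvPolynomial σ B) C) = MvPolynomial.constantCoeff := by
      apply MvPolynomial.ringHom_ext
      · intro b
        change ε (algebraMap (MvPolynomial σ B) C (algebraMap B (MvPolynomial σ B) b)) = _
        rw [← IsScalarTower.algebraMap_apply, hε, MvPolynomial.constantCoeff_C]
      · intro i
        change ε (algebraMap (MvPolynomial σ B) C (MvPolynomial.X i)) = _
        rw [hX, MvPolynomial.constantCoeff_X]
    have h2 : ε (algebraMap (MvPolynomial σ B) C p) = MvPolynomial.constantCoeff p := congr($h1 p)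
    rw [h2]
    rfl)
  refine ⟨θ, hθ, fun b => ?_⟩
  rw [IsScalarTower.algebraMap_apply B (MvPolynomial σ B) C, θ.commutes]
  change ((MvPolynomial.C b : MvPolynomial σ B) : MvPowerSeries σ B) = _
  rw [MvPolynomial.coe_C]

/-- The expansion of a finite étale algebra with a rational point over the section. -/
theorem exists_psi {K : Type u} [CommRing K] [Algebra B K] (ε : C →+* B) (θ : C →+* MvPowerSeries σ B)
    (hc : ∀ c, constantCoeff (θ c) = ε c) (hθ : ∀ b, θ (algebraMap B C b) = MvPowerSeries.C b)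
    {E : Type u} [CommRing E] [Algebra (K ⊗[B] C) E] [Algebra.FormallySmooth (K ⊗[B] C) E]
    (z : E →+* K) (hz : ∀ k c, z (algebraMap (K ⊗[B] C) E (k ⊗ₜ c)) = k * algebraMap B K (ε c)) :
    ∃ ψ : E →+* MvPowerSeries σ K, (∀ r : K ⊗[B] C, ψ (algebraMap _ E r) = QStep.bigθ K θ hθ r) ∧
      ∀ e, constantCoeff (ψ e) = z e := by
  let _ : Algebra (K ⊗[B] C) (MvPowerSeries σ K) := (QStep.bigθ K θ hθ).toAlgebra
  obtain ⟨ψ, hψ⟩ := PSLift.exists_lift (σ := σ) (R := K ⊗[B] C) z (fun r => by
    change z (algebraMap _ E r) = constantCoeff (QStep.bigθ K θ hθ r)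
    induction r with
    | zero => simp only [map_zero]
    | add a b ha hb => simp only [map_add, ha, hb]
    | tmul k c =>
      rw [hz, QStep.bigθ_tmul, map_mul, constantCoeff_C, constantCoeff_map, hc])
  exact ⟨ψ.toRingHom, fun r => ψ.commutes r, hψ⟩

end series

section model

variable {B : Type u} [CommRing B] [IsDomain B] {K : Type u} [Field K] [Algebra B K]
  [IsFractionRing B K] {C : Type u} [CommRing C] [Algebra B C]
  {E : Type u} [CommRing E] [Algebra (K ⊗[B] C) E] [Module.Finite (K ⊗[B] C) E]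
  [Algebra C E] (hCE : ∀ c : C, algebraMap C E c = algebraMap (K ⊗[B] C) E (1 ⊗ₜ c))

attribute [local instance] Algebra.TensorProduct.rightAlgebra in
theorem isLocalization_tensor (B K C : Type u) [CommRing B] [IsDomain B] [Field K] [Algebra B K]
    [IsFractionRing B K] [CommRing C] [Algebra B C] :
    IsLocalization (Algebra.algebraMapSubmonoid C (nonZeroDivisors B)) (K ⊗[B] C) :=
  (Algebra.isLocalization_iff_isPushout (nonZeroDivisors B) K).2 inferInstance

include hCE in
attribute [local instance] Algebra.TensorProduct.rightAlgebra in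
/-- An integral model of a finite algebra over the generic fibre. -/
theorem exists_model : ∃ S : Subalgebra C E, Module.Finite C S ∧
    ∀ e : E, ∃ b : B, b ≠ 0 ∧ algebraMap C E (algebraMap B C b) * e ∈ S := by
  have hloc := isLocalization_tensor B K C
  have htow : IsScalarTower C (K ⊗[B] C) E := IsScalarTower.of_algebraMap_eq hCE
  -- denominators
  have hden : ∀ e : E, ∃ b : B, b ≠ 0 ∧ IsIntegral C (algebraMap C E (algebraMap B C b) * e) := by
    intro e
    have hint : IsIntegral (K ⊗[B] C) e := Algebra.IsIntegral.isIntegral e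
    obtain ⟨⟨_, b, hb, rfl⟩, h⟩ :=
      hint.exists_multiple_integral_of_isLocalization
        (Algebra.algebraMapSubmonoid C (nonZeroDivisors B))
    refine ⟨b, nonZeroDivisors.ne_zero hb, ?_⟩
    rwa [Submonoid.smul_def, Algebra.smul_def] at h
  have hden2 : ∀ r : K ⊗[B] C, ∃ b : B, b ≠ 0 ∧ ∃ c : C,
      algebraMap C (K ⊗[B] C) (algebraMap B C b) * r = algebraMap C (K ⊗[B] C) c := by
    intro r
    obtain ⟨c, ⟨_, b, hb, rfl⟩, h⟩ := IsLocalization.exists_mk'_eq
      (Algebra.algebraMapSubmonoid C (nonZeroDivisors B)) r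
    refine ⟨b, nonZeroDivisors.ne_zero hb, c, ?_⟩
    rw [← h]
    exact IsLocalization.mk'_spec' (K ⊗[B] C) c
      (⟨_, b, hb, rfl⟩ : Algebra.algebraMapSubmonoid C (nonZeroDivisors B))
  obtain ⟨t, ht⟩ := (Module.Finite.fg_top : (⊤ : Submodule (K ⊗[B] C) E).FG)
  choose b hb hint using hden
  classical
  let T : Finset E := t.image (fun e => algebraMap C E (algebraMap B C (b e)) * e)
  refine ⟨Algebra.adjoin C (T : Set E), ?_, ?_⟩
  · have h1 : (Subalgebra.toSubmodule (Algebra.adjoin C (T : Set E))).FG :=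
      fg_adjoin_of_finite T.finite_toSet (by
        intro x hx
        obtain ⟨e, -, rfl⟩ := Finset.mem_image.1 (Finset.mem_coe.1 hx)
        exact hint e)
    exact Module.Finite.iff_fg.2 h1
  · intro e
    have he : e ∈ Submodule.span (K ⊗[B] C) (t : Set E) := by rw [ht]; exact Submodule.mem_top
    induction he using Submodule.span_induction with
    | mem x hx =>
      exact ⟨b x, hb x, Algebra.subset_adjoin (Finset.mem_coe.2 (Finset.mem_image.2 ⟨x, hx, rfl⟩))⟩
    | zero => exact ⟨1, one_ne_zero, by rw [mul_zero]; exact zero_mem _⟩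
    | add x y _ _ hx hy =>
      obtain ⟨b1, hb1, h1⟩ := hx
      obtain ⟨b2, hb2, h2⟩ := hy
      refine ⟨b1 * b2, mul_ne_zero hb1 hb2, ?_⟩
      have : algebraMap C E (algebraMap B C (b1 * b2)) * (x + y) =
          algebraMap C E (algebraMap B C b2) * (algebraMap C E (algebraMap B C b1) * x) +
          algebraMap C E (algebraMap B C b1) * (algebraMap C E (algebraMap B C b2) * y) := by
        simp only [map_mul]
        ring
      rw [this]
      exact add_mem (mul_mem (Subalgebra.algebraMap_mem _ _) h1)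
        (mul_mem (Subalgebra.algebraMap_mem _ _) h2)
    | smul r x _ hx =>
      obtain ⟨b1, hb1, h1⟩ := hx
      obtain ⟨b2, hb2, c, h2⟩ := hden2 r
      refine ⟨b1 * b2, mul_ne_zero hb1 hb2, ?_⟩
      have : algebraMap C E (algebraMap B C (b1 * b2)) * (r • x) =
          algebraMap C E c * (algebraMap C E (algebraMap B C b1) * x) := by
        have h3 : algebraMap C E (algebraMap B C b2) * algebraMap (K ⊗[B] C) E r = algebraMap C E c := by
          rw [IsScalarTower.algebraMap_apply C (K ⊗[B] C) E, ← map_mul, h2,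
            ← IsScalarTower.algebraMap_apply]
        rw [Algebra.smul_def, ← h3, map_mul, map_mul]
        ring
      rw [this]
      exact mul_mem (Subalgebra.algebraMap_mem _ _) h1

end model

section main

/-- Extension data at a height one prime: over a ring `V` integrally closed in a field `Ω`, dominating the
localization of `B` at `q`, the algebra `E` extends to an étale algebra. -/
def QData (B K C E : Type u) [CommRing B] [Field K] [Algebra B K] [CommRing C] [Algebra B C]
    [CommRing E] [Algebra (K ⊗[B] C) E] (z : E →+* K) (q : Ideal B) : Prop :=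
  ∃ (V Ω : Type u) (_ : CommRing V) (_ : CommRing Ω) (_ : Algebra B V) (_ : Algebra V Ω) (κ : K →+* Ω),
    Function.Injective (algebraMap V Ω) ∧
    (∀ x : Ω, IsIntegral V x → x ∈ (algebraMap V Ω).range) ∧
    (∀ b, κ (algebraMap B K b) = algebraMap V Ω (algebraMap B V b)) ∧
    (∀ y : K, κ y ∈ (algebraMap V Ω).range →
      ∃ a s : B, s ∉ q ∧ y * algebraMap B K s = algebraMap B K a) ∧
    ∃ (EV : Type u) (_ : CommRing EV) (_ : Algebra (V ⊗[B] C) EV) (_ : Algebra V EV)
      (_ : IsScalarTower V (V ⊗[B] C) EV) (_ : Algebra.Smooth V EV)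
      (_ : Algebra.FormallySmooth (V ⊗[B] C) EV) (_ : Algebra.IsIntegral (V ⊗[B] C) EV)
      (χ : E →+* EV ⊗[V] Ω) (z' : EV ⊗[V] Ω →+* Ω),
      (∀ c : C, χ (algebraMap (K ⊗[B] C) E (1 ⊗ₜ c)) = algebraMap (V ⊗[B] C) EV (1 ⊗ₜ c) ⊗ₜ 1) ∧
      (∀ k : K, χ (algebraMap (K ⊗[B] C) E (k ⊗ₜ 1)) = 1 ⊗ₜ κ k) ∧
      (∀ w : Ω, z' (1 ⊗ₜ w) = w) ∧ ∀ e, z' (χ e) = κ (z e)

variable {σ : Type u} [Finite σ] {B : Type u} [CommRing B] [IsDomain B] [IsNoetherianRing B]
  [IsIntegrallyClosed B] {K : Type u} [Field K] [Algebra B K]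
  [IsFractionRing B K] {C : Type u} [CommRing C] [Algebra B C]
  [Algebra (MvPolynomial σ B) C] [IsScalarTower B (MvPolynomial σ B) C]
  [Algebra.Etale (MvPolynomial σ B) C]
  {E : Type u} [CommRing E] [Algebra (K ⊗[B] C) E] [Module.Finite (K ⊗[B] C) E]
  [Algebra.Etale (K ⊗[B] C) E]

/-- Integral elements have integral expansions. -/
theorem exists_coeff (θ : C →+* MvPowerSeries σ B)
    (hθ : ∀ b, θ (algebraMap B C b) = MvPowerSeries.C b) (z : E →+* K)
    (hQ : ∀ q : Ideal B, q.IsPrime → q.height = 1 → QData B K C E z q)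
    (ψ : E →+* MvPowerSeries σ K) (hψ : ∀ r : K ⊗[B] C, ψ (algebraMap _ E r) = QStep.bigθ K θ hθ r)
    (hz : ∀ e, constantCoeff (ψ e) = z e)
    (e : E) (he : ((algebraMap (K ⊗[B] C) E).comp
      (Algebra.TensorProduct.includeRight : C →ₐ[B] K ⊗[B] C).toRingHom).IsIntegralElem e)
    (x : σ →₀ ℕ) : ∃ b : B, algebraMap B K b = coeff x (ψ e) := by
  refine Groth.Agent.EtpbcB.LocAcyc.exists_algebraMap_eq_of_height_one _ fun q hq hq1 => ?_
  obtain ⟨V, Ω, _, _, _, _, κ, hV, hVi, hκ, hVq, EV, _, _, _, _, _, _, _, χ, z', hχC, hχK, hz', hzχ⟩ :=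
    hQ q hq hq1
  obtain ⟨p, hp⟩ := QStep.exists_map_eq hV hVi θ hθ ψ hψ κ hκ χ hχC hχK z' hz'
    (fun e => by rw [hzχ, hz]) e he
  have h1 : κ (coeff x (ψ e)) = algebraMap V Ω (coeff x p) := by
    have := congrArg (coeff x) hp
    rwa [coeff_map, coeff_map] at this
  obtain ⟨a, s, hs, h2⟩ := hVq (coeff x (ψ e)) ⟨coeff x p, h1.symm⟩
  exact ⟨a, s, hs, h2⟩

/-- Factorization of a ring map through an injective one. -/
theorem exists_factor {S R R' : Type*} [CommRing S] [CommRing R] [CommRing R'] (f : S →+* R')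
    (j : R →+* R') (hj : Function.Injective j) (h : ∀ s, ∃ r, j r = f s) :
    ∃ φ : S →+* R, ∀ s, j (φ s) = f s := by
  choose g hg using h
  refine ⟨{ toFun := g, map_one' := ?_, map_mul' := ?_, map_zero' := ?_, map_add' := ?_ }, hg⟩
  · apply hj
    rw [hg, map_one, map_one]
  · intro a b
    apply hj
    rw [map_mul, hg, hg, hg, map_mul]
  · apply hj
    rw [hg, map_zero, map_zero]
  · intro a b
    apply hj
    rw [map_add, hg, hg, hg, map_add]

theorem one_tmul_algebraMap (B K C : Type*) [CommRing B] [CommRing K] [Algebra B K] [CommRing C]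
    [Algebra B C] (b : B) : (1 : K) ⊗ₜ[B] algebraMap B C b = algebraMap B K b ⊗ₜ[B] (1 : C) := by
  simp only [Algebra.algebraMap_eq_smul_one, TensorProduct.tmul_smul, TensorProduct.smul_tmul']

/-- The étale neighbourhood with a section. -/
theorem exists_etale_nbhd (hG : CAlg.IsGRing (MvPolynomial σ B)) (ε : C →+* B)
    (hε : ∀ b, ε (algebraMap B C b) = b)
    (hX : ∀ i : σ, ε (algebraMap (MvPolynomial σ B) C (MvPolynomial.X i)) = 0)
    (z : E →+* K) (hz : ∀ k c, z (algebraMap (K ⊗[B] C) E (k ⊗ₜ c)) = k * algebraMap B K (ε c))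
    (hQ : ∀ q : Ideal B, q.IsPrime → q.height = 1 → QData B K C E z q)
    (m : Ideal B) [m.IsMaximal] :
    ∃ (E' : Type u) (_ : CommRing E') (_ : Algebra C E') (_ : Algebra B E') (_ : IsScalarTower B C E')
      (_ : Algebra.Etale C E') (n : Ideal E') (_ : n.IsPrime) (β : E →+* K ⊗[B] E'),
      n.comap (algebraMap C E') = m.comap ε ∧
      ∀ k c, β (algebraMap (K ⊗[B] C) E (k ⊗ₜ c)) = k ⊗ₜ algebraMap C E' c := by
  obtain ⟨θ, hθc, hθ⟩ := exists_theta (σ := σ) ε hε hX
  obtain ⟨ψ, hψ, hψz⟩ := exists_psi (σ := σ) (K := K) ε θ.toRingHom hθc hθ z hz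
  have hCnoeth : IsNoetherianRing C := by
    have : Algebra.FiniteType (MvPolynomial σ B) C := inferInstance
    exact Algebra.FiniteType.isNoetherianRing (MvPolynomial σ B) C
  let _ : Algebra C E := ((algebraMap (K ⊗[B] C) E).comp
      (Algebra.TensorProduct.includeRight : C →ₐ[B] K ⊗[B] C).toRingHom).toAlgebra
  obtain ⟨S, hS, hSE⟩ := exists_model (B := B) (K := K) (C := C) (E := E) (fun c => rfl)
  have hBK : Function.Injective (algebraMap B K) := IsFractionRing.injective B K
  have hmap : Function.Injective (MvPowerSeries.map (σ := σ) (algebraMap B K)) := by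
    intro p q hpq
    ext x
    apply hBK
    have := congrArg (coeff x) hpq
    rwa [coeff_map, coeff_map] at this
  obtain ⟨φ, hφ⟩ := exists_factor (ψ.comp S.val.toRingHom) (MvPowerSeries.map (σ := σ) (algebraMap B K))
    hmap (fun s => by
      have hs : IsIntegral C (s : E) := (Algebra.IsIntegral.isIntegral (R := C) s).map S.val
      have h1 := fun x => exists_coeff θ.toRingHom hθ z hQ ψ hψ hψz (s : E) hs x
      choose b hb using h1
      refine ⟨fun x => b x, ?_⟩
      ext x
      rw [coeff_map]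
      exact hb x)
  have hφC : ∀ c : C, φ (algebraMap C S c) = θ c := by
    intro c
    apply hmap
    rw [hφ]
    change ψ (algebraMap (K ⊗[B] C) E (1 ⊗ₜ c)) = _
    rw [hψ, QStep.bigθ_tmul, map_one, one_mul]
    rfl
  let _ : Algebra (MvPolynomial σ B) E :=
    ((algebraMap C E).comp (algebraMap (MvPolynomial σ B) C)).toAlgebra
  have htow : IsScalarTower (MvPolynomial σ B) C E := IsScalarTower.of_algebraMap_eq fun _ => rfl
  have htowS : IsScalarTower (MvPolynomial σ B) C S := inferInstance
  have hfpS : Algebra.FinitePresentation (MvPolynomial σ B) S := by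
    have h1 : Algebra.FinitePresentation C S :=
      (Algebra.FinitePresentation.of_finiteType).1 inferInstance
    exact Algebra.FinitePresentation.trans (MvPolynomial σ B) C S
  let φP : S →ₐ[MvPolynomial σ B] MvPowerSeries σ B :=
    { toRingHom := φ
      commutes' := fun p => by
        change φ (algebraMap (MvPolynomial σ B) S p) = _
        rw [IsScalarTower.algebraMap_apply (MvPolynomial σ B) C S, hφC, θ.commutes] }
  obtain ⟨E', _, _, hE', α, n, hn, hnm⟩ := ArtStep.exists_etale hG m φP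
  let _ : Algebra C E' := (α.toRingHom.comp (algebraMap C S)).toAlgebra
  have hCE' : ∀ c, algebraMap C E' c = α (algebraMap C S c) := fun c => rfl
  have htow1 : IsScalarTower (MvPolynomial σ B) C E' := IsScalarTower.of_algebraMap_eq fun p => by
    rw [hCE', ← IsScalarTower.algebraMap_apply (MvPolynomial σ B) C S, α.commutes]
  let _ : Algebra B E' := ((algebraMap C E').comp (algebraMap B C)).toAlgebra
  have htow2 : IsScalarTower B C E' := IsScalarTower.of_algebraMap_eq fun _ => rfl
  have hfet : Algebra.FormallyEtale C E' :=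
    Algebra.FormallyEtale.of_restrictScalars (R := MvPolynomial σ B)
  have hfp : Algebra.FinitePresentation C E' :=
    Algebra.FinitePresentation.of_restrict_scalars_finitePresentation (MvPolynomial σ B) C E'
  have het : Algebra.Etale C E' := ⟨hfet, hfp⟩
  -- the localization
  have hBE : ∀ b : B, algebraMap C E (algebraMap B C b) = algebraMap (K ⊗[B] C) E (algebraMap B K b ⊗ₜ 1) := by
    intro b
    change algebraMap (K ⊗[B] C) E (1 ⊗ₜ algebraMap B C b) = _
    rw [one_tmul_algebraMap]
  have hunitE : ∀ b : B, b ≠ 0 → IsUnit (algebraMap C E (algebraMap B C b)) := by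
    intro b hb
    rw [hBE]
    have h1 : IsUnit (algebraMap B K b) := by
      rw [isUnit_iff_ne_zero]
      exact fun h => hb (hBK (by rw [h, map_zero]))
    exact (h1.map (Algebra.TensorProduct.includeLeft : K →ₐ[B] K ⊗[B] C)).map (algebraMap (K ⊗[B] C) E)
  let M : Submonoid S := Submonoid.map (algebraMap C S)
    (Submonoid.map (algebraMap B C) (nonZeroDivisors B))
  have hloc : IsLocalization M E := by
    refine ⟨⟨?_, ?_, ?_⟩⟩
    · rintro ⟨_, _, ⟨b, hb, rfl⟩, rfl⟩
      exact hunitE b (nonZeroDivisors.ne_zero hb)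
    · intro e
      obtain ⟨b, hb, h⟩ := hSE e
      refine ⟨⟨⟨_, h⟩, ⟨algebraMap C S (algebraMap B C b), _, ⟨b, mem_nonZeroDivisors_of_ne_zero hb, rfl⟩,
        rfl⟩⟩, ?_⟩
      rw [mul_comm]
      rfl
    · intro x y hxy
      exact ⟨1, by rw [Subtype.val_injective hxy]⟩
  have hunit' : ∀ y : M, IsUnit (((Algebra.TensorProduct.includeRight : E' →ₐ[B] K ⊗[B] E').toRingHom.comp
      α.toRingHom) y) := by
    rintro ⟨_, _, ⟨b, hb, rfl⟩, rfl⟩
    change IsUnit ((1 : K) ⊗ₜ[B] algebraMap C E' (algebraMap B C b))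
    have h1 : IsUnit (algebraMap B K b) := by
      rw [isUnit_iff_ne_zero]
      exact fun h => (nonZeroDivisors.ne_zero hb) (hBK (by rw [h, map_zero]))
    have h2 : (1 : K) ⊗ₜ[B] algebraMap C E' (algebraMap B C b) = algebraMap B K b ⊗ₜ[B] (1 : E') := by
      rw [← IsScalarTower.algebraMap_apply B C E', one_tmul_algebraMap]
    rw [h2]
    exact h1.map (Algebra.TensorProduct.includeLeft : K →ₐ[B] K ⊗[B] E')
  let β : E →+* K ⊗[B] E' := IsLocalization.lift (M := M) (S := E) hunit'
  have hβS : ∀ s : S, β (s : E) = 1 ⊗ₜ α s := fun s => IsLocalization.lift_eq (M := M) (S := E) hunit' s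
  have hβC : ∀ c : C, β (algebraMap (K ⊗[B] C) E (1 ⊗ₜ c)) = 1 ⊗ₜ algebraMap C E' c := fun c =>
    hβS (algebraMap C S c)
  have hβK : ∀ k : K, β (algebraMap (K ⊗[B] C) E (k ⊗ₜ 1)) = k ⊗ₜ 1 := by
    have h1 : (β.comp (algebraMap (K ⊗[B] C) E)).comp
        (Algebra.TensorProduct.includeLeft : K →ₐ[B] K ⊗[B] C).toRingHom =
        (Algebra.TensorProduct.includeLeft : K →ₐ[B] K ⊗[B] E').toRingHom := by
      apply IsLocalization.ringHom_ext (nonZeroDivisors B)
      ext b
      change β (algebraMap (K ⊗[B] C) E (algebraMap B K b ⊗ₜ 1)) = algebraMap B K b ⊗ₜ 1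
      rw [← hBE]
      change β (algebraMap (K ⊗[B] C) E (1 ⊗ₜ algebraMap B C b)) = _
      rw [hβC, ← IsScalarTower.algebraMap_apply B C E', one_tmul_algebraMap]
    intro k
    exact congr($h1 k)
  refine ⟨E', inferInstance, inferInstance, inferInstance, htow2, het, n, hn, β, ?_, ?_⟩
  · ext c
    rw [Ideal.mem_comap, Ideal.mem_comap, hCE', hnm]
    change constantCoeff (φ (algebraMap C S c)) ∈ m ↔ _
    rw [hφC, hθc]
  · intro k c
    have h1 : (k ⊗ₜ[B] c : K ⊗[B] C) = (k ⊗ₜ 1) * (1 ⊗ₜ c) := by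
      rw [Algebra.TensorProduct.tmul_mul_tmul, mul_one, one_mul]
    rw [h1, map_mul, map_mul, hβC, hβK, Algebra.TensorProduct.tmul_mul_tmul, mul_one, one_mul]

end main

end K150.SecAlg
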