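import Groth.Agent.Pi1.K150.EtDesc
import Groth.Agent.Pi1.K150.SecAlg

/-!
# Algebra for the extension near a section (helper150)
-/

set_option autoImplicit false
set_option backward.isDefEq.respectTransparency false
set_option backward.isDefEq.respectTransparency.types false
set_option linter.unusedSectionVars false

open TensorProduct

namespace K150.LocAlg

universe u

section phi

variable {B K C E Ck T E' F : Type u} [CommRing B] [CommRing K] [Algebra B K] [CommRing C]
  [CommRing E] [CommRing Ck] [CommRing T] [CommRing E'] [CommRing F]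
  [Algebra C Ck] [Algebra C E] [Algebra Ck E] [IsScalarTower C Ck E] [Algebra C E'] [Algebra E' T]
  [Algebra Ck T] [Algebra C T] [IsScalarTower C E' T] [IsScalarTower C Ck T]
  [Algebra B E'] [Algebra K T] [Algebra B T] [IsScalarTower B K T] [IsScalarTower B E' T]
  [Algebra E' F] [Algebra B F] [IsScalarTower B E' F]

/-- Comparison of tensor products. -/
theorem exists_Phi [Algebra.IsPushout C E' Ck T] [Algebra.IsPushout B K E' T]
    (Φ₀ : T ⊗[Ck] E ≃ₐ[T] T ⊗[E'] F) : Nonempty (E' ⊗[C] E ≃ₐ[E'] F ⊗[B] K) := by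
  let e1 : T ⊗[Ck] E ≃ₐ[E'] E' ⊗[C] E := Algebra.IsPushout.cancelBaseChangeAlg C E' Ck T E
  let e2 : T ⊗[E'] F ≃ₐ[K] K ⊗[B] F := Algebra.IsPushout.cancelBaseChangeAlg B K E' T F
  let e3 : K ⊗[B] F ≃ₐ[B] F ⊗[B] K := Algebra.TensorProduct.comm B K F
  let r : E' ⊗[C] E ≃+* F ⊗[B] K :=
    ((e1.symm.toRingEquiv.trans Φ₀.toRingEquiv).trans e2.toRingEquiv).trans e3.toRingEquiv
  have hr : ∀ x, r x = e3 (e2 (Φ₀ (e1.symm x))) := fun x => rfl
  refine ⟨AlgEquiv.ofRingEquiv (f := r) fun x => ?_⟩
  rw [hr, e1.symm.commutes]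
  have h1 : algebraMap E' (T ⊗[Ck] E) x = algebraMap T (T ⊗[Ck] E) (algebraMap E' T x) := rfl
  have h2 : algebraMap T (T ⊗[E'] F) (algebraMap E' T x) = 1 ⊗ₜ algebraMap E' F x := by
    rw [Algebra.TensorProduct.algebraMap_apply, Algebra.algebraMap_self_apply,
      Algebra.algebraMap_eq_smul_one, Algebra.algebraMap_eq_smul_one, TensorProduct.tmul_smul,
      TensorProduct.smul_tmul']
  have h3 : e2 (1 ⊗ₜ algebraMap E' F x) = 1 ⊗ₜ algebraMap E' F x :=
    Algebra.IsPushout.cancelBaseChangeAlg_tmul B K E' T F _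
  rw [h1, Φ₀.commutes, h2, h3]
  rfl

end phi

section closure

/-- `E` is the generic fibre of the integral closure of `C`. -/
theorem isPushout_closure (B C Ck E : Type u) [CommRing B] [IsDomain B] [CommRing C] [Algebra B C]
    [CommRing Ck] [Algebra C Ck] [IsLocalization (Algebra.algebraMapSubmonoid C (nonZeroDivisors B)) Ck]
    [CommRing E] [Algebra Ck E] [Algebra.IsIntegral Ck E] [Algebra C E] [IsScalarTower C Ck E] :
    Algebra.IsPushout C (integralClosure C E) Ck E := by
  have hden : ∀ e : E, ∃ b : B, b ≠ 0 ∧ IsIntegral C (algebraMap C E (algebraMap B C b) * e) := by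
    intro e
    have hint : IsIntegral Ck e := Algebra.IsIntegral.isIntegral e
    obtain ⟨⟨_, b, hb, rfl⟩, h⟩ :=
      hint.exists_multiple_integral_of_isLocalization
        (Algebra.algebraMapSubmonoid C (nonZeroDivisors B))
    refine ⟨b, nonZeroDivisors.ne_zero hb, ?_⟩
    rwa [Submonoid.smul_def, Algebra.smul_def] at h
  have hlocE : IsLocalization (Algebra.algebraMapSubmonoid (integralClosure C E)
      (Algebra.algebraMapSubmonoid C (nonZeroDivisors B))) E := by
    refine ⟨⟨?_, ?_, ?_⟩⟩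
    · rintro ⟨_, _, ⟨b, hb, rfl⟩, rfl⟩
      have h1 : IsUnit (algebraMap C Ck (algebraMap B C b)) :=
        IsLocalization.map_units Ck (⟨_, ⟨b, hb, rfl⟩⟩ : Algebra.algebraMapSubmonoid C (nonZeroDivisors B))
      have h2 := h1.map (algebraMap Ck E)
      rw [← IsScalarTower.algebraMap_apply C Ck E] at h2
      exact h2
    · intro e
      obtain ⟨b, hb, h⟩ := hden e
      refine ⟨⟨⟨_, h⟩, ⟨algebraMap C (integralClosure C E) (algebraMap B C b), _,
        ⟨b, mem_nonZeroDivisors_of_ne_zero hb, rfl⟩, rfl⟩⟩, ?_⟩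
      rw [mul_comm]
      rfl
    · intro x y hxy
      exact ⟨1, by rw [Subtype.val_injective hxy]⟩
  exact Algebra.isPushout_of_isLocalization (Algebra.algebraMapSubmonoid C (nonZeroDivisors B)) _ _ _

end closure

end K150.LocAlg
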