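import Groth.Agent.Pi1.K150.Ext
import Groth.Agent.Pi1A.FEtAffine
import Groth.Agent.S0084
import Mathlib.AlgebraicGeometry.Morphisms.LocalFlatDescent

/-!
# Descent of extensions along étale neighbourhoods (helper150)
-/

set_option autoImplicit false
set_option backward.isDefEq.respectTransparency false
set_option backward.isDefEq.respectTransparency.types false
set_option linter.unusedSectionVars false

open CategoryTheory CategoryTheory.Limits AlgebraicGeometry TensorProduct TopologicalSpace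
open Groth.Agent.Pi1A.FEtAffine K150.Ext

namespace K150.LocGeo

universe u

/-- The range of an étale morphism as an open. -/
def rg {X Y : Scheme.{u}} (g : X ⟶ Y) [Etale g] : Y.Opens := ⟨Set.range g, g.isOpenMap.isOpen_range⟩

/-- Finite étale morphisms descend along étale morphisms from affine schemes to their images. -/
theorem prop_restrict {X Y T P : Scheme.{u}} [IsAffine T] [IsAffine Y] (ν : X ⟶ Y) (g : T ⟶ Y) [Etale g]
    {a : P ⟶ X} {b : P ⟶ T} (h : IsPullback a b ν g) (hb : FEt.prop b) : FEt.prop (ν ∣_ (rg g)) := by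
  have hr : Set.range g ⊆ Set.range (rg g).ι := by
    rw [Scheme.Opens.range_ι]
    exact subset_rfl
  let p : T ⟶ (rg g : Scheme.{u}) := IsOpenImmersion.lift (rg g).ι g hr
  have hp : p ≫ (rg g).ι = g := IsOpenImmersion.lift_fac _ _ _
  have hE : Etale p := by
    have : Etale (p ≫ (rg g).ι) := by rw [hp]; infer_instance
    exact Etale.of_comp p (rg g).ι
  have hqc : QuasiCompact p := by
    have : QuasiCompact (p ≫ (rg g).ι) := by rw [hp]; infer_instance
    exact QuasiCompact.of_comp p (rg g).ι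
  have hs : Surjective p := by
    refine ⟨fun y => ?_⟩
    obtain ⟨t, ht⟩ : (rg g).ι y ∈ Set.range g := y.2
    refine ⟨t, (rg g).ι.isOpenEmbedding.injective ?_⟩
    rw [← Scheme.Hom.comp_apply, hp, ht]
  have h1 : IsPullback (ν ⁻¹ᵁ (rg g)).ι (ν ∣_ (rg g)) ν (rg g).ι := (isPullback_morphismRestrict ν (rg g)).flip
  let a' : P ⟶ (ν ⁻¹ᵁ (rg g) : Scheme.{u}) := h1.lift a (b ≫ p) (by rw [Category.assoc, hp, h.w])
  have ha' : a' ≫ (ν ⁻¹ᵁ (rg g)).ι = a := h1.lift_fst _ _ _
  have hb' : a' ≫ ν ∣_ (rg g) = b ≫ p := h1.lift_snd _ _ _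
  have h2 : IsPullback a' b (ν ∣_ (rg g)) p := by
    refine IsPullback.of_right (h₁₂ := (ν ⁻¹ᵁ (rg g)).ι) (h₂₂ := (rg g).ι) (v₁₃ := ν) ?_ hb' h1
    rw [ha', hp]
    exact h
  have hQ : (@Surjective ⊓ @Flat ⊓ @QuasiCompact : MorphismProperty Scheme.{u}) p := ⟨⟨hs, inferInstance⟩, hqc⟩
  have := Groth.Agent.S0084.result.{u}
  exact ⟨MorphismProperty.of_isPullback_of_descendsAlong h2.flip hQ hb.1,
    MorphismProperty.of_isPullback_of_descendsAlong h2.flip hQ hb.2⟩

/-- If `ν` is a finite étale cover over `V` and its base change along `j` is `Z`, then `Z` extends over `V`. -/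
theorem eo_of_prop {X X' U : Scheme.{u}} {ν : X' ⟶ X} {j : U ⟶ X} {Z : FEt.Cat U} {j' : Z.left ⟶ X'}
    (h : IsPullback j' Z.hom ν j) (V : X.Opens) (hV : FEt.prop (ν ∣_ V)) : EO j Z V.ι := by
  let Y : FEt.Cat (V : Scheme.{u}) := MorphismProperty.Over.mk ⊤ (ν ∣_ V) hV
  refine ⟨Y, ⟨?_⟩⟩
  have h1 : IsPullback (ν ⁻¹ᵁ V).ι (ν ∣_ V) ν V.ι := (isPullback_morphismRestrict ν V).flip
  have hL : IsPullback (pullback.fst (ν ∣_ V) (pullback.snd j V.ι) ≫ (ν ⁻¹ᵁ V).ι)
      (pullback.snd (ν ∣_ V) (pullback.snd j V.ι)) ν (pullback.snd j V.ι ≫ V.ι) :=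
    (IsPullback.of_hasPullback _ _).paste_horiz h1
  have hR : IsPullback (pullback.fst Z.hom (pullback.fst j V.ι) ≫ j')
      (pullback.snd Z.hom (pullback.fst j V.ι)) ν (pullback.fst j V.ι ≫ j) :=
    (IsPullback.of_hasPullback _ _).paste_horiz h
  have hL' : IsPullback (pullback.fst (ν ∣_ V) (pullback.snd j V.ι) ≫ (ν ⁻¹ᵁ V).ι)
      (pullback.snd (ν ∣_ V) (pullback.snd j V.ι)) ν (pullback.fst j V.ι ≫ j) := by
    rw [pullback.condition]
    exact hL
  exact isoMk (T := (FEt.restrict (pullback.snd j V.ι)).obj Y)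
    (T' := (FEt.restrict (pullback.fst j V.ι)).obj Z) (hL'.isoIsPullback _ _ hR)
    (IsPullback.isoIsPullback_hom_snd _ _ _ _)

end K150.LocGeo
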