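import Groth.Agent.Pi1.H384.SplitBasic
import Groth.Agent.Pi1.H383.PrincBC
import Groth.Agent.Desc.EtToDD

/-!
# Principal covers with a section are trivial (helper150)
-/

set_option autoImplicit false
set_option backward.isDefEq.respectTransparency false
set_option backward.isDefEq.respectTransparency.types false
set_option linter.unusedSectionVars false
universe u v

open CategoryTheory CategoryTheory.Limits AlgebraicGeometry TopologicalSpace
open Groth.Agent.Pi1A.FEtAffine Groth.Agent.Pi1.H384.SplitCover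

namespace K150.TrivSec

/-- A principal cover with a section is trivial. -/
theorem exists_iso_trivialObj {X : Scheme.{u}} (G : Type v) [Group G] [Finite G] (P : FEt.Cat X)
    (ρ : G →* Aut P) (hP : SGA1t.IsPrincipal G P ρ) (s : X ⟶ P.left) (hs : s ≫ P.hom = 𝟙 X) :
    ∃ (ι : Type u) (_ : Finite ι), Nonempty (trivialObj X ι ≅ P) := by
  let ι : Type u := ULift.{u} (Fin (Nat.card G))
  let e : ι ≃ G := Equiv.ulift.trans (Finite.equivFin G).symm
  have hρ : ∀ g : G, (ρ g).hom.left ≫ P.hom = P.hom := fun g => hom_w (ρ g).hom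
  let φ' : (∐ fun _ : ι => X) ⟶ P.left := Sigma.desc (fun i : ι => s ≫ (ρ (e i)).hom.left)
  have hφ : ∀ i, Sigma.ι (fun _ : ι => X) i ≫ φ' = s ≫ (ρ (e i)).hom.left := fun i => Sigma.ι_desc _ _
  have hw : φ' ≫ P.hom = Sigma.desc (fun _ : ι => 𝟙 X) := by
    apply Sigma.hom_ext
    intro i
    rw [← Category.assoc, hφ, Category.assoc, hρ, hs, Sigma.ι_desc]
  have hE1 : Etale P.hom := P.prop.2
  have hE2 : Etale (φ' ≫ P.hom) := by
    rw [hw]
    exact (trivialObj X ι).prop.2
  have hE : Etale φ' := Etale.of_comp φ' P.hom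
  have hinj : UniversallyInjective φ' := by
    apply ((tfae_universallyInjective φ').out 1 0).1
    intro K _ g₁ g₂ hg
    have hg' : g₁ ≫ φ' = g₂ ≫ φ' := hg
    have hξ : g₁ ≫ Sigma.desc (fun _ : ι => 𝟙 X) = g₂ ≫ Sigma.desc (fun _ : ι => 𝟙 X) := by
      rw [← hw, ← Category.assoc, hg', Category.assoc]
    obtain ⟨i, hi⟩ := exists_sheet (g₂ ≫ Sigma.desc (fun _ : ι => 𝟙 X)) g₁ hξ
    obtain ⟨i', hi'⟩ := exists_sheet (g₂ ≫ Sigma.desc (fun _ : ι => 𝟙 X)) g₂ rfl
    have hii : i = i' := by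
      apply e.injective
      let a : Spec (CommRingCat.of (AlgebraicClosure K)) ⟶ Spec (CommRingCat.of K) :=
        Spec.map (CommRingCat.ofHom (algebraMap K (AlgebraicClosure K)))
      let ξ : Spec (CommRingCat.of (AlgebraicClosure K)) ⟶ X := a ≫ g₂ ≫ Sigma.desc (fun _ : ι => 𝟙 X)
      have hξdef : ξ = a ≫ g₂ ≫ Sigma.desc (fun _ : ι => 𝟙 X) := rfl
      have h1 : ξ ≫ s ≫ (ρ (e i)).hom.left = ξ ≫ s ≫ (ρ (e i')).hom.left := by
        rw [← hφ, ← hφ, hξdef, Category.assoc a, Category.assoc a]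
        congr 1
        rw [← Category.assoc, ← Category.assoc (g₂ ≫ _), ← hi, ← hi', hg']
      let x : FEt.fiberObj ξ P := ⟨ξ ≫ s, by rw [Category.assoc, hs, Category.comp_id]⟩
      obtain ⟨g, -, hu⟩ := hP.2 (AlgebraicClosure K) ξ x ((FEt.fiber ξ).map (ρ (e i)).hom x)
      have h2 := hu (e i) rfl
      have h3 := hu (e i') (by
        apply Subtype.ext
        change (ξ ≫ s) ≫ (ρ (e i')).hom.left = (ξ ≫ s) ≫ (ρ (e i)).hom.left
        exact (Category.assoc _ _ _).trans (h1.symm.trans (Category.assoc _ _ _).symm))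
      rw [h2, h3]
    exact hi.trans (by rw [hii]; exact hi'.symm)
  have hsurj : Surjective φ' := by
    refine ⟨fun p => ?_⟩
    let k := P.left.residueField p
    let Ω := AlgebraicClosure k
    let t : Spec (CommRingCat.of Ω) ⟶ P.left :=
      Spec.map (CommRingCat.ofHom (algebraMap k Ω)) ≫ P.left.fromSpecResidueField p
    have ht : t (⊥ : PrimeSpectrum Ω) = p := by
      rw [Scheme.Hom.comp_apply]
      have h4 : ∀ q : Spec (CommRingCat.of k), P.left.fromSpecResidueField p q = p := by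
        intro q
        have : P.left.fromSpecResidueField p q ∈ Set.range (P.left.fromSpecResidueField p) := ⟨q, rfl⟩
        rw [Scheme.range_fromSpecResidueField] at this
        exact this
      exact h4 _
    let ξ : Spec (CommRingCat.of Ω) ⟶ X := t ≫ P.hom
    obtain ⟨g, hg, -⟩ := hP.2 Ω ξ ⟨ξ ≫ s, by rw [Category.assoc, hs, Category.comp_id]⟩ ⟨t, rfl⟩
    have h5 : (ξ ≫ s) ≫ (ρ g).hom.left = t := congrArg Subtype.val hg
    refine ⟨(ξ ≫ Sigma.ι (fun _ : ι => X) (e.symm g)) (⊥ : PrimeSpectrum Ω), ?_⟩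
    rw [← Scheme.Hom.comp_apply, Category.assoc, hφ, Equiv.apply_symm_apply, ← Category.assoc, h5]
    exact ht
  have hiso : IsIso φ' := Groth.Agent.Desc.EtToDD.isIso_of_etale_of_universallyInjective φ'
  exact ⟨ι, inferInstance, ⟨isoMk (T := trivialObj X ι) (T' := P) (asIso φ') hw⟩⟩

end K150.TrivSec
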