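import Groth.Agent.Pi1.K150.QGood
import Groth.Agent.Pi1.K150.TrivSec
import Groth.Agent.Pi1.K150.LocGeo
import Groth.Agent.Pi1.K150.LocAlg

/-!
# Extension of principal covers near a section (helper150)
-/

set_option autoImplicit false
set_option backward.isDefEq.respectTransparency false
set_option backward.isDefEq.respectTransparency.types false
set_option linter.unusedSectionVars false

open CategoryTheory CategoryTheory.Limits AlgebraicGeometry TensorProduct TopologicalSpace
open Groth.Agent.Pi1A.FEtAffine K150.Ext K150.LocGeo Groth.Agent.Pi1.H384.SplitCover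
open Groth.Agent.Pi1.H384.SplitBasic Groth.Agent.Pi1.H383.PrincBC

namespace K150.LocSec

universe u v

section triv

/-- If the base change of a principal cover `Spec E → Spec Ck` to `Spec T` has a section, then it comes from any
`E' → T`. -/
theorem exists_F {Ck E E' T : Type u} [CommRing Ck] [CommRing E] [CommRing E'] [CommRing T]
    [Algebra Ck E] [Module.Finite Ck E] [Algebra.Etale Ck E] [Algebra Ck T] [Algebra E' T]
    (G : Type v) [Group G] [Finite G] (ρ : G →* Aut (ofAlgebra Ck E)) (hρ : SGA1t.IsPrincipal G _ ρ)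
    (β : E →+* T) (hβ : ∀ c, β (algebraMap Ck E c) = algebraMap Ck T c) :
    ∃ (F : Type u) (_ : CommRing F) (_ : Algebra E' F) (_ : Module.Finite E' F) (_ : Algebra.Etale E' F),
      Nonempty (T ⊗[Ck] E ≃ₐ[T] T ⊗[E'] F) := by
  have hw : Spec.map (CommRingCat.ofHom β) ≫ (ofAlgebra Ck E).hom =
      𝟙 (Spec (CommRingCat.of T)) ≫ specMap Ck T := by
    rw [Category.id_comp, ofAlgebra_hom, ← Spec.map_comp, ← CommRingCat.ofHom_comp]
    congr 2
    ext c
    exact hβ c
  obtain ⟨ι, hι, ⟨e⟩⟩ := TrivSec.exists_iso_trivialObj G ((FEt.restrict (specMap Ck T)).obj (ofAlgebra Ck E))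
    (bcAction _ ρ) (isPrincipal_bc _ G _ ρ hρ)
    (pullback.lift (Spec.map (CommRingCat.ofHom β)) (𝟙 _) hw) (pullback.lift_snd _ _ _)
  obtain ⟨F, _, _, h1, h2, ⟨a⟩⟩ := exists_iso_ofAlgebra (trivialObj (Spec (CommRingCat.of E')) ι)
  refine ⟨F, inferInstance, inferInstance, h1, h2, ?_⟩
  rw [← nonempty_iso_iff_nonempty_algEquiv]
  exact ⟨(restrictOfAlgebraIso E' T F).symm ≪≫ (FEt.restrict (specMap E' T)).mapIso a.symm ≪≫
    restrictTrivial (specMap E' T) ι ≪≫ e ≪≫ restrictOfAlgebraIso Ck T E⟩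

end triv

section main

variable {σ : Type u} [Finite σ] {B : Type u} [CommRing B] [IsDomain B] [IsNoetherianRing B]
  [IsIntegrallyClosed B] {K : Type u} [Field K] [Algebra B K]
  [IsFractionRing B K] {C : Type u} [CommRing C] [Algebra B C]
  [Algebra (MvPolynomial σ B) C] [IsScalarTower B (MvPolynomial σ B) C]
  [Algebra.Etale (MvPolynomial σ B) C]

/-- `Spec (K ⊗ C) ⟶ Spec C`. -/
noncomputable abbrev gen (B K C : Type u) [CommRing B] [CommRing K] [Algebra B K] [CommRing C] [Algebra B C] :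
    Spec (CommRingCat.of (K ⊗[B] C)) ⟶ Spec (CommRingCat.of C) :=
  Spec.map (CommRingCat.ofHom (Algebra.TensorProduct.includeRight : C →ₐ[B] K ⊗[B] C).toRingHom)

attribute [local instance] Algebra.TensorProduct.rightAlgebra in
/-- Ring form of the extension near a section. -/
theorem exists_open_ext_alg {E : Type u} [CommRing E] [Algebra (K ⊗[B] C) E] [Module.Finite (K ⊗[B] C) E]
    [Algebra.Etale (K ⊗[B] C) E]
    (hG : CAlg.IsGRing (MvPolynomial σ B)) (ε : C →+* B) (hε : ∀ b, ε (algebraMap B C b) = b)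
    (hX : ∀ i : σ, ε (algebraMap (MvPolynomial σ B) C (MvPolynomial.X i)) = 0)
    (hfib : ∀ (k : Type u) [Field k] [IsAlgClosed k] (s : Spec (CommRingCat.of k) ⟶ Spec (CommRingCat.of B)),
      ConnectedSpace ↥(pullback (Spec.map (CommRingCat.ofHom (algebraMap B C))) s))
    (G : Type v) [Group G] [Finite G] (hcard : IsUnit ((Nat.card G : ℕ) : B))
    (ρ : G →* Aut (ofAlgebra (K ⊗[B] C) E)) (hρ : SGA1t.IsPrincipal G _ ρ)
    (z : E →+* K) (hz : ∀ k c, z (algebraMap (K ⊗[B] C) E (k ⊗ₜ c)) = k * algebraMap B K (ε c))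
    (m : Ideal B) [hm : m.IsMaximal] :
    ∃ V : (Spec (CommRingCat.of C)).Opens, (⟨m.comap ε, inferInstance⟩ : PrimeSpectrum C) ∈ V ∧
      EO (gen B K C) (ofAlgebra (K ⊗[B] C) E) V.ι := by
  have hsmP : Algebra.Smooth B (MvPolynomial σ B) := ⟨inferInstance, inferInstance⟩
  have hsm : Algebra.Smooth B C := Algebra.Smooth.comp B (MvPolynomial σ B) C
  obtain ⟨E', _, _, _, hBCE', hE', n, hn, β, hnm, hβ⟩ := SecAlg.exists_etale_nbhd (C := C) (E := E) (K := K)
    hG ε hε hX z hz (fun q hq hq1 => QGood.qdata hfib ε hε z hz G hcard ρ hρ q hq hq1) m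
  -- the algebra structures
  let fKT : K ⊗[B] C →+* K ⊗[B] E' :=
    (Algebra.TensorProduct.map (AlgHom.id B K) (IsScalarTower.toAlgHom B C E')).toRingHom
  let _ : Algebra (K ⊗[B] C) (K ⊗[B] E') := fKT.toAlgebra
  have hfKT : ∀ k c, algebraMap (K ⊗[B] C) (K ⊗[B] E') (k ⊗ₜ c) = k ⊗ₜ algebraMap C E' c := fun k c => rfl
  let _ : Algebra C (K ⊗[B] E') := ((algebraMap E' (K ⊗[B] E')).comp (algebraMap C E')).toAlgebra
  have t1 : IsScalarTower C E' (K ⊗[B] E') := IsScalarTower.of_algebraMap_eq fun _ => rfl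
  have t2 : IsScalarTower C (K ⊗[B] C) (K ⊗[B] E') := IsScalarTower.of_algebraMap_eq fun _ => rfl
  have t3 : IsScalarTower K (K ⊗[B] C) (K ⊗[B] E') := IsScalarTower.of_algebraMap_eq fun k => by
    change (k ⊗ₜ[B] (1 : E')) = k ⊗ₜ[B] algebraMap C E' 1
    rw [map_one]
  have t4 : IsScalarTower B C (K ⊗[B] E') := IsScalarTower.of_algebraMap_eq fun b => by
    change _ = (1 : K) ⊗ₜ[B] algebraMap C E' (algebraMap B C b)
    rw [← IsScalarTower.algebraMap_apply B C E', SecAlg.one_tmul_algebraMap]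
    rfl
  have p1 : Algebra.IsPushout B K E' (K ⊗[B] E') := inferInstance
  have p2 : Algebra.IsPushout B C K (K ⊗[B] C) := inferInstance
  have p3 : Algebra.IsPushout C E' (K ⊗[B] C) (K ⊗[B] E') :=
    (Algebra.IsPushout.comp_iff B C K (K ⊗[B] C) (T := E') (T' := K ⊗[B] E')).1 p1.symm
  obtain ⟨F, _, _, hF1, hF2, ⟨Φ₀⟩⟩ := exists_F (E' := E') (T := K ⊗[B] E') G ρ hρ β (fun r => by
    induction r with
    | zero => simp only [map_zero]
    | add a b ha hb => simp only [map_add, ha, hb]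
    | tmul k c => rw [hβ, hfKT])
  let _ : Algebra C E := ((algebraMap (K ⊗[B] C) E).comp
      (Algebra.TensorProduct.includeRight : C →ₐ[B] K ⊗[B] C).toRingHom).toAlgebra
  have t5 : IsScalarTower C (K ⊗[B] C) E := IsScalarTower.of_algebraMap_eq fun _ => rfl
  let _ : Algebra B F := ((algebraMap E' F).comp (algebraMap B E')).toAlgebra
  have t6 : IsScalarTower B E' F := IsScalarTower.of_algebraMap_eq fun _ => rfl
  obtain ⟨Φ⟩ := LocAlg.exists_Phi (B := B) (K := K) (C := C) (Ck := K ⊗[B] C) (T := K ⊗[B] E') Φ₀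
  have hsmE' : Algebra.Smooth B E' := Algebra.Smooth.comp B C E'
  have hsmF : Algebra.Smooth B F := Algebra.Smooth.comp B E' F
  have hinj : Function.Injective (algebraMap B K) := IsFractionRing.injective B K
  obtain ⟨Ψ⟩ := EtDesc.exists_algEquiv (C := C) (E := E) (K := K) (F := F) hinj
    (fun w hw => IsIntegrallyClosed.isIntegral_iff.1 hw) Φ
  have hfin : Module.Finite E' (E' ⊗[C] integralClosure C E) := Module.Finite.equiv Ψ.symm.toLinearEquiv
  have het : Algebra.Etale E' (E' ⊗[C] integralClosure C E) := Algebra.Etale.of_equiv Ψ.symm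
  -- descent
  let ν : Spec (CommRingCat.of (integralClosure C E)) ⟶ Spec (CommRingCat.of C) :=
    Spec.map (CommRingCat.ofHom (algebraMap C (integralClosure C E)))
  let g : Spec (CommRingCat.of E') ⟶ Spec (CommRingCat.of C) := Spec.map (CommRingCat.ofHom (algebraMap C E'))
  have hg : Etale g := (HasRingHomProperty.Spec_iff (P := @Etale)).mpr (RingHom.etale_algebraMap.mpr hE')
  have hpb := isPullback_SpecMap_of_isPushout _ _ _ _
    (CommRingCat.isPushout_tensorProduct C E' (integralClosure C E)).flip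
  have hb : FEt.prop (Spec.map (CommRingCat.ofHom (algebraMap E' (E' ⊗[C] integralClosure C E)))) :=
    (ofAlgebra E' (E' ⊗[C] integralClosure C E)).prop
  have hprop := prop_restrict ν g hpb hb
  have hloc : IsLocalization (Algebra.algebraMapSubmonoid C (nonZeroDivisors B)) (K ⊗[B] C) :=
    SecAlg.isLocalization_tensor B K C
  have p4 : Algebra.IsPushout C (integralClosure C E) (K ⊗[B] C) E :=
    LocAlg.isPushout_closure B C (K ⊗[B] C) E
  have hpb2 : IsPullback (Spec.map (CommRingCat.ofHom (algebraMap (integralClosure C E) E)))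
      (Spec.map (CommRingCat.ofHom (algebraMap (K ⊗[B] C) E))) ν (gen B K C) :=
    isPullback_SpecMap_of_isPushout _ _ _ _
      (CommRingCat.isPushout_of_isPushout C (integralClosure C E) (K ⊗[B] C) E)
  refine ⟨rg g, ?_, eo_of_prop (Z := ofAlgebra (K ⊗[B] C) E) hpb2 (rg g) hprop⟩
  refine ⟨(⟨n, hn⟩ : PrimeSpectrum E'), ?_⟩
  apply PrimeSpectrum.ext
  exact hnm

end main

end K150.LocSec
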