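import Mathlib.RingTheory.Smooth.AdicCompletion
import Mathlib.RingTheory.AdicCompletion.Completeness
import Mathlib.RingTheory.Etale.Basic

/-!
# Lifting homomorphisms to power series rings (helper150)
-/

set_option autoImplicit false
set_option backward.isDefEq.respectTransparency false
set_option backward.isDefEq.respectTransparency.types false

open MvPowerSeries

namespace K150.PSLift

section ker

variable {σ : Type*} [Finite σ] {L : Type*} [CommRing L]

theorem mem_span_X_iff (p : MvPowerSeries σ L) :
    p ∈ Ideal.span (Set.range (X : σ → MvPowerSeries σ L)) ↔ constantCoeff p = 0 := by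
  constructor
  · intro h
    have h1 : Ideal.span (Set.range (X : σ → MvPowerSeries σ L)) ≤ RingHom.ker (constantCoeff (σ := σ) (R := L)) := by
      rw [Ideal.span_le]
      rintro _ ⟨i, rfl⟩
      exact constantCoeff_X i
    exact h1 h
  · intro h
    have hm : Ideal.map (toAdicCompletionAlgEquiv σ L).toRingEquiv (Ideal.span (Set.range X)) =
      (MvPolynomial.idealOfVars σ L).map (algebraMap ..) := by
      simp_rw [Ideal.map_span, ← Set.range_comp]
      congr 2; ext1
      simp [AdicCompletion.algebraMap_apply, ← MvPolynomial.coe_X, toAdicCompletion_coe]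
    have h2 : toAdicCompletionAlgEquiv σ L p ∈
        Ideal.map (toAdicCompletionAlgEquiv σ L).toRingEquiv (Ideal.span (Set.range X)) := by
      have h3 := AdicCompletion.ker_evalOneₐ_eq_map (MvPolynomial.idealOfVars σ L)
        (MvPolynomial.idealOfVars_fg σ L)
      rw [hm]
      refine h3.le ?_
      change AdicCompletion.evalOneₐ (MvPolynomial.idealOfVars σ L) (toAdicCompletionAlgEquiv σ L p) = 0
      have h5 : (truncTotal 1 p : MvPolynomial σ L) ∈ MvPolynomial.idealOfVars σ L ^ 1 := by
        rw [MvPolynomial.mem_pow_idealOfVars_iff']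
        intro x hx
        rw [coeff_truncTotal _ hx]
        have hx0 : x = 0 := by
          have : Finsupp.degree x = 0 := by omega
          exact (Finsupp.degree_eq_zero_iff x).1 this
        rw [hx0]
        exact h
      have h4 : truncTotalAlgHom σ L 1 p = 0 := by
        rw [truncTotalAlgHom_apply]
        exact Ideal.Quotient.eq_zero_iff_mem.2 h5
      rw [toAdicCompletionAlgEquiv_apply]
      refine (AdicCompletion.evalOneₐ_liftAlgHom (MvPolynomial.idealOfVars σ L) (truncTotalAlgHom σ L)
        (fun h ↦ AlgHom.ext fun _ ↦ by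
          simpa [Ideal.Quotient.mk_eq_mk_iff_sub_mem] using
            truncTotal_sub_truncTotal_mem_pow_idealOfVars h (le_refl _) _) p).trans ?_
      rw [h4, map_zero]
    rw [Ideal.mem_map_of_equiv] at h2
    obtain ⟨x, hx, hxp⟩ := h2
    have : x = p := (toAdicCompletionAlgEquiv σ L).injective hxp
    rwa [← this]

/-- Uniqueness of lifts along unramified algebras. -/
theorem hom_ext {R A : Type*} [CommRing R] [CommRing A] [Algebra R A] [Algebra.FormallyUnramified R A]
    [Algebra R (MvPowerSeries σ L)] (g₁ g₂ : A →ₐ[R] MvPowerSeries σ L)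
    (h : ∀ a, constantCoeff (g₁ a) = constantCoeff (g₂ a)) : g₁ = g₂ := by
  have hI : ⨅ i : ℕ, (Ideal.span (Set.range (X : σ → MvPowerSeries σ L))) ^ i = ⊥ := by
    rw [eq_bot_iff]
    intro x hx
    rw [Ideal.mem_iInf] at hx
    have h1 : IsHausdorff (Ideal.span (Set.range (X : σ → MvPowerSeries σ L))) (MvPowerSeries σ L) :=
      inferInstance
    refine h1.haus x fun n => ?_
    rw [SModEq.zero]
    simpa using hx n
  refine Algebra.FormallyUnramified.ext_of_iInf _ hI fun x => ?_
  rw [Ideal.Quotient.eq, mem_span_X_iff, map_sub, h, sub_self]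

/-- Existence of lifts along formally smooth algebras. -/
theorem exists_lift {R A : Type*} [CommRing R] [CommRing A] [Algebra R A] [Algebra.FormallySmooth R A]
    [Algebra R (MvPowerSeries σ L)] (z : A →+* L)
    (hz : ∀ r, z (algebraMap R A r) = constantCoeff (algebraMap R (MvPowerSeries σ L) r)) :
    ∃ g : A →ₐ[R] MvPowerSeries σ L, ∀ a, constantCoeff (g a) = z a := by
  let I : Ideal (MvPowerSeries σ L) := Ideal.span (Set.range (X : σ → MvPowerSeries σ L))
  have hI : I = RingHom.ker (constantCoeff (σ := σ) (R := L)) := by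
    ext p
    exact mem_span_X_iff p
  let f : A →ₐ[R] MvPowerSeries σ L ⧸ I :=
    { toRingHom := ((Ideal.Quotient.mk I).comp (C (σ := σ) (R := L))).comp z
      commutes' := fun r => by
        change Ideal.Quotient.mk I (C (z (algebraMap R A r))) = Ideal.Quotient.mk I (algebraMap R _ r)
        rw [Ideal.Quotient.eq, hI, RingHom.mem_ker, map_sub, constantCoeff_C, hz, sub_self] }
  obtain ⟨g, hg⟩ := Algebra.FormallySmooth.exists_mkₐ_comp_eq_of_isAdicComplete f
  refine ⟨g, fun a => ?_⟩
  have h1 : Ideal.Quotient.mk I (g a) = Ideal.Quotient.mk I (C (z a)) := congr($hg a)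
  rw [Ideal.Quotient.eq, hI, RingHom.mem_ker, map_sub, constantCoeff_C, sub_eq_zero] at h1
  exact h1

end ker

end K150.PSLift
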