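import Groth.Agent.Pi1.K150.SecAlg
import Groth.Agent.Pi1.K150.DvrAlg
import Groth.Agent.Fga.HenselDVR

/-!
# Extension data at height one primes for principal covers (helper150)
-/

set_option autoImplicit false
set_option backward.isDefEq.respectTransparency false
set_option backward.isDefEq.respectTransparency.types false
set_option linter.unusedSectionVars false

open CategoryTheory CategoryTheory.Limits AlgebraicGeometry TensorProduct IsLocalRing

namespace K150.QGood

universe u v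

open Groth.Agent.Pi1A.FEtAffine Groth.Agent.Pi1.H382.Desc Groth.Agent.Pi1.H383.PrincBC K150.DvrAlg

/-- Ring maps out of a tensor product. -/
theorem exists_lift2 {R R' S T : Type*} [CommRing R] [CommRing R'] [CommRing S] [CommRing T]
    [Algebra R R'] [Algebra R S] (f1 : R' →+* T) (f2 : S →+* T)
    (h : ∀ r, f1 (algebraMap R R' r) = f2 (algebraMap R S r)) :
    ∃ F : R' ⊗[R] S →+* T, ∀ a b, F (a ⊗ₜ b) = f1 a * f2 b := by
  let _ : Algebra R T := (f1.comp (algebraMap R R')).toAlgebra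
  let g1 : R' →ₐ[R] T := { toRingHom := f1, commutes' := fun r => rfl }
  let g2 : S →ₐ[R] T := { toRingHom := f2, commutes' := fun r => (h r).symm }
  exact ⟨(Algebra.TensorProduct.lift g1 g2 (fun _ _ => Commute.all _ _)).toRingHom, fun a b =>
    Algebra.TensorProduct.lift_tmul g1 g2 _ a b⟩

section transfer

variable {B C K Ω V E EV : Type u} [CommRing B] [CommRing C] [Algebra B C] [Field K] [Algebra B K]
  [CommRing Ω] [Algebra B Ω] [CommRing V] [Algebra B V] [Algebra V Ω] [IsScalarTower B V Ω]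
  [CommRing E] [Algebra (K ⊗[B] C) E] [CommRing EV] [Algebra (V ⊗[B] C) EV] [Algebra V EV]
  [IsScalarTower V (V ⊗[B] C) EV] [Algebra (K ⊗[B] C) (Ω ⊗[B] C)] [Algebra (V ⊗[B] C) (Ω ⊗[B] C)]

theorem exists_chi (κ : K →ₐ[B] Ω)
    (hK : ∀ r, algebraMap (K ⊗[B] C) (Ω ⊗[B] C) r = mp C κ r)
    (hV : ∀ r, algebraMap (V ⊗[B] C) (Ω ⊗[B] C) r = mp C (IsScalarTower.toAlgHom B V Ω) r)
    (Φ : (Ω ⊗[B] C) ⊗[K ⊗[B] C] E ≃ₐ[Ω ⊗[B] C] (Ω ⊗[B] C) ⊗[V ⊗[B] C] EV)
    (ε : C →+* B) (hε : ∀ b, ε (algebraMap B C b) = b)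
    (z : E →+* K) (hz : ∀ k c, z (algebraMap (K ⊗[B] C) E (k ⊗ₜ c)) = k * algebraMap B K (ε c)) :
    ∃ (χ : E →+* EV ⊗[V] Ω) (z' : EV ⊗[V] Ω →+* Ω),
      (∀ c : C, χ (algebraMap (K ⊗[B] C) E (1 ⊗ₜ c)) = algebraMap (V ⊗[B] C) EV (1 ⊗ₜ c) ⊗ₜ 1) ∧
      (∀ k : K, χ (algebraMap (K ⊗[B] C) E (k ⊗ₜ 1)) = 1 ⊗ₜ κ k) ∧
      (∀ w : Ω, z' (1 ⊗ₜ w) = w) ∧ ∀ e, z' (χ e) = κ (z e) := by
  -- the map from `Ω ⊗ C`
  obtain ⟨f1, hf1⟩ := exists_lift2 (R := B) (R' := Ω) (S := C) (T := EV ⊗[V] Ω)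
    (Algebra.TensorProduct.includeRight : Ω →ₐ[V] EV ⊗[V] Ω).toRingHom
    (((Algebra.TensorProduct.includeLeft : EV →ₐ[V] EV ⊗[V] Ω).toRingHom.comp
      (algebraMap (V ⊗[B] C) EV)).comp (Algebra.TensorProduct.includeRight : C →ₐ[B] V ⊗[B] C).toRingHom)
    (fun b => by
      change (1 : EV) ⊗ₜ[V] algebraMap B Ω b = algebraMap (V ⊗[B] C) EV (1 ⊗ₜ algebraMap B C b) ⊗ₜ 1
      rw [SecAlg.one_tmul_algebraMap, IsScalarTower.algebraMap_apply B V Ω]
      have h1 : algebraMap (V ⊗[B] C) EV (algebraMap B V b ⊗ₜ 1) = algebraMap V EV (algebraMap B V b) := by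
        rw [IsScalarTower.algebraMap_apply V (V ⊗[B] C) EV]
        rfl
      rw [h1]
      simp only [Algebra.algebraMap_eq_smul_one, TensorProduct.tmul_smul, TensorProduct.smul_tmul'])
  have hf1' : ∀ w c, f1 (w ⊗ₜ c) = algebraMap (V ⊗[B] C) EV (1 ⊗ₜ c) ⊗ₜ w := by
    intro w c
    rw [hf1]
    change ((1 : EV) ⊗ₜ[V] w) * (algebraMap (V ⊗[B] C) EV (1 ⊗ₜ c) ⊗ₜ 1) = _
    rw [Algebra.TensorProduct.tmul_mul_tmul, one_mul, mul_one]
  obtain ⟨m', hm'⟩ := exists_lift2 (R := V ⊗[B] C) (R' := Ω ⊗[B] C) (S := EV) (T := EV ⊗[V] Ω) f1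
    (Algebra.TensorProduct.includeLeft : EV →ₐ[V] EV ⊗[V] Ω).toRingHom (fun r => by
      rw [hV]
      induction r with
      | zero => simp only [map_zero]
      | add a b ha hb => simp only [map_add, ha, hb]
      | tmul v c =>
        rw [mp_tmul, hf1']
        change _ = algebraMap (V ⊗[B] C) EV (v ⊗ₜ c) ⊗ₜ 1
        have h1 : (v ⊗ₜ[B] c : V ⊗[B] C) = (algebraMap V (V ⊗[B] C) v) * (1 ⊗ₜ c) := by
          change _ = (v ⊗ₜ[B] (1 : C)) * (1 ⊗ₜ c)
          rw [Algebra.TensorProduct.tmul_mul_tmul, one_mul, mul_one]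
        rw [h1, map_mul, ← IsScalarTower.algebraMap_apply V (V ⊗[B] C) EV, ← Algebra.smul_def,
          TensorProduct.smul_tmul, ← Algebra.algebraMap_eq_smul_one]
        rfl)
  obtain ⟨m, hm⟩ := exists_lift2 (R := V) (R' := EV) (S := Ω) (T := (Ω ⊗[B] C) ⊗[V ⊗[B] C] EV)
    (Algebra.TensorProduct.includeRight : EV →ₐ[V ⊗[B] C] (Ω ⊗[B] C) ⊗[V ⊗[B] C] EV).toRingHom
    ((Algebra.TensorProduct.includeLeft : (Ω ⊗[B] C) →ₐ[Ω ⊗[B] C] (Ω ⊗[B] C) ⊗[V ⊗[B] C] EV).toRingHom.comp
      (Algebra.TensorProduct.includeLeft : Ω →ₐ[B] Ω ⊗[B] C).toRingHom) (fun v => by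
      change (1 : Ω ⊗[B] C) ⊗ₜ[V ⊗[B] C] algebraMap V EV v = (algebraMap V Ω v ⊗ₜ[B] (1 : C)) ⊗ₜ 1
      have h1 : (algebraMap V Ω v ⊗ₜ[B] (1 : C)) = algebraMap (V ⊗[B] C) (Ω ⊗[B] C) (v ⊗ₜ 1) := by
        rw [hV, mp_tmul]
        rfl
      rw [h1, IsScalarTower.algebraMap_apply V (V ⊗[B] C) EV]
      change (1 : Ω ⊗[B] C) ⊗ₜ[V ⊗[B] C] algebraMap (V ⊗[B] C) EV (v ⊗ₜ 1) = _
      simp only [Algebra.algebraMap_eq_smul_one, TensorProduct.tmul_smul, TensorProduct.smul_tmul'])
  have hmm : ∀ x, m (m' x) = x := by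
    have h1 : ∀ (w : Ω) (c : C) (e : EV), m (m' ((w ⊗ₜ c) ⊗ₜ e)) = (w ⊗ₜ c) ⊗ₜ e := by
      intro w c e
      rw [hm', hf1']
      change m ((algebraMap (V ⊗[B] C) EV (1 ⊗ₜ c) ⊗ₜ w) * (e ⊗ₜ 1)) = _
      rw [Algebra.TensorProduct.tmul_mul_tmul, mul_one, hm]
      change (1 ⊗ₜ (algebraMap (V ⊗[B] C) EV (1 ⊗ₜ c) * e)) * ((w ⊗ₜ 1) ⊗ₜ 1) = _
      rw [Algebra.TensorProduct.tmul_mul_tmul, mul_one, one_mul, ← Algebra.smul_def,
        TensorProduct.tmul_smul, TensorProduct.smul_tmul']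
      congr 1
      rw [Algebra.smul_def, hV, mp_tmul, map_one, Algebra.TensorProduct.tmul_mul_tmul, mul_one, one_mul]
    intro x
    induction x with
    | zero => simp only [map_zero]
    | add a b ha hb => simp only [map_add, ha, hb]
    | tmul a e =>
      induction a with
      | zero => simp only [TensorProduct.zero_tmul, map_zero]
      | add a b ha hb => simp only [TensorProduct.add_tmul, map_add, ha, hb]
      | tmul w c => exact h1 w c e
  -- the point
  obtain ⟨f3, hf3⟩ := exists_lift2 (R := B) (R' := Ω) (S := C) (T := Ω) (RingHom.id Ω)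
    ((algebraMap B Ω).comp ε) (fun b => by
      change algebraMap B Ω b = algebraMap B Ω (ε (algebraMap B C b))
      rw [hε])
  obtain ⟨zz, hzz⟩ := exists_lift2 (R := K ⊗[B] C) (R' := Ω ⊗[B] C) (S := E) (T := Ω) f3
    (κ.toRingHom.comp z) (fun r => by
      rw [hK]
      induction r with
      | zero => simp only [map_zero]
      | add a b ha hb => simp only [map_add, ha, hb]
      | tmul k c =>
        rw [mp_tmul, hf3]
        change κ k * algebraMap B Ω (ε c) = κ (z (algebraMap (K ⊗[B] C) E (k ⊗ₜ c)))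
        rw [hz, map_mul, κ.commutes])
  have hzΩ : ∀ w : Ω, zz ((w ⊗ₜ 1) ⊗ₜ 1) = w := by
    intro w
    rw [hzz, hf3]
    change w * algebraMap B Ω (ε 1) * κ (z 1) = w
    simp only [map_one, mul_one]
  have hΦ : ∀ a : Ω ⊗[B] C, Φ (a ⊗ₜ 1) = a ⊗ₜ 1 := fun a => Φ.commutes a
  have hE : ∀ r : K ⊗[B] C, (1 : Ω ⊗[B] C) ⊗ₜ[K ⊗[B] C] algebraMap (K ⊗[B] C) E r = mp C κ r ⊗ₜ 1 := by
    intro r
    rw [← hK]
    simp only [Algebra.algebraMap_eq_smul_one, TensorProduct.tmul_smul, TensorProduct.smul_tmul']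
  let χ : E →+* EV ⊗[V] Ω := (m'.comp Φ.toAlgHom.toRingHom).comp
    (Algebra.TensorProduct.includeRight : E →ₐ[K ⊗[B] C] (Ω ⊗[B] C) ⊗[K ⊗[B] C] E).toRingHom
  have hχ : ∀ e, χ e = m' (Φ (1 ⊗ₜ e)) := fun e => rfl
  let z' : EV ⊗[V] Ω →+* Ω := (zz.comp Φ.symm.toAlgHom.toRingHom).comp m
  have hz' : ∀ x, z' x = zz (Φ.symm (m x)) := fun x => rfl
  refine ⟨χ, z', ?_, ?_, ?_, ?_⟩
  · intro c
    rw [hχ, hE, hΦ, hm', map_one, mul_one, mp_tmul, map_one, hf1']
  · intro k
    rw [hχ, hE, hΦ, hm', map_one, mul_one, mp_tmul, hf1']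
    congr 1
    exact map_one _
  · intro w
    rw [hz', hm]
    change zz (Φ.symm ((1 ⊗ₜ (1 : EV)) * ((w ⊗ₜ 1) ⊗ₜ 1))) = w
    rw [Algebra.TensorProduct.tmul_mul_tmul, mul_one, one_mul, ← hΦ, Φ.symm_apply_apply, hzΩ]
  · intro e
    rw [hz', hχ, hmm, Φ.symm_apply_apply, hzz, map_one, one_mul]
    rfl

end transfer

section aux

variable {B C K E V Ω EV : Type u} [CommRing B] [CommRing C] [Algebra B C] [Algebra.Smooth B C] [Field K] [Algebra B K]
  [CommRing E] [Algebra (K ⊗[B] C) E] [Module.Finite (K ⊗[B] C) E] [Algebra.Etale (K ⊗[B] C) E]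
  [CommRing Ω] [Algebra B Ω] [CommRing V] [Algebra B V] [Algebra V Ω] [IsScalarTower B V Ω]
  [CommRing EV] [Algebra (V ⊗[B] C) EV] [Module.Finite (V ⊗[B] C) EV] [Algebra.Etale (V ⊗[B] C) EV]

/-- Packaging of the extension data. -/
theorem qdata_aux (κ : K →ₐ[B] Ω) (q : Ideal B)
    (hinj : Function.Injective (algebraMap V Ω))
    (hint : ∀ x : Ω, IsIntegral V x → x ∈ (algebraMap V Ω).range)
    (hKV : ∀ y : K, κ y ∈ (algebraMap V Ω).range → ∃ a s : B, s ∉ q ∧ y * algebraMap B K s = algebraMap B K a)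
    (iso : (FEt.restrict (Spec.map (CommRingCat.ofHom
        (mp C (IsScalarTower.toAlgHom B V Ω))))).obj (ofAlgebra (V ⊗[B] C) EV) ≅
        (FEt.restrict (Spec.map (CommRingCat.ofHom (mp C κ)))).obj (ofAlgebra (K ⊗[B] C) E))
    (ε : C →+* B) (hε : ∀ b, ε (algebraMap B C b) = b)
    (z : E →+* K) (hz : ∀ k c, z (algebraMap (K ⊗[B] C) E (k ⊗ₜ c)) = k * algebraMap B K (ε c)) :
    SecAlg.QData B K C E z q := by
  let _ : Algebra V EV := ((algebraMap (V ⊗[B] C) EV).comp (algebraMap V (V ⊗[B] C))).toAlgebra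
  have htEV : IsScalarTower V (V ⊗[B] C) EV := IsScalarTower.of_algebraMap_eq fun _ => rfl
  have hsm : Algebra.Smooth V EV := Algebra.Smooth.comp V (V ⊗[B] C) EV
  let _ : Algebra (K ⊗[B] C) (Ω ⊗[B] C) := (mp C κ).toAlgebra
  let _ : Algebra (V ⊗[B] C) (Ω ⊗[B] C) := (mp C (IsScalarTower.toAlgHom B V Ω)).toAlgebra
  let Φ : (Ω ⊗[B] C) ⊗[K ⊗[B] C] E ≃ₐ[Ω ⊗[B] C] (Ω ⊗[B] C) ⊗[V ⊗[B] C] EV :=
    algEquivOfIso ((restrictOfAlgebraIso (V ⊗[B] C) (Ω ⊗[B] C) EV).symm ≪≫ iso ≪≫
      restrictOfAlgebraIso (K ⊗[B] C) (Ω ⊗[B] C) E)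
  obtain ⟨χ, z', h1, h2, h3, h4⟩ := exists_chi κ (fun _ => rfl) (fun _ => rfl) Φ ε hε z hz
  exact ⟨V, Ω, inferInstance, inferInstance, inferInstance, inferInstance, κ.toRingHom, hinj, hint,
    fun b => (κ.commutes b).trans (IsScalarTower.algebraMap_apply B V Ω b), hKV,
    EV, inferInstance, inferInstance, inferInstance, htEV, hsm, inferInstance, inferInstance, χ, z',
    h1, h2, h3, h4⟩

end aux

section dvr

/-- The localization of a Noetherian normal domain at a prime of height one is a discrete valuation ring. -/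
theorem isDVR {B : Type u} [CommRing B] [IsDomain B] [IsNoetherianRing B] [IsIntegrallyClosed B]
    (q : Ideal B) [q.IsPrime] (hq : q.height = 1) :
    IsDiscreteValuationRing (Localization.AtPrime q) := by
  have h1 : IsPrincipalIdealRing (Localization.AtPrime q) :=
    Groth.Agent.EtpbcB.LocAcyc.isPrincipalIdealRing_of_height_one q hq _
  have hq0 : q ≠ ⊥ := by
    rintro rfl
    rw [Ideal.height_bot] at hq
    exact zero_ne_one hq
  refine { not_a_field' := ?_ }
  intro h
  apply hq0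
  rw [eq_bot_iff]
  intro x hx
  have h2 : algebraMap B (Localization.AtPrime q) x ∈ maximalIdeal (Localization.AtPrime q) :=
    (IsLocalization.AtPrime.to_map_mem_maximal_iff _ q x).2 hx
  rw [h, Ideal.mem_bot] at h2
  exact (IsLocalization.injective (Localization.AtPrime q) q.primeCompl_le_nonZeroDivisors)
    (h2.trans (map_zero _).symm)

variable {B C K E : Type u} [CommRing B] [IsDomain B] [IsNoetherianRing B] [IsIntegrallyClosed B]
  [CommRing C] [Algebra B C] [Algebra.Smooth B C] [Field K] [Algebra B K] [IsFractionRing B K]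
  [CommRing E] [Algebra (K ⊗[B] C) E] [Module.Finite (K ⊗[B] C) E] [Algebra.Etale (K ⊗[B] C) E]

/-- Extension data at height one primes for principal covers. -/
theorem qdata
    (hfib : ∀ (k : Type u) [Field k] [IsAlgClosed k] (s : Spec (CommRingCat.of k) ⟶ Spec (CommRingCat.of B)),
      ConnectedSpace ↥(pullback (Spec.map (CommRingCat.ofHom (algebraMap B C))) s))
    (ε : C →+* B) (hε : ∀ b, ε (algebraMap B C b) = b)
    (z : E →+* K) (hz : ∀ k c, z (algebraMap (K ⊗[B] C) E (k ⊗ₜ c)) = k * algebraMap B K (ε c))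
    (G : Type v) [Group G] [Finite G] (hcard : IsUnit ((Nat.card G : ℕ) : B))
    (ρ : G →* Aut (ofAlgebra (K ⊗[B] C) E)) (hρ : SGA1t.IsPrincipal G _ ρ)
    (q : Ideal B) (hqp : q.IsPrime) (hq : q.height = 1) : SecAlg.QData B K C E z q := by
  have hdvr : IsDiscreteValuationRing (Localization.AtPrime q) := isDVR q hq
  obtain ⟨A, _, _, _, _, φ, hφ, hφi⟩ := Groth.Agent.Fga.HenselDVR.exists_henselian_dvr (Localization.AtPrime q)
  let _ : Algebra B A := (φ.comp (algebraMap B (Localization.AtPrime q))).toAlgebra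
  have hBA : ∀ b, algebraMap B A b = φ (algebraMap B (Localization.AtPrime q) b) := fun b => rfl
  have hBAi : Function.Injective (algebraMap B A) :=
    hφi.comp (IsLocalization.injective (Localization.AtPrime q) q.primeCompl_le_nonZeroDivisors)
  let KA := FractionRing A
  let Ω := AlgebraicClosure KA
  have htA : IsScalarTower A KA Ω := inferInstance
  have htBK : IsScalarTower B A KA := inferInstance
  have htBKΩ : IsScalarTower B KA Ω := inferInstance
  have htB : IsScalarTower B A Ω := IsScalarTower.of_algebraMap_eq fun b => by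
    rw [IsScalarTower.algebraMap_apply B KA Ω, IsScalarTower.algebraMap_apply B A KA,
      ← IsScalarTower.algebraMap_apply A KA Ω]
  have hBKAi : Function.Injective (algebraMap B KA) := by
    rw [IsScalarTower.algebraMap_eq B A KA]
    exact (IsFractionRing.injective A KA).comp hBAi
  let κ1 : K →+* KA := IsFractionRing.lift (A := B) (K := K) hBKAi
  have hκ1 : ∀ b, κ1 (algebraMap B K b) = algebraMap A KA (algebraMap B A b) := fun b => by
    rw [← IsScalarTower.algebraMap_apply B A KA]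
    exact IsFractionRing.lift_algebraMap hBKAi b
  let κ : K →ₐ[B] Ω := { toRingHom := (algebraMap KA Ω).comp κ1
                         commutes' := fun b => by
                          change algebraMap KA Ω (κ1 (algebraMap B K b)) = _
                          rw [hκ1, ← IsScalarTower.algebraMap_apply B A KA,
                            ← IsScalarTower.algebraMap_apply B KA Ω] }
  have hcardA : IsUnit ((Nat.card G : ℕ) : A) := by
    have := hcard.map (algebraMap B A)
    rwa [map_natCast] at this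
  have hfibA : ∀ (k : Type u) [Field k] [IsAlgClosed k]
      (s : Spec (CommRingCat.of k) ⟶ Spec (CommRingCat.of A)), s (⊥ : PrimeSpectrum k) = closedPoint A →
        ConnectedSpace ↥(pullback (fA B C A) s) := by
    intro k _ _ s _
    have h1 : IsPullback (pullback.fst (fA B C A) s ≫
        Spec.map (CommRingCat.ofHom (Algebra.TensorProduct.includeRight : C →ₐ[B] A ⊗[B] C).toRingHom))
        (pullback.snd (fA B C A) s) (Spec.map (CommRingCat.ofHom (algebraMap B C)))
        (s ≫ Spec.map (CommRingCat.ofHom (algebraMap B A))) :=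
      (IsPullback.of_hasPullback (fA B C A) s).paste_horiz (isPullback_bc B C A)
    have h2 := hfib k (s ≫ Spec.map (CommRingCat.ofHom (algebraMap B A)))
    exact (Scheme.homeoOfIso h1.isoPullback).symm.surjective.connectedSpace (Scheme.homeoOfIso h1.isoPullback).symm.continuous
  -- the cover over `Ω`
  let ZE : FEt.Cat (Spec (CommRingCat.of (K ⊗[B] C))) := ofAlgebra (K ⊗[B] C) E
  let gK : Spec (CommRingCat.of (Ω ⊗[B] C)) ⟶ Spec (CommRingCat.of (K ⊗[B] C)) :=
    Spec.map (CommRingCat.ofHom (mp C κ))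
  obtain ⟨EV, _, _, hfin, het, ⟨iso⟩⟩ := exists_EV (B := B) (C := C) (A := A) KA (Ω := Ω) hfibA G hcardA
    ((FEt.restrict gK).obj ZE) (bcAction gK ρ) (isPrincipal_bc gK G ZE ρ hρ)
  let V := integralClosure A Ω
  have hinj : Function.Injective (algebraMap V Ω) := Subtype.val_injective
  refine qdata_aux (V := V) (Ω := Ω) (EV := EV) κ q hinj ?_ ?_ iso ε hε z hz
  · intro x hx
    have : Algebra.IsIntegral A V := inferInstance
    exact ⟨⟨x, isIntegral_trans (R := A) (A := V) x hx⟩, rfl⟩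
  · rintro y ⟨v, hv⟩
    have hy1 : IsIntegral A (algebraMap KA Ω (κ1 y)) := by
      have : IsIntegral A (algebraMap V Ω v) := v.2
      rw [hv] at this
      exact this
    have hy2 : IsIntegral A (κ1 y) := (isIntegral_algebraMap_iff (algebraMap KA Ω).injective).1 hy1
    obtain ⟨a, ha⟩ := IsIntegrallyClosed.isIntegral_iff.1 hy2
    -- `K` is the fraction field of the localization
    obtain ⟨b, c, hc, hbc⟩ := IsFractionRing.div_surjective (A := B) y
    by_contra hcon
    push Not at hcon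
    have hc0 : algebraMap B K c ≠ 0 := by
      intro h
      exact nonZeroDivisors.ne_zero hc (IsFractionRing.injective B K (h.trans (map_zero _).symm))
    have hab : a * algebraMap B A c = algebraMap B A b := by
      apply IsFractionRing.injective A KA
      rw [map_mul, ha, ← hκ1, ← map_mul, ← hκ1]
      congr 1
      rw [← hbc]
      field_simp
    have hval : (algebraMap B (Localization.AtPrime q) c ∣ algebraMap B (Localization.AtPrime q) b) ∨
        (algebraMap B (Localization.AtPrime q) b ∣ algebraMap B (Localization.AtPrime q) c) :=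
      ValuationRing.dvd_total _ _
    have hdvd : algebraMap B (Localization.AtPrime q) c ∣ algebraMap B (Localization.AtPrime q) b := by
      rcases hval with h | ⟨t, ht⟩
      · exact h
      · have h5 : algebraMap B A c ≠ 0 := by
          intro h
          exact nonZeroDivisors.ne_zero hc (hBAi (h.trans (map_zero _).symm))
        have h6 : a * φ t = 1 := by
          have h7 : algebraMap B A c = algebraMap B A b * φ t := by
            rw [hBA, ht, map_mul, ← hBA]
          rw [← hab] at h7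
          apply mul_left_cancel₀ h5
          rw [mul_one]
          calc algebraMap B A c * (a * φ t) = a * algebraMap B A c * φ t := by ring
            _ = algebraMap B A c := h7.symm
        have h8 : IsUnit (φ t) := IsUnit.of_mul_eq_one a (by rw [mul_comm]; exact h6)
        have h9 : IsUnit t := isUnit_of_map_unit φ t h8
        obtain ⟨u, rfl⟩ := h9
        exact ⟨(u⁻¹ : (Localization.AtPrime q)ˣ), by rw [ht, mul_assoc, Units.mul_inv, mul_one]⟩
    obtain ⟨w, hw⟩ := hdvd
    obtain ⟨a', s, hs⟩ := IsLocalization.exists_mk'_eq q.primeCompl w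
    apply hcon a' s s.2
    have h10 : w * algebraMap B (Localization.AtPrime q) s = algebraMap B (Localization.AtPrime q) a' := by
      rw [← hs]
      exact IsLocalization.mk'_spec _ _ _
    have h11 : b * s = c * a' := by
      apply IsLocalization.injective (Localization.AtPrime q) q.primeCompl_le_nonZeroDivisors
      rw [map_mul, map_mul, hw, ← h10]
      ring
    have h12 := congrArg (algebraMap B K) h11
    rw [map_mul, map_mul] at h12
    rw [← hbc]
    field_simp
    rw [h12]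

end dvr

end K150.QGood
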