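import Groth.Agent.Pi1.K150.PSLift
import Mathlib.RingTheory.Smooth.IntegralClosure

/-!
# Integrality of coefficients (helper150)
-/

set_option autoImplicit false
set_option backward.isDefEq.respectTransparency false
set_option backward.isDefEq.respectTransparency.types false
set_option linter.unusedSectionVars false

open MvPowerSeries TensorProduct

namespace K150.QStep

universe u

/-- Smooth algebras over a ring integrally closed in `Ω`. -/
theorem exists_tmul_one {V S Ω : Type*} [CommRing V] [CommRing S] [Algebra V S] [Algebra.Smooth V S]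
    [CommRing Ω] [Algebra V Ω] (hVi : ∀ w : Ω, IsIntegral V w → w ∈ (algebraMap V Ω).range)
    (x : S ⊗[V] Ω) (hx : IsIntegral S x) : ∃ s : S, x = s ⊗ₜ[V] (1 : Ω) := by
  obtain ⟨y, hy⟩ := (TensorProduct.toIntegralClosure_bijective_of_smooth (R := V) (S := S)
    (B := Ω)).2 ⟨x, hx⟩
  have hy' : Algebra.TensorProduct.map (AlgHom.id S S) (integralClosure V Ω).val y = x :=
    congrArg Subtype.val hy
  rw [← hy']
  clear hy hy' hx x
  induction y with
  | zero => exact ⟨0, by rw [map_zero, zero_tmul]⟩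
  | add a b ha hb =>
    obtain ⟨s, hs⟩ := ha
    obtain ⟨t, ht⟩ := hb
    exact ⟨s + t, by rw [map_add, hs, ht, add_tmul]⟩
  | tmul s w =>
    obtain ⟨v, hv⟩ := hVi w.1 w.2
    refine ⟨v • s, ?_⟩
    rw [Algebra.TensorProduct.map_tmul, smul_tmul]
    change s ⊗ₜ[V] (w : Ω) = _
    rw [← hv, Algebra.algebraMap_eq_smul_one]

variable {σ : Type*} [Finite σ]

/-- A ring map whose values are integral over a ring `V` integrally closed in the target. -/
theorem exists_codRestrict {R E V Ω : Type*} [CommRing R] [CommRing E] [Algebra R E]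
    [Algebra.IsIntegral R E] [CommRing V] [CommRing Ω] [Algebra V Ω]
    (hV : Function.Injective (algebraMap V Ω))
    (hVi : ∀ x : Ω, IsIntegral V x → x ∈ (algebraMap V Ω).range)
    (z : E →+* Ω) (ε : R →+* V) (hz : ∀ r, z (algebraMap R E r) = algebraMap V Ω (ε r)) :
    ∃ z' : E →+* V, (∀ e, algebraMap V Ω (z' e) = z e) ∧ ∀ r, z' (algebraMap R E r) = ε r := by
  have h1 : ∀ e : E, z e ∈ (algebraMap V Ω).range := by
    intro e
    apply hVi
    obtain ⟨p, hp, hpe⟩ := Algebra.IsIntegral.isIntegral (R := R) e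
    refine ⟨p.map ε, hp.map ε, ?_⟩
    rw [Polynomial.eval₂_map]
    have h2 : (algebraMap V Ω).comp ε = z.comp (algebraMap R E) := by
      ext r
      exact (hz r).symm
    rw [h2, ← Polynomial.hom_eval₂, hpe, map_zero]
  let e0 : V ≃+* (algebraMap V Ω).range := RingEquiv.ofBijective (algebraMap V Ω).rangeRestrict
    ⟨fun a b h => hV (congrArg Subtype.val h), RingHom.rangeRestrict_surjective _⟩
  have he0 : ∀ y : (algebraMap V Ω).range, algebraMap V Ω (e0.symm y) = y := by
    intro y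
    have := e0.apply_symm_apply y
    exact congrArg Subtype.val this
  refine ⟨e0.symm.toRingHom.comp (z.codRestrict (algebraMap V Ω).range h1), fun e => ?_, fun r => ?_⟩
  · exact he0 _
  · apply hV
    refine (he0 _).trans ?_
    exact hz r

section main

variable {B C K E V Ω EV : Type*} [CommRing B] [CommRing C] [Algebra B C] [CommRing K] [Algebra B K]
  [CommRing E] [Algebra (K ⊗[B] C) E] [CommRing V] [CommRing Ω] [Algebra B V] [Algebra V Ω]
  [CommRing EV] [Algebra (V ⊗[B] C) EV] [Algebra V EV] [IsScalarTower V (V ⊗[B] C) EV]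

/-- The structure map `V ⊗ C → V[[T]]`. -/
noncomputable def bigθ (V : Type*) [CommRing V] [Algebra B V] (θ : C →+* MvPowerSeries σ B)
    (hθ : ∀ b, θ (algebraMap B C b) = MvPowerSeries.C b) : V ⊗[B] C →+* MvPowerSeries σ V :=
  (Algebra.TensorProduct.lift (A := V) (B := C) (C := MvPowerSeries σ V) (S := V)
    (Algebra.ofId V (MvPowerSeries σ V))
    ({ toRingHom := (MvPowerSeries.map (algebraMap B V)).comp θ
       commutes' := fun b => by
        change MvPowerSeries.map (algebraMap B V) (θ (algebraMap B C b)) = algebraMap B (MvPowerSeries σ V) b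
        rw [hθ, MvPowerSeries.map_C, MvPowerSeries.algebraMap_apply] } : C →ₐ[B] MvPowerSeries σ V)
    (fun _ _ => Commute.all _ _)).toRingHom

theorem bigθ_tmul (θ : C →+* MvPowerSeries σ B)
    (hθ : ∀ b, θ (algebraMap B C b) = MvPowerSeries.C b) (v : V) (c : C) :
    bigθ V θ hθ (v ⊗ₜ c) = MvPowerSeries.C v * MvPowerSeries.map (algebraMap B V) (θ c) := by
  rfl

/-- The coefficients of the image of an integral element under a homomorphism into a power series
ring lie in `V` if the cover extends to an étale cover over `V`. -/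
theorem exists_map_eq (hV : Function.Injective (algebraMap V Ω))
    (hVi : ∀ x : Ω, IsIntegral V x → x ∈ (algebraMap V Ω).range)
    (θ : C →+* MvPowerSeries σ B) (hθ : ∀ b, θ (algebraMap B C b) = MvPowerSeries.C b)
    [Algebra.FormallyUnramified (K ⊗[B] C) E]
    (ψ : E →+* MvPowerSeries σ K) (hψ : ∀ r : K ⊗[B] C, ψ (algebraMap _ E r) = bigθ K θ hθ r)
    (κ : K →+* Ω) (hκ : ∀ b, κ (algebraMap B K b) = algebraMap V Ω (algebraMap B V b))
    [Algebra.Smooth V EV] [Algebra.FormallySmooth (V ⊗[B] C) EV] [Algebra.IsIntegral (V ⊗[B] C) EV]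
    (χ : E →+* EV ⊗[V] Ω)
    (hχC : ∀ c : C, χ (algebraMap (K ⊗[B] C) E (1 ⊗ₜ c)) = algebraMap (V ⊗[B] C) EV (1 ⊗ₜ c) ⊗ₜ 1)
    (hχK : ∀ k : K, χ (algebraMap (K ⊗[B] C) E (k ⊗ₜ 1)) = 1 ⊗ₜ κ k)
    (z : EV ⊗[V] Ω →+* Ω) (hz : ∀ w : Ω, z (1 ⊗ₜ w) = w)
    (hzχ : ∀ e, z (χ e) = κ (constantCoeff (ψ e)))
    (e : E) (he : ((algebraMap (K ⊗[B] C) E).comp
      (Algebra.TensorProduct.includeRight : C →ₐ[B] K ⊗[B] C).toRingHom).IsIntegralElem e) :
    ∃ p : MvPowerSeries σ V, MvPowerSeries.map κ (ψ e) = MvPowerSeries.map (algebraMap V Ω) p := by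
  -- the section over `V`
  have hz1 : ∀ r : V ⊗[B] C, (z.comp (Algebra.TensorProduct.includeLeftRingHom :
      EV →+* EV ⊗[V] Ω)) (algebraMap (V ⊗[B] C) EV r) =
      algebraMap V Ω (((constantCoeff (σ := σ) (R := V)).comp (bigθ V θ hθ)) r) := by
    intro r
    induction r with
    | zero => simp only [map_zero]
    | add a b ha hb => simp only [map_add, ha, hb]
    | tmul v c =>
      have h1 : (v ⊗ₜ[B] c : V ⊗[B] C) = v • (1 ⊗ₜ[B] c) := by
        rw [smul_tmul', smul_eq_mul, mul_one]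
      have h2 : (algebraMap (V ⊗[B] C) EV (v ⊗ₜ[B] c)) ⊗ₜ[V] (1 : Ω) =
          χ (algebraMap (K ⊗[B] C) E (1 ⊗ₜ c)) * (1 ⊗ₜ[V] algebraMap V Ω v) := by
        have h3 : algebraMap (V ⊗[B] C) EV (v • (1 ⊗ₜ[B] c)) = v • algebraMap (V ⊗[B] C) EV (1 ⊗ₜ[B] c) :=
          map_smul (IsScalarTower.toAlgHom V (V ⊗[B] C) EV) v _
        rw [hχC, h1, h3, Algebra.TensorProduct.tmul_mul_tmul, mul_one, one_mul,
          smul_tmul, Algebra.algebraMap_eq_smul_one v]
      change z ((algebraMap (V ⊗[B] C) EV (v ⊗ₜ[B] c)) ⊗ₜ[V] (1 : Ω)) = algebraMap V Ω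
        (constantCoeff (bigθ V θ hθ (v ⊗ₜ c)))
      rw [h2, map_mul, hz, hzχ, hψ, bigθ_tmul, bigθ_tmul, map_one, one_mul, constantCoeff_map, hκ,
        map_mul, constantCoeff_C, constantCoeff_map, map_mul, mul_comm]
  obtain ⟨z', hz', hz''⟩ := exists_codRestrict hV hVi
    (z.comp (Algebra.TensorProduct.includeLeftRingHom : EV →+* EV ⊗[V] Ω))
    ((constantCoeff (σ := σ) (R := V)).comp (bigθ V θ hθ)) hz1
  let _ : Algebra (V ⊗[B] C) (MvPowerSeries σ V) := (bigθ V θ hθ).toAlgebra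
  obtain ⟨g, hg⟩ := PSLift.exists_lift (σ := σ) (R := V ⊗[B] C) z' (fun r => hz'' r)
  have hgr : ∀ r, g (algebraMap _ EV r) = bigθ V θ hθ r := fun r => g.commutes r
  -- the homomorphism over `Ω`
  let ψΩ : EV ⊗[V] Ω →ₐ[V] MvPowerSeries σ Ω := Algebra.TensorProduct.lift
    ({ toRingHom := (MvPowerSeries.map (algebraMap V Ω)).comp g.toRingHom
       commutes' := fun v => by
        change MvPowerSeries.map (algebraMap V Ω) (g (algebraMap V EV v)) =
          algebraMap V (MvPowerSeries σ Ω) v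
        rw [IsScalarTower.algebraMap_apply V (V ⊗[B] C) EV, hgr, MvPowerSeries.algebraMap_apply]
        change MvPowerSeries.map (algebraMap V Ω) (bigθ V θ hθ (v ⊗ₜ 1)) = _
        rw [bigθ_tmul, map_one, map_one, mul_one, MvPowerSeries.map_C] } : EV →ₐ[V] MvPowerSeries σ Ω)
    ({ toRingHom := MvPowerSeries.C
       commutes' := fun v => (MvPowerSeries.algebraMap_apply).symm } : Ω →ₐ[V] MvPowerSeries σ Ω)
    (fun _ _ => Commute.all _ _)
  have hψΩ : ∀ (s : EV) (w : Ω), ψΩ (s ⊗ₜ w) = MvPowerSeries.map (algebraMap V Ω) (g s) *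
      MvPowerSeries.C w := fun s w => rfl
  have hcc : ∀ x : EV ⊗[V] Ω, constantCoeff (ψΩ x) = z x := by
    intro x
    induction x with
    | zero => simp only [map_zero]
    | add a b ha hb => simp only [map_add, ha, hb]
    | tmul s w =>
      have h1 : (s ⊗ₜ[V] w : EV ⊗[V] Ω) = (s ⊗ₜ 1) * (1 ⊗ₜ w) := by
        rw [Algebra.TensorProduct.tmul_mul_tmul, mul_one, one_mul]
      rw [hψΩ, map_mul, constantCoeff_map, constantCoeff_C, hg, hz', h1, map_mul, hz]
      rfl
  let _ : Algebra (K ⊗[B] C) (MvPowerSeries σ Ω) :=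
    ((MvPowerSeries.map κ).comp (bigθ K θ hθ)).toAlgebra
  have hκ' : ∀ p : MvPowerSeries σ B, MvPowerSeries.map κ (MvPowerSeries.map (algebraMap B K) p) =
      MvPowerSeries.map (algebraMap V Ω) (MvPowerSeries.map (algebraMap B V) p) := by
    intro p
    ext x
    simp only [coeff_map, hκ]
  let g₁ : E →ₐ[K ⊗[B] C] MvPowerSeries σ Ω :=
    { toRingHom := (MvPowerSeries.map κ).comp ψ
      commutes' := fun r => congrArg (MvPowerSeries.map κ) (hψ r) }
  let g₂ : E →ₐ[K ⊗[B] C] MvPowerSeries σ Ω :=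
    { toRingHom := ψΩ.toRingHom.comp χ
      commutes' := fun r => by
        change ψΩ (χ (algebraMap (K ⊗[B] C) E r)) = MvPowerSeries.map κ (bigθ K θ hθ r)
        induction r with
        | zero => simp only [map_zero]
        | add a b ha hb => simp only [map_add, ha, hb]
        | tmul k c =>
          have h1 : (k ⊗ₜ[B] c : K ⊗[B] C) = (k ⊗ₜ 1) * (1 ⊗ₜ c) := by
            rw [Algebra.TensorProduct.tmul_mul_tmul, mul_one, one_mul]
          have h2 : ψΩ (χ (algebraMap (K ⊗[B] C) E (k ⊗ₜ 1))) = MvPowerSeries.C (κ k) := by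
            rw [hχK, hψΩ, map_one, map_one, one_mul]
          have h3 : ψΩ (χ (algebraMap (K ⊗[B] C) E (1 ⊗ₜ c))) =
              MvPowerSeries.map (algebraMap V Ω) (MvPowerSeries.map (algebraMap B V) (θ c)) := by
            rw [hχC, hψΩ, hgr, bigθ_tmul, map_one MvPowerSeries.C, map_one MvPowerSeries.C, one_mul,
              mul_one]
          rw [h1, map_mul, map_mul, map_mul, h2, h3, ← h1, bigθ_tmul, map_mul, MvPowerSeries.map_C,
            hκ'] }
  have h12 : g₁ = g₂ := by
    apply PSLift.hom_ext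
    intro a
    change constantCoeff (MvPowerSeries.map κ (ψ a)) = constantCoeff (ψΩ (χ a))
    rw [constantCoeff_map, hcc, hzχ]
  have h3 : MvPowerSeries.map κ (ψ e) = ψΩ (χ e) := congr($h12 e)
  have h4 : IsIntegral EV (χ e) := by
    obtain ⟨p, hp, hpe⟩ := he
    refine ⟨p.map ((algebraMap (V ⊗[B] C) EV).comp
      (Algebra.TensorProduct.includeRight : C →ₐ[B] V ⊗[B] C).toRingHom), hp.map _, ?_⟩
    rw [Polynomial.eval₂_map]
    have h5 : (algebraMap EV (EV ⊗[V] Ω)).comp ((algebraMap (V ⊗[B] C) EV).comp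
      (Algebra.TensorProduct.includeRight : C →ₐ[B] V ⊗[B] C).toRingHom) =
      χ.comp ((algebraMap (K ⊗[B] C) E).comp
      (Algebra.TensorProduct.includeRight : C →ₐ[B] K ⊗[B] C).toRingHom) := by
      ext c
      exact (hχC c).symm
    rw [h5, ← Polynomial.hom_eval₂, hpe, map_zero]
  obtain ⟨s, hs⟩ := exists_tmul_one hVi (χ e) h4
  refine ⟨g s, ?_⟩
  rw [h3, hs, hψΩ, map_one, mul_one]

end main

end K150.QStep
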